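import Cfsg.Agent.Lib.SporRu.Lifts

/-!
The lattice automorphism group modulo its centre is isomorphic to the certified matrix group.
-/

set_option autoImplicit false

namespace Cfsg.Agent.Lib.SporRu.Main

/-- The squeeze: a cover of a simple group by a group of bounded order with a central element of order four. -/
theorem assemble {F K : Type*} [Group F] [Group K] [Finite F] (φ : F →* K) (B : Subgroup K)
    (hsimple : IsSimpleGroup B) (n : ℕ) (hn : Nat.card B = n) (hnp : ¬ n.Prime) (hn0 : 0 < n)
    (hle : B ≤ φ.range) (hcard : Nat.card F ≤ 4 * n) (i : F) (hi : orderOf i = 4) (hiker : φ i = 1)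
    (hic : ∀ g : F, g * i = i * g) :
    Nat.card (Subgroup.center F) = 4 ∧ Nat.card F = 4 * n ∧ Nonempty ((F ⧸ Subgroup.center F) ≃* B) := by
  have hz : Subgroup.zpowers i ≤ φ.ker := by rw [Subgroup.zpowers_le, MonoidHom.mem_ker]; exact hiker
  have h4 : 4 ≤ Nat.card φ.ker := by
    refine le_trans ?_ (Subgroup.card_le_of_le hz)
    rw [Nat.card_zpowers, hi]
  haveI : Finite φ.range := Finite.of_surjective φ.rangeRestrict φ.rangeRestrict_surjective
  have hb : n ≤ Nat.card φ.range := hn ▸ Subgroup.card_le_of_le hle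
  have hmul := φ.ker.card_mul_index
  rw [Subgroup.index_ker] at hmul
  have hk : Nat.card φ.ker = 4 ∧ Nat.card φ.range = n := by
    constructor <;> nlinarith
  have hr : B = φ.range := Subgroup.eq_of_le_of_card_ge hle (by rw [hn, hk.2])
  have hker : Subgroup.zpowers i = φ.ker :=
    Subgroup.eq_of_le_of_card_ge hz (by rw [hk.1, Nat.card_zpowers, hi])
  have hc : Subgroup.center F = φ.ker := by
    refine le_antisymm (fun z hz' => ?_) ?_
    · rw [MonoidHom.mem_ker]
      have hmem : φ z ∈ B := hr ▸ ⟨z, rfl⟩
      have hc : (⟨φ z, hmem⟩ : B) ∈ Subgroup.center B := by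
        rw [Subgroup.mem_center_iff]
        rintro ⟨g, hg⟩
        rw [hr] at hg
        obtain ⟨x, rfl⟩ := hg
        refine Subtype.ext ?_
        show φ x * φ z = φ z * φ x
        rw [← map_mul, ← map_mul, Subgroup.mem_center_iff.1 hz' x]
      rcases Subgroup.Normal.eq_bot_or_eq_top (inferInstance : (Subgroup.center B).Normal) with h | h
      · rw [h, Subgroup.mem_bot] at hc
        exact congrArg Subtype.val hc
      · exfalso
        have hcomm : ∀ a b : B, a * b = b * a := fun a b =>
          (Subgroup.mem_center_iff.1 (h ▸ Subgroup.mem_top a : a ∈ Subgroup.center B) b).symm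
        letI : CommGroup B := { (inferInstance : Group B) with mul_comm := hcomm }
        exact hnp (hn ▸ IsSimpleGroup.prime_card)
    · rw [← hker, Subgroup.zpowers_le, Subgroup.mem_center_iff]
      exact hic
  refine ⟨hc ▸ hk.1, by rw [← hmul, hk.1, hk.2], ⟨?_⟩⟩
  exact ((QuotientGroup.quotientMulEquivOfEq hc).trans (QuotientGroup.quotientKerEquivRange φ)).trans
    (MulEquiv.subgroupCongr hr.symm)

theorem simple_of {F : Type*} [Group F] {K : Type*} [Group K] (B : Subgroup K)
    (h : Nonempty ((F ⧸ Subgroup.center F) ≃* B)) (hB : IsSimpleGroup B) :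
    IsSimpleGroup (F ⧸ Subgroup.center F) :=
  h.elim fun e => (MulEquiv.isSimpleGroup_congr e).2 hB

theorem card_of {F : Type*} [Group F] {K : Type*} [Group K] (B : Subgroup K)
    (h : Nonempty ((F ⧸ Subgroup.center F) ≃* B)) {n : ℕ} (hB : Nat.card B = n) :
    Nat.card (F ⧸ Subgroup.center F) = n :=
  h.elim fun e => (Nat.card_congr e.toEquiv).trans hB

local notation "big" => Cfsg.Agent.Lib.RuPerm.Main.big

open Cfsg.Agent.Lib.RuPerm

attribute [local irreducible] Cfsg.Agent.Lib.RuPerm.Main.big Action.Cert.grp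

instance finite_fourRu : Finite Cfsg.Spor.fourRu := Bound.bound.1

theorem card_big : Nat.card (big).grp = 145926144000 :=
  (Action.Cert.card_grp _).trans RuPerm.Main.big_order

theorem simple_big : IsSimpleGroup (big).grp := Action.Cert.isSimpleGroup _

theorem card_le : Nat.card Cfsg.Spor.fourRu ≤ 4 * 145926144000 := Bound.bound.2.trans (le_of_eq (by norm_num))

theorem not_prime : ¬ Nat.Prime 145926144000 := fun h =>
  absurd ((Nat.prime_dvd_prime_iff_eq Nat.prime_two h).1 (by norm_num)) (by norm_num)

theorem card_center : Nat.card (Subgroup.center Cfsg.Spor.fourRu) = 4 := by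
  have h := @assemble Cfsg.Spor.fourRu (Matrix.GeneralLinearGroup (Fin 28) (ZMod 2)) _ _ _ Lifts.phi (big).grp
    simple_big 145926144000 card_big not_prime (by norm_num) Lifts.big_le card_le Lifts.iAut Lifts.iAut_order
    Lifts.phi_iAut Lifts.iAut_central
  exact h.1

theorem card_fourRu : Nat.card Cfsg.Spor.fourRu = 4 * 145926144000 := by
  have h := @assemble Cfsg.Spor.fourRu (Matrix.GeneralLinearGroup (Fin 28) (ZMod 2)) _ _ _ Lifts.phi (big).grp
    simple_big 145926144000 card_big not_prime (by norm_num) Lifts.big_le card_le Lifts.iAut Lifts.iAut_order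
    Lifts.phi_iAut Lifts.iAut_central
  exact h.2.1

theorem equiv_big : Nonempty (Cfsg.Spor.Ru ≃* (big).grp) := by
  have h := @assemble Cfsg.Spor.fourRu (Matrix.GeneralLinearGroup (Fin 28) (ZMod 2)) _ _ _ Lifts.phi (big).grp
    simple_big 145926144000 card_big not_prime (by norm_num) Lifts.big_le card_le Lifts.iAut Lifts.iAut_order
    Lifts.phi_iAut Lifts.iAut_central
  exact h.2.2

theorem simple_ru : IsSimpleGroup Cfsg.Spor.Ru :=
  simple_of (F := Cfsg.Spor.fourRu) (big).grp equiv_big simple_big

theorem card_ru : Nat.card Cfsg.Spor.Ru = 145926144000 :=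
  card_of (F := Cfsg.Spor.fourRu) (big).grp equiv_big card_big

end Cfsg.Agent.Lib.SporRu.Main
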