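import Cfsg.Agent.Lib.SporRu.Member

/-!
Lattice automorphisms as additive maps preserving dot products and commuting with multiplication by i.
-/

set_option autoImplicit false

namespace Cfsg.Agent.Lib.SporRu.Auto

open Cfsg.Spor Cfsg.Agent.Lib.RuLattice Vec

/-- The Gaussian vector with given real coordinates. -/
def unflat (x : V56) : RuVec := fun p =>
  ⟨x (Fin.ofNat 56 (8 * p.1.1 + 2 * p.2.1)), x (Fin.ofNat 56 (8 * p.1.1 + 2 * p.2.1 + 1))⟩

theorem flat_unflat (x : V56) : Basic.flat (unflat x) = x := by
  funext i
  have := i.2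
  simp only [Basic.flat, unflat]
  split_ifs with h
  · exact congrArg x (Fin.ext (by simp only [Fin.val_ofNat]; omega))
  · exact congrArg x (Fin.ext (by simp only [Fin.val_ofNat]; omega))

/-- The lattice point with given coordinates. -/
def mkL (x : V56) (h : Basic.InM x) : ruLattice :=
  ⟨unflat x, Member.mem_iff.2 (by rw [flat_unflat]; exact h)⟩

/-- The coordinates of a lattice point. -/
def fl (v : ruLattice) : V56 := Basic.flat (v : RuVec)

theorem fl_mkL (x : V56) (h : Basic.InM x) : fl (mkL x h) = x := flat_unflat x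

theorem fl_inM (v : ruLattice) : Basic.InM (fl v) := Member.mem_iff.1 v.2

theorem fl_injective : Function.Injective fl := fun _ _ h => Subtype.ext (flat_injective h)

theorem fl_add (v w : ruLattice) : fl (v + w) = fl v + fl w := Basic.flat_add _ _

/-- The coordinates as an additive map. -/
def flHom : ruLattice →+ V56 := AddMonoidHom.mk' fl fl_add

theorem flHom_apply (v : ruLattice) : flHom v = fl v := rfl

theorem fl_ruI (v : ruLattice) : fl (ruI v) = rot (fl v) := flat_gI _

theorem norm_fl (v : ruLattice) : ruNorm (v : RuVec) = dot (fl v) (fl v) := by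
  rw [Basic.ruNorm_eq, dot]
  exact Finset.sum_congr rfl fun i _ => sq _

/-- A lattice automorphism as an additive map. -/
def hom (f : fourRu) : ruLattice →+ ruLattice := AddMonoidHom.mk' (f : Equiv.Perm ruLattice) f.2.1

theorem hom_apply (f : fourRu) (v : ruLattice) : hom f v = (f : Equiv.Perm ruLattice) v := rfl

theorem act_eq (f : fourRu) (v : ruLattice) : f • v = hom f v := rfl

theorem hom_ruI (f : fourRu) (v : ruLattice) : hom f (ruI v) = ruI (hom f v) := f.2.2.1 v

theorem dot_hom_self (f : fourRu) (v : ruLattice) :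
    dot (fl (hom f v)) (fl (hom f v)) = dot (fl v) (fl v) := by
  rw [← norm_fl, ← norm_fl]
  exact f.2.2.2 v

theorem dot_hom (f : fourRu) (v w : ruLattice) :
    dot (fl (hom f v)) (fl (hom f w)) = dot (fl v) (fl w) := by
  have h := dot_hom_self f (v + w)
  rw [map_add, fl_add, fl_add, dot_add_left, dot_add_right, dot_add_right, dot_add_left,
    dot_add_right, dot_add_right, dot_hom_self f v, dot_hom_self f w,
    dot_comm (fl (hom f w)) (fl (hom f v)), dot_comm (fl w) (fl v)] at h
  omega

theorem dot_hom_rot (f : fourRu) (v w : ruLattice) :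
    dot (fl (hom f v)) (rot (fl (hom f w))) = dot (fl v) (rot (fl w)) := by
  rw [← fl_ruI, ← hom_ruI, dot_hom, fl_ruI]

end Cfsg.Agent.Lib.SporRu.Auto
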