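import Cfsg.Agent.Lib.SporRu.Key

/-!
The chain of stabilisers of six base vectors bounds the order of the lattice automorphism group.
-/

set_option autoImplicit false
set_option maxRecDepth 100000

namespace Cfsg.Agent.Lib.SporRu.Bound

open Cfsg.Spor Cfsg.Agent.Lib.RuLattice Vec EnumDefs BoundData Stats Key Auto

/-- The residue check of a vector against a certificate. -/
def certB (l : List ℤ) (c : List ℕ) : Bool :=
  idsOk c && (List.range 56).all fun i => l.getD i 0 % 4 == (Basic.pval (Basic.combo c) i : ℤ)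

theorem inM_of_cert {l : List ℤ} {c : List ℕ} (h : certB l c = true) : Basic.InM (toV l) := by
  simp only [certB, Bool.and_eq_true, List.all_eq_true, List.mem_range, beq_iff_eq] at h
  exact ⟨_, Enum.span_combo h.1, fun i => h.2 i i.2⟩

theorem base_cert : ∀ k : Fin 6, certB (baseL.getD k.1 []) (baseCert.getD k.1 []) = true := by decide +kernel

theorem sel_cert : ∀ j : Fin 28, certB (selL.getD j.1 []) (selCert.getD j.1 []) = true := by decide +kernel

theorem base_norm : ∀ k : Fin 6, dot (toV (baseL.getD k.1 [])) (toV (baseL.getD k.1 [])) = 16 := by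
  decide +kernel

theorem sel_norm : ∀ j : Fin 28, dot (toV (selL.getD j.1 [])) (toV (selL.getD j.1 [])) = 16 := by
  decide +kernel

/-- A base vector. -/
def base (k : Fin 6) : ruLattice := mkL _ (inM_of_cert (base_cert k))

/-- A separating vector. -/
def sel (j : Fin 28) : ruLattice := mkL _ (inM_of_cert (sel_cert j))

/-- All listed vectors with their scales. -/
def cands : List (ℕ × (ℕ × ℕ)) :=
  Enum.fourVecs.map (fun pn => (4, pn)) ++ Enum.signVecs.map (fun pn => (1, pn))

/-- The vector of a listed entry. -/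
def vecOf (c : ℕ × (ℕ × ℕ)) : V56 := mvec c.1 c.2.1 c.2.2

theorem mem_cands {x : V56} (hx : Basic.InM x) (hn : dot x x = 16) : ∃ c ∈ cands, x = vecOf c := by
  have hn' : ∑ i, x i ^ 2 = 16 := by rw [← hn, dot]; exact Finset.sum_congr rfl fun i _ => sq _
  rcases Enum.short_vectors hx hn' with ⟨pn, h, e⟩ | ⟨pn, h, e⟩
  · exact ⟨(4, pn), List.mem_append_left _ (List.mem_map.2 ⟨pn, h, rfl⟩), by simpa [vecOf] using e⟩
  · exact ⟨(1, pn), List.mem_append_right _ (List.mem_map.2 ⟨pn, h, rfl⟩), by simpa [vecOf] using e⟩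

/-- The class sizes. -/
def sizeL : List ℕ := [16240, 2304, 78, 2, 25, 4]

theorem countP_class (k : Fin 6) :
    cands.countP (fun c => inClass k.1 (nkey c.1 c.2)) = sizeL.getD k.1 0 := by
  have h : cands.countP (fun c => inClass k.1 (nkey c.1 c.2)) =
      count 4 Enum.fourVecs k.1 + count 1 Enum.signVecs k.1 := by
    simp only [cands, count, List.countP_append, List.countP_map, Function.comp_def]
  obtain ⟨a0, b0, a1, b1, a2, b2, a3, b3, a4, b4, a5, b5, -, -⟩ := counts
  rw [h]
  fin_cases k <;> simp only [sizeL, List.getD_cons_zero, List.getD_cons_succ] <;> omega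

theorem countP_sel : cands.countP (fun c => !Nat.beq (selTree.get (nkey c.1 c.2)) 0) = 28 := by
  have h : cands.countP (fun c => !Nat.beq (selTree.get (nkey c.1 c.2)) 0) =
      countSel 4 Enum.fourVecs + countSel 1 Enum.signVecs := by
    simp only [cands, countSel, List.countP_append, List.countP_map, Function.comp_def]
  obtain ⟨-, -, -, -, -, -, -, -, -, -, -, -, a, b⟩ := counts
  omega

attribute [local irreducible] cands vecOf

/-- The pointwise stabiliser of the first `k` base vectors. -/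
def H (k : ℕ) : Subgroup fourRu := ⨅ (j : Fin 6) (_ : j.1 < k), MulAction.stabilizer fourRu (base j)

theorem mem_H {k : ℕ} {f : fourRu} : f ∈ H k ↔ ∀ j : Fin 6, j.1 < k → hom f (base j) = base j := by
  simp only [H, Subgroup.mem_iInf, MulAction.mem_stabilizer_iff, act_eq]

theorem H_zero : H 0 = ⊤ := top_unique fun f _ => mem_H.2 fun j hj => absurd hj (Nat.not_lt_zero _)

theorem funcL_two (j : Fin 6) :
    toV (funcL (2 * j.1)) = fl (base j) ∧ toV (funcL (2 * j.1 + 1)) = rot (fl (base j)) := by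
  constructor
  · rw [funcL, if_pos (by omega), show 2 * j.1 / 2 = j.1 by omega, base, fl_mkL]
  · rw [funcL, if_neg (by omega), show (2 * j.1 + 1) / 2 = j.1 by omega, base, fl_mkL, rot,
      Member.toV_spermL]

theorem dots_fix {k : ℕ} {f : fourRu} (hf : f ∈ H k) (hk : k ≤ 6) (v : ruLattice) :
    ∀ j < 2 * k, dot (fl (hom f v)) (toV (funcL j)) = dot (fl v) (toV (funcL j)) := by
  intro j hj
  have hb := mem_H.1 hf ⟨j / 2, by omega⟩ (show j / 2 < k by omega)
  obtain ⟨h0, h1⟩ := funcL_two ⟨j / 2, by omega⟩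
  rcases Nat.mod_two_eq_zero_or_one j with hm | hm
  · rw [show j = 2 * (j / 2) by omega, h0]
    conv_lhs => rw [← hb]
    exact dot_hom f _ _
  · rw [show j = 2 * (j / 2) + 1 by omega, h1]
    conv_lhs => rw [← hb]
    exact dot_hom_rot f _ _

theorem orbit_le (k : Fin 6) : (MulAction.orbit (H k.1) (base k)).ncard ≤ sizeL.getD k.1 0 := by
  classical
  set F := cands.filter fun c => inClass k.1 (nkey c.1 c.2) with hF
  have hsub : fl '' MulAction.orbit (H k.1) (base k) ⊆ ↑(F.map vecOf).toFinset := by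
    rintro - ⟨y, ⟨⟨f, hf⟩, rfl⟩, rfl⟩
    show fl (hom f (base k)) ∈ (↑(F.map vecOf).toFinset : Set V56)
    obtain ⟨c, hc, e⟩ := mem_cands (fl_inM (hom f (base k))) (by
      rw [dot_hom_self, base, fl_mkL]; exact base_norm k)
    rw [List.coe_toFinset, e]
    refine List.mem_map.2 ⟨c, List.mem_filter.2 ⟨hc, ?_⟩, rfl⟩
    refine inClass_of k.2 fun j hj => ?_
    have := dots_fix hf k.2.le (base k) j hj
    rw [e] at this
    simp only [vecOf] at this
    rw [this, base, fl_mkL]
  rw [← Set.ncard_image_of_injective _ fl_injective]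
  refine (Set.ncard_le_ncard hsub (Finset.finite_toSet _)).trans ?_
  rw [Set.ncard_coe_finset]
  refine (List.toFinset_card_le _).trans ?_
  rw [List.length_map, hF, ← List.countP_eq_length_filter, countP_class k]

theorem nkey_sel (j : Fin 28) {c : ℕ × (ℕ × ℕ)}
    (h : ∀ i < 12, dot (vecOf c) (toV (funcL i)) = dot (fl (sel j)) (toV (funcL i))) :
    nkey c.1 c.2 = selKeys.getD j.1 0 := by
  have hk : key (vecOf c) = key (toV (selL.getD j.1 [])) := by
    simp only [key]
    refine Finset.sum_congr rfl fun i hi => ?_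
    rw [h i (Finset.mem_range.1 hi), sel, fl_mkL]
  have e : (nkey c.1 c.2 : ℤ) = (selKeys.getD j.1 0 : ℤ) := by
    rw [nkey_eq, sel_keys j]
    simp only [vecOf] at hk
    rw [hk]
  exact_mod_cast e

theorem sel_unique {a b : ℕ × (ℕ × ℕ)} (ha : a ∈ cands) (hb : b ∈ cands) (j : Fin 28)
    (hka : nkey a.1 a.2 = selKeys.getD j.1 0) (hkb : nkey b.1 b.2 = selKeys.getD j.1 0) : a = b := by
  classical
  set P : ℕ × (ℕ × ℕ) → Bool := fun c => !Nat.beq (selTree.get (nkey c.1 c.2)) 0 with hP
  set F := cands.filter P with hF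
  have hlen : F.length = 28 := by rw [hF, ← List.countP_eq_length_filter, hP, countP_sel]
  have hmem : ∀ c ∈ cands, ∀ i : Fin 28, nkey c.1 c.2 = selKeys.getD i.1 0 → c ∈ F := by
    intro c hc i hi
    refine List.mem_filter.2 ⟨hc, ?_⟩
    simp only [hP, hi, sel_tree i]
    rfl
  let val : ℕ × (ℕ × ℕ) → ℕ := fun c => selTree.get (nkey c.1 c.2)
  have hsub : (Finset.univ : Finset (Fin 28)).image (fun i => i.1 + 1) ⊆ (F.map val).toFinset := by
    intro n hn
    obtain ⟨i, -, rfl⟩ := Finset.mem_image.1 hn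
    obtain ⟨c, hc, e⟩ := mem_cands (fl_inM (sel i)) (by rw [sel, fl_mkL]; exact sel_norm i)
    have hk := nkey_sel i (c := c) (fun t _ => by rw [e])
    refine List.mem_toFinset.2 (List.mem_map.2 ⟨c, hmem c hc i hk, ?_⟩)
    simp only [val, hk, sel_tree i]
  have hcard := Finset.card_le_card hsub
  rw [Finset.card_image_of_injective _ (fun x y h => Fin.ext (Nat.succ_injective h)), Finset.card_univ,
    Fintype.card_fin] at hcard
  have hnd : (F.map val).Nodup := by
    rw [List.card_toFinset] at hcard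
    have he : (F.map val).dedup = F.map val := (List.dedup_sublist _).eq_of_length (le_antisymm
      (List.dedup_sublist _).length_le (by rw [List.length_map, hlen]; exact hcard))
    rw [← he]
    exact List.nodup_dedup _
  refine List.inj_on_of_nodup_map hnd (hmem a ha j hka) (hmem b hb j hkb) ?_
  simp only [val, hka, hkb]

theorem sel_fixed {f : fourRu} (hf : f ∈ H 6) (j : Fin 28) : hom f (sel j) = sel j := by
  obtain ⟨a, ha, ea⟩ := mem_cands (fl_inM (hom f (sel j))) (by
    rw [dot_hom_self, sel, fl_mkL]; exact sel_norm j)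
  obtain ⟨b, hb, eb⟩ := mem_cands (fl_inM (sel j)) (by rw [sel, fl_mkL]; exact sel_norm j)
  have h := sel_unique ha hb j
    (nkey_sel j fun i hi => by rw [← ea]; exact dots_fix hf le_rfl (sel j) i (by omega))
    (nkey_sel j fun i _ => by rw [← eb])
  exact fl_injective (by rw [ea, eb, h])

theorem unit_check : ∀ h : Fin 28, 0 < (unitExp.getD h.1 (0, [])).1 ∧ ∀ r : Fin 56,
    ∑ j : Fin 28, (((unitExp.getD h.1 (0, [])).2.getD j.1 (0, 0)).1 * toV (selL.getD j.1 []) r +
      ((unitExp.getD h.1 (0, [])).2.getD j.1 (0, 0)).2 * rot (toV (selL.getD j.1 [])) r) =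
    (unitExp.getD h.1 (0, [])).1 * Member.four (2 * h.1) r := by
  decide +kernel

/-- Four times a unit vector. -/
def unit4 (r : Fin 56) : ruLattice := mkL (Member.four r.1) (Member.inM_of_inL (Member.inL_four r))

theorem unit4_fixed {f : fourRu} (hf : f ∈ H 6) (h : Fin 28) :
    hom f (unit4 ⟨2 * h.1, by omega⟩) = unit4 ⟨2 * h.1, by omega⟩ := by
  obtain ⟨hD, hsum⟩ := unit_check h
  set D := (unitExp.getD h.1 (0, [])).1
  set cs := (unitExp.getD h.1 (0, [])).2
  set X : ruLattice := ∑ j : Fin 28, ((cs.getD j.1 (0, 0)).1 • sel j + (cs.getD j.1 (0, 0)).2 • ruI (sel j))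
  have hX : X = D • unit4 ⟨2 * h.1, by omega⟩ := by
    apply fl_injective
    rw [← flHom_apply, ← flHom_apply, map_sum, map_zsmul]
    funext r
    simp only [Finset.sum_apply, Pi.smul_apply, smul_eq_mul, map_add, map_zsmul, Pi.add_apply,
      flHom_apply, fl_ruI, unit4, sel, fl_mkL]
    exact hsum r
  have hfix : hom f X = X := by
    simp only [X, map_sum, map_add, map_zsmul, hom_ruI, sel_fixed hf]
  rw [hX, map_zsmul] at hfix
  apply fl_injective
  have e := congrArg fl hfix
  rw [← flHom_apply, ← flHom_apply, map_zsmul, map_zsmul] at e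
  exact smul_right_injective V56 hD.ne' e

theorem fixed_all {f : fourRu} (hf : f ∈ H 6) (v : ruLattice) : hom f v = v := by
  have hE : ∀ r : Fin 56, hom f (unit4 r) = unit4 r := by
    have hI : ∀ h : Fin 28, ruI (unit4 ⟨2 * h.1, by omega⟩) = unit4 ⟨2 * h.1 + 1, by omega⟩ := by
      intro h
      apply fl_injective
      rw [fl_ruI, unit4, unit4, fl_mkL, fl_mkL]
      revert h
      decide +kernel
    intro r
    rcases Nat.mod_two_eq_zero_or_one r.1 with hm | hm
    · have := unit4_fixed hf ⟨r.1 / 2, by omega⟩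
      rwa [show (⟨2 * (r.1 / 2), by omega⟩ : Fin 56) = r from Fin.ext (by simp only; omega)] at this
    · have e := hI ⟨r.1 / 2, by omega⟩
      rw [show (⟨2 * (r.1 / 2) + 1, by omega⟩ : Fin 56) = r from Fin.ext (by simp only; omega)] at e
      rw [← e, hom_ruI, unit4_fixed hf ⟨r.1 / 2, by omega⟩]
  have h4 : (4 : ℤ) • v = ∑ r : Fin 56, fl v r • unit4 r := by
    apply fl_injective
    rw [← flHom_apply, ← flHom_apply, map_sum, map_zsmul]
    funext i
    simp only [Finset.sum_apply, Pi.smul_apply, smul_eq_mul, map_zsmul, flHom_apply, unit4, fl_mkL,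
      Member.four]
    rw [Finset.sum_eq_single i]
    · simp [mul_comm]
    · intro r _ hr; rw [if_neg (fun h => hr (Fin.ext h.symm)), mul_zero]
    · intro h; exact absurd (Finset.mem_univ i) h
  have e : hom f ((4 : ℤ) • v) = (4 : ℤ) • v := by
    rw [h4, map_sum]
    simp only [map_zsmul, hE]
  rw [map_zsmul] at e
  apply fl_injective
  have e' := congrArg fl e
  rw [← flHom_apply, ← flHom_apply, map_zsmul, map_zsmul] at e'
  exact smul_right_injective V56 (show (4 : ℤ) ≠ 0 by norm_num) e'

theorem H_six : H 6 = ⊥ := by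
  rw [eq_bot_iff]
  intro f hf
  rw [Subgroup.mem_bot]
  exact Subtype.ext (Equiv.ext fun v => fixed_all hf v)

attribute [local irreducible] H base

theorem hom_base_mem (k : Fin 6) (f : fourRu) : fl (hom f (base k)) ∈ cands.map vecOf := by
  obtain ⟨c, hc, e⟩ := mem_cands (fl_inM (hom f (base k))) (by
    rw [dot_hom_self, base, fl_mkL]; exact base_norm k)
  exact List.mem_map.2 ⟨c, hc, e.symm⟩

theorem orbit_finite (k : Fin 6) : (MulAction.orbit (H k.1) (base k)).Finite := by
  refine Set.Finite.of_finite_image ?_ (fl_injective.injOn)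
  have hsub : fl '' MulAction.orbit (H k.1) (base k) ⊆ {x | x ∈ cands.map vecOf} := by
    rintro x ⟨y, ⟨g, rfl⟩, rfl⟩
    exact hom_base_mem k g.1
  exact (List.finite_toSet _).subset hsub

theorem H_step (k : Fin 6) :
    Finite (H (k.1 + 1)) → Finite (H k.1) ∧ Nat.card (H k.1) ≤ sizeL.getD k.1 0 * Nat.card (H (k.1 + 1)) := by
  intro hfin
  set St := MulAction.stabilizer (H k.1) (base k)
  have hmem : ∀ g : H k.1, g ∈ St → (g : fourRu) ∈ H (k.1 + 1) := by
    intro g hg
    refine mem_H.2 fun j hj => ?_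
    rcases Nat.lt_succ_iff_lt_or_eq.1 hj with h | h
    · exact mem_H.1 g.2 j h
    · rw [Fin.ext h, ← act_eq]
      exact hg
  let ι : St → H (k.1 + 1) := fun g => ⟨(g.1 : fourRu), hmem g.1 g.2⟩
  have hι : Function.Injective ι := fun a b h =>
    Subtype.ext (Subtype.ext (congrArg (fun x : H (k.1 + 1) => (x : fourRu)) h))
  have hS : Finite St := Finite.of_injective ι hι
  have hle : Nat.card St ≤ Nat.card (H (k.1 + 1)) := Nat.card_le_card_of_injective ι hι
  have hfo := orbit_finite k
  have := hfo.to_subtype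
  have hQ : Finite (H k.1 ⧸ St) :=
    Finite.of_equiv _ (MulAction.orbitEquivQuotientStabilizer (H k.1) (base k))
  have hG : Finite (H k.1) := Finite.of_equiv _ (Subgroup.groupEquivQuotientProdSubgroup (s := St)).symm
  refine ⟨hG, ?_⟩
  rw [← Subgroup.card_mul_index St, MulAction.index_stabilizer, Nat.mul_comm]
  exact Nat.mul_le_mul (orbit_le k) hle

theorem bound : Finite fourRu ∧ Nat.card fourRu ≤ 583704576000 := by
  have h6 : Finite (H 6) ∧ Nat.card (H 6) ≤ 1 := by rw [H_six]; exact ⟨inferInstance, by simp⟩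
  obtain ⟨i5, c5⟩ := H_step 5 h6.1
  obtain ⟨i4, c4⟩ := H_step 4 i5
  obtain ⟨i3, c3⟩ := H_step 3 i4
  obtain ⟨i2, c2⟩ := H_step 2 i3
  obtain ⟨i1, c1⟩ := H_step 1 i2
  obtain ⟨i0, c0⟩ := H_step 0 i1
  have e : Nat.card (H 0) = Nat.card fourRu := by rw [H_zero]; exact Nat.card_congr Subgroup.topEquiv.toEquiv
  refine ⟨?_, ?_⟩
  · have : Finite (⊤ : Subgroup fourRu) := H_zero ▸ i0
    exact Finite.of_equiv _ Subgroup.topEquiv.toEquiv
  · simp only [sizeL, Fin.val_zero, Fin.val_one, Fin.val_two] at c0 c1 c2 c3 c4 c5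
    norm_num at c0 c1 c2 c3 c4 c5
    rw [← e]
    have := h6.2
    nlinarith

end Cfsg.Agent.Lib.SporRu.Bound
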