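import Cfsg.Agent.Lib.SporRu.F5Code
import Cfsg.Agent.Lib.SporRu.CodeData
import Cfsg.Agent.Lib.SporRu.OrbitData

/-!
Kernel checks on the packed matrices: the straight-line program and the basic relations.
-/

set_option autoImplicit false
set_option maxRecDepth 100000

namespace Cfsg.Agent.Lib.SporRu.CodeCheck

open F5Code CodeData

/-- The matrix of a step. -/
def code (k : ℕ) : ℕ := (chunks.getD (k / chunkSize) []).getD (k % chunkSize) 0

/-- The step. -/
def step (k : ℕ) : ℕ × ℕ := (steps.getD (k / chunkSize) []).getD (k % chunkSize) (0, 0)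

/-- A power. -/
def powC (N : ℕ) : ℕ → ℕ
  | 0 => one
  | n + 1 => mul N (powC N n)

/-- A product along a word. -/
def wordC (cs : List ℕ) : List ℕ → ℕ
  | [] => one
  | i :: l => mul (cs.getD i one) (wordC cs l)

/-- The steps of one chunk are right. -/
def chunkOk (c : ℕ) : Bool :=
  let cs := chunks.getD c []
  let st := steps.getD c []
  (List.range chunkSize).all fun i =>
    let k := c * chunkSize + i
    bif Nat.ble 2 k && Nat.blt k count then
      let ij := st.getD i (0, 0)
      Nat.blt ij.1 k && Nat.blt ij.2 k && Nat.beq (cs.getD i 0) (mul (code ij.1) (code ij.2))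
    else true

/-- The lanes are reduced. -/
def goodB (N : ℕ) : Bool :=
  Nat.beq (Nat.shiftRight N 7840) 0 && (List.range 784).all fun t => Nat.blt (lane 10 N t) 5

/-- Multiplication by i. -/
def iCode : ℕ := pk 10 (fun t => bif Nat.beq (t / 28) (t % 28) then 2 else 0) 784

theorem chunks_ok : (List.range 7).all chunkOk = true := by decide +kernel

theorem count_le : count ≤ 7 * chunkSize := by decide +kernel

theorem base_good : goodB codeA = true ∧ goodB codeB = true ∧ goodB iCode = true := by decide +kernel

theorem base_ok : code 0 = powC codeB 4 ∧ code 1 = powC (mul codeA codeB) 88 := by decide +kernel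

theorem orders_ok : powC (code 0) 3 = one ∧ powC (code 1) 29 = one ∧ powC iCode 4 = one ∧
    powC (code idxSeven) 7 = one ∧ powC (code idxThirteen) 13 = one := by decide +kernel

theorem apart_ok : code 1 ≠ one ∧ code idxSeven ≠ one ∧ code idxThirteen ≠ one ∧
    mul codeA codeB ≠ mul codeB codeA ∧
    iCode ≠ one ∧ powC iCode 2 ≠ one ∧ powC iCode 3 ≠ one := by decide +kernel

theorem negOne_ok : code idxNegOne = powC iCode 2 := by decide +kernel

theorem idx_lt : idxSeven < count ∧ idxThirteen < count ∧ idxNegOne < count ∧ 1 < count := by decide +kernel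

end Cfsg.Agent.Lib.SporRu.CodeCheck
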