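import Cfsg.Agent.Lib.SporRu.Gamma
import Cfsg.Agent.Lib.Schur.PcCollect

/-!
A checker for presentations of subgroups of the double cover: relations by packed products, independence
of the generators by invariant sets of vectors.
-/

set_option autoImplicit false
set_option maxRecDepth 100000

namespace Cfsg.Agent.Lib.SporRu.Engine

open F5Code CodeData CodeCheck Gamma OrbitData Psi
open Cfsg.Spor
open Cfsg.Agent.Lib.Schur
open Cfsg.Agent.Lib.Schur.PcCollect (Data)

/-- The code of a named generator. -/
def gc (I : List ℕ) (i : ℕ) : ℕ := code (I.getD i 0)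

/-- The code of a word in named generators. -/
def wordG (I : List ℕ) : List ℕ → ℕ
  | [] => one
  | i :: l => F5Code.mul (gc I i) (wordG I l)

/-- The names are steps of the program. -/
def idxOk (I : List ℕ) : Bool := I.all fun k => Nat.blt k count

/-- The relations hold. -/
def relOk (D : Data) (I : List ℕ) : Bool :=
  (List.range D.n).all fun i => (List.range (i + 1)).all fun j =>
    Nat.beq (wordG I (D.lhs i j)) (wordG I (D.rhs i j))

/-- Each generator moves a vector out of a set that the later ones preserve. -/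
def sepOk (D : Data) (I : List ℕ) (sep : List (ℕ × List ℕ)) : Bool :=
  (List.range D.n).all fun j =>
    let xo := sep.getD j (0, [])
    xo.2.all goodB && xo.2.elem xo.1 &&
      (List.range (D.n - (j + 1))).all (fun d => xo.2.all fun o =>
        xo.2.elem (F5Code.mul (gc I (j + 1 + d)) o)) &&
      !xo.2.elem (F5Code.mul (gc I j) xo.1)

/-- The conjugations hold. -/
def conjOk (D : Data) (I J : List ℕ) : Bool :=
  (List.range D.conjs.length).all fun c =>
    let uv := D.conjs.getD c ([], [])
    (List.range uv.1.length).all fun k =>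
      Nat.beq (F5Code.mul (gc J c) (wordG I (uv.1.getD k [])))
        (F5Code.mul (wordG I (uv.2.getD k [])) (gc J c))

/-- The named generators. -/
noncomputable def gen (I : List ℕ) (i : ℕ) : Cover := el (I.getD i 0)

theorem has_gen {I : List ℕ} (h : idxOk I = true) (i : ℕ) : Has (gen I i) (gc I i) := by
  refine has_el ?_
  simp only [idxOk, List.all_eq_true, Nat.blt_eq] at h
  by_cases hi : i < I.length
  · rw [List.getD_eq_getElem _ _ hi]
    exact h _ (List.getElem_mem hi)
  · rw [List.getD_eq_default _ _ (not_lt.1 hi)]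
    exact Nat.lt_of_lt_of_le Nat.zero_lt_one idx_lt.2.2.2.le

theorem has_word {I : List ℕ} (h : idxOk I = true) :
    ∀ l : List ℕ, Has ((Data.el (gen I) l : Cover) : fourRu) (wordG I l)
  | [] => by rw [show Data.el (gen I) [] = 1 from rfl, OneMemClass.coe_one]; exact has_one
  | i :: l => by
    rw [Data.el_cons, MulMemClass.coe_mul]
    exact (has_gen h i).mul (has_word h l)

theorem cover_ext {g h : Cover} {N : ℕ} (hg : Has g N) (hh : Has h N) : g = h := Subtype.ext (hg.eq hh)

/-- An element that moves a vector out of an invariant set is not in the generated group. -/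
theorem not_mem_closure (S : Set Cover) (O : ℕ → Prop) (hO : ∀ o, O o → Good o ∧ o < 2 ^ 7840)
    (hS : ∀ g ∈ S, ∀ o, O o → ∃ N, Has g N ∧ O (F5Code.mul N o))
    {y : Cover} {N x : ℕ} (hy : Has y N) (hx : O x) (hout : ¬ O (F5Code.mul N x)) :
    y ∉ Subgroup.closure S := by
  intro hmem
  let M : Submonoid Cover :=
    { carrier := {z | ∀ o, O o → ∃ o', O o' ∧ mat5 (z : fourRu) * dec o = dec o'}
      one_mem' := fun o ho => ⟨o, ho, by rw [OneMemClass.coe_one, Psi.mat5_one, one_mul]⟩
      mul_mem' := fun {a b} ha hb o ho => by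
        obtain ⟨o₁, ho₁, e₁⟩ := hb o ho
        obtain ⟨o₂, ho₂, e₂⟩ := ha o₁ ho₁
        exact ⟨o₂, ho₂, by rw [MulMemClass.coe_mul, Psi.mat5_mul, mul_assoc, e₁, e₂]⟩ }
  have hsub : S ⊆ M := fun g hg o ho => by
    obtain ⟨K, hK, ho'⟩ := hS g hg o ho
    exact ⟨_, ho', by rw [hK.val, dec_mul hK.good (hO o ho).1]⟩
  have hy' : y ∈ Submonoid.closure S := by
    rw [← Subgroup.closure_toSubmonoid_of_finite]
    exact hmem
  obtain ⟨o', ho', e⟩ := Submonoid.closure_le.2 hsub hy' x hx
  rw [hy.val, ← dec_mul hy.good (hO x hx).1] at e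
  have := ext_dec (good_mul hy.good (hO x hx).1) (hO o' ho').1 (mul_lt hy.good (hO x hx).1) (hO o' ho').2 e
  exact hout (this ▸ ho')

variable {D : Data} {I : List ℕ}

theorem rel_of_ok (hI : idxOk I = true) (h : relOk D I = true) :
    ∀ i < D.n, ∀ j ≤ i, Data.el (gen I) (D.lhs i j) = Data.el (gen I) (D.rhs i j) := by
  intro i hi j hj
  simp only [relOk, List.all_eq_true, List.mem_range] at h
  refine cover_ext (has_word hI _) ?_
  rw [Nat.eq_of_beq_eq_true (h i hi j (by omega))]
  exact has_word hI _

theorem strict_of_ok (hI : idxOk I = true) {sep : List (ℕ × List ℕ)} (h : sepOk D I sep = true) :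
    ∀ j < D.n, gen I j ∉ Subgroup.closure (gen I '' {l | j < l ∧ l < D.n}) := by
  intro j hj
  simp only [sepOk, List.all_eq_true, List.mem_range, Bool.and_eq_true, Bool.not_eq_true',
    List.elem_eq_mem, decide_eq_true_eq, decide_eq_false_iff_not] at h
  obtain ⟨⟨⟨hgood, hmem⟩, hcl⟩, hout⟩ := h j hj
  refine not_mem_closure _ (fun o => o ∈ (sep.getD j (0, [])).2) (fun o ho => goodB_spec (hgood o ho)) ?_
    (has_gen hI j) hmem hout
  rintro g ⟨l, ⟨hjl, hln⟩, rfl⟩ o ho
  refine ⟨_, has_gen hI l, ?_⟩
  have := hcl (l - (j + 1)) (by omega) o ho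
  rwa [show j + 1 + (l - (j + 1)) = l by omega] at this

theorem conj_of_ok (hI : idxOk I = true) {J : List ℕ} (hJ : idxOk J = true) (h : conjOk D I J = true) :
    ∀ uv ∈ D.conjs, ∃ y : Cover, ∀ k < uv.1.length,
      y * Data.el (gen I) (uv.1.getD k []) * y⁻¹ = Data.el (gen I) (uv.2.getD k []) := by
  intro uv huv
  obtain ⟨c, hc, rfl⟩ := List.getElem_of_mem huv
  simp only [conjOk, List.all_eq_true, List.mem_range] at h
  refine ⟨gen J c, fun k hk => mul_inv_eq_iff_eq_mul.2 ?_⟩
  have h' := h c hc k (by rwa [List.getD_eq_getElem _ _ hc])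
  rw [List.getD_eq_getElem _ _ hc] at h'
  refine cover_ext ?_ ?_ (N := F5Code.mul (gc J c) (wordG I (D.conjs[c].1.getD k [])))
  · rw [MulMemClass.coe_mul]; exact (has_gen hJ c).mul (has_word hI _)
  · rw [MulMemClass.coe_mul, Nat.eq_of_beq_eq_true h']; exact (has_word hI _).mul (has_gen hJ c)

/-- Membership in a search tree. -/
def memS : S → ℕ → Bool
  | .leaf, _ => false
  | .node l k r, v => bif Nat.beq v k then true else bif Nat.blt v k then memS l v else memS r v

/-- All keys of a search tree. -/
def allS (P : ℕ → Bool) : S → Bool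
  | .leaf => true
  | .node l k r => P k && allS P l && allS P r

theorem allS_spec (P : ℕ → Bool) : ∀ t v, allS P t = true → memS t v = true → P v = true
  | .leaf, v, _, h => by simp [memS] at h
  | .node l k r, v, hP, h => by
    simp only [allS, Bool.and_eq_true] at hP
    unfold memS at h
    cases hb : Nat.beq v k with
    | true => rw [Nat.eq_of_beq_eq_true hb]; exact hP.1.1
    | false =>
      rw [hb, cond_false] at h
      cases hl : Nat.blt v k with
      | true => rw [hl, cond_true] at h; exact allS_spec P l v hP.1.2 h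
      | false => rw [hl, cond_false] at h; exact allS_spec P r v hP.2 h

/-- A key is a good code whose images stay in the tree. -/
def keyOk (t : S) (gs : List ℕ) (o : ℕ) : Bool := goodB o && gs.all fun N => memS t (F5Code.mul N o)

/-- The tree is invariant and separates. -/
def orbitOk (t : S) (gs : List ℕ) (N x : ℕ) : Bool :=
  allS (keyOk t gs) t && memS t x && !memS t (F5Code.mul N x)

theorem not_mem_of_orbit (S : Set Cover) {t : OrbitData.S} {gs : List ℕ} {y : Cover} {N x : ℕ}
    (h : orbitOk t gs N x = true) (hy : Has y N) (hS : ∀ g ∈ S, ∃ K ∈ gs, Has g K) :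
    y ∉ Subgroup.closure S := by
  simp only [orbitOk, Bool.and_eq_true, Bool.not_eq_true'] at h
  obtain ⟨⟨hall, hx⟩, hout⟩ := h
  have key : ∀ o, memS t o = true → goodB o = true ∧ ∀ K ∈ gs, memS t (F5Code.mul K o) = true := fun o ho => by
    have := allS_spec _ t o hall ho
    simpa only [keyOk, Bool.and_eq_true, List.all_eq_true] using this
  refine not_mem_closure S (fun o => memS t o = true) (fun o ho => goodB_spec (key o ho).1) ?_ hy hx
    (by rw [hout]; simp)
  intro g hg o ho
  obtain ⟨K, hK, hgK⟩ := hS g hg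
  exact ⟨K, hgK, (key o ho).2 K hK⟩

end Cfsg.Agent.Lib.SporRu.Engine
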