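import Cfsg.Agent.Lib.SporRu.PcTwoData
import Cfsg.Agent.Lib.SporRu.Engine

/-!
Kernel check: a set of vectors invariant under the Sylow subgroup is moved by the scalar i.
-/

set_option autoImplicit false
set_option maxRecDepth 100000

namespace Cfsg.Agent.Lib.SporRu.OrbitCheck

open Engine

theorem ok : orbitOk OrbitData.orbit (PcTwoData.genIdx.map CodeCheck.code) CodeCheck.iCode
    OrbitData.point = true := by decide +kernel

end Cfsg.Agent.Lib.SporRu.OrbitCheck
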