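import Cfsg.Agent.Lib.SporRu.PcTwoData

/-!
Kernel check of the equations on tails at the prime two.
-/

set_option autoImplicit false
set_option maxRecDepth 100000

namespace Cfsg.Agent.Lib.SporRu.PcTwoCert

open Cfsg.Agent.Lib.Schur.PcCollect

theorem ok : PcTwoData.data.certOk maskVec PcTwoData.eqs PcTwoData.combos = true := by decide +kernel

end Cfsg.Agent.Lib.SporRu.PcTwoCert
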