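import Cfsg.Agent.Lib.SporRu.PcTwoCheck
import Cfsg.Agent.Lib.SporRu.PcTwoCert
import Cfsg.Agent.Lib.SporRu.OrbitCheck
import Cfsg.Agent.Lib.Schur.Fusion

/-!
The generated group is a perfect double cover: it does not contain the scalar of order four.
-/

set_option autoImplicit false
set_option maxRecDepth 100000

namespace Cfsg.Agent.Lib.SporRu.Double

open Cfsg.Spor F5Code CodeData CodeCheck Gamma Engine
open Cfsg.Agent.Lib.Schur
open Cfsg.Agent.Lib.Schur.PcCollect (Data)
open scoped commutatorElement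

/-- The generators of the Sylow subgroup. -/
noncomputable def sylGen : ℕ → Cover := gen PcTwoData.genIdx

/-- The Sylow subgroup. -/
def syl : Subgroup Cover := Subgroup.closure (sylGen '' {l | l < PcTwoData.data.n})

theorem word_bound : ∀ i < PcTwoData.data.n, ∀ j ≤ i, ∀ l ∈ PcTwoData.data.word i j,
    j < l ∧ l < PcTwoData.data.n := by
  intro i hi j hj l hl
  have h := PcTwoCert.ok
  simp only [Data.certOk, Bool.and_eq_true, List.all_eq_true, List.mem_range, Nat.blt_eq] at h
  exact h.1.1 i hi j (by omega) l hl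

theorem two_n : PcTwoData.data.n = 15 ∧ PcTwoData.data.p = 2 := ⟨rfl, rfl⟩

theorem card_syl : Nat.card syl = 2 ^ 15 := by
  have h := PcCollect.card_series PcTwoData.data (by rw [two_n.2]; exact Nat.prime_two) sylGen word_bound
    (rel_of_ok PcTwoCheck.idx_ok.1 PcTwoCheck.rel_ok)
    (strict_of_ok PcTwoCheck.idx_ok.1 PcTwoCheck.sep_ok)
  rw [two_n.1, two_n.2] at h
  exact h

theorem scalar_not_mem_syl {c : Cover} (hc : (c : fourRu) = Lifts.iAut) : c ∉ syl := by
  refine not_mem_of_orbit _ OrbitCheck.ok (y := c) (by rw [hc]; exact has_i) ?_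
  rintro g ⟨l, hl, rfl⟩
  refine ⟨gc PcTwoData.genIdx l, List.mem_map.2 ⟨PcTwoData.genIdx.getD l 0, ?_, rfl⟩,
    has_gen PcTwoCheck.idx_ok.1 l⟩
  have hlen : l < PcTwoData.genIdx.length := by
    have : l < 15 := hl
    exact lt_of_lt_of_le this (by decide)
  rw [List.getD_eq_getElem _ _ hlen]
  exact List.getElem_mem hlen

theorem card_mul : Nat.card sigma.ker * 145926144000 = Nat.card Cover := by
  rw [← sigma.ker.card_mul_index, Subgroup.index_ker, MonoidHom.range_eq_top.2 sigma_surjective,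
    Nat.card_congr Subgroup.topEquiv.toEquiv, Main.card_ru]

theorem scalar_not_mem : Lifts.iAut ∉ Cover := by
  intro hi
  set c : Cover := ⟨Lifts.iAut, hi⟩ with hcdef
  have hker : c ∈ sigma.ker := mem_ker_sigma.2 (Subgroup.mem_zpowers _)
  have hcen : c ∈ Subgroup.center Cover := sigma_ker_le hker
  have hc4 : c ^ 4 = 1 := Subtype.ext (by
    rw [SubmonoidClass.coe_pow, OneMemClass.coe_one, hcdef, ← Lifts.iAut_order, pow_orderOf_eq_one])
  have hns : c ∉ syl := scalar_not_mem_syl rfl
  have hkc : Nat.card sigma.ker = 4 := by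
    rw [← Subgroup.card_map_of_injective Cover.subtype_injective]
    have he : sigma.ker.map Cover.subtype = Subgroup.zpowers Lifts.iAut := by
      refine le_antisymm ?_ ?_
      · rintro _ ⟨x, hx, rfl⟩
        exact mem_ker_sigma.1 hx
      · rw [Subgroup.zpowers_le]
        exact ⟨c, hker, rfl⟩
    rw [he, Nat.card_zpowers, Lifts.iAut_order]
  have hnorm : (Subgroup.zpowers c).Normal := ⟨fun x hx g => by
    obtain ⟨n, rfl⟩ := Subgroup.mem_zpowers_iff.1 hx
    rw [Subgroup.mem_center_iff.1 (zpow_mem hcen n) g, mul_inv_cancel_right]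
    exact zpow_mem (Subgroup.mem_zpowers c) n⟩
  set H : Subgroup Cover := syl ⊔ Subgroup.zpowers c with hH
  haveI : Fact (Nat.Prime 2) := ⟨Nat.prime_two⟩
  have hp : IsPGroup 2 H := by
    refine IsPGroup.to_sup_of_normal_right (IsPGroup.of_card card_syl) ?_
    obtain ⟨k, -, hk⟩ := (Nat.dvd_prime_pow Nat.prime_two).1
      (orderOf_dvd_of_pow_eq_one (show c ^ 2 ^ 2 = 1 from hc4))
    exact IsPGroup.of_card (n := k) (by rw [Nat.card_zpowers, hk])
  obtain ⟨k, hk⟩ := IsPGroup.iff_card.1 hp
  have hlt : syl < H := lt_of_le_of_ne le_sup_left fun e => hns (by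
    rw [e, hH]; exact Subgroup.mem_sup_right (Subgroup.mem_zpowers c))
  have hk16 : 16 ≤ k := by
    by_contra hlt'
    have h2 : Nat.card H ≤ Nat.card syl := by
      rw [card_syl, hk]; exact Nat.pow_le_pow_right (by norm_num) (by omega)
    exact hlt.ne (Subgroup.eq_of_le_of_card_ge hlt.le h2)
  have hodd : ¬ 2 ∣ H.index := by
    intro hd
    have h1 : 2 ^ 17 ∣ Nat.card Cover := by
      rw [← H.card_mul_index, pow_succ]
      refine Nat.mul_dvd_mul ?_ hd
      rw [hk]; exact pow_dvd_pow 2 hk16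
    rw [← card_mul, hkc] at h1
    exact absurd h1 (by decide +kernel)
  have hmem := Fusion.pow_index_mem_commutator H hcen (commutator_cover ▸ Subgroup.mem_top c)
  have hle : ⁅H, H⁆ ≤ syl := by
    rw [Subgroup.commutator_le]
    intro a ha b hb
    obtain ⟨x, hx, u, hu, rfl⟩ := Subgroup.mem_sup_of_normal_right.1 ha
    obtain ⟨y, hy, v, hv, rfl⟩ := Subgroup.mem_sup_of_normal_right.1 hb
    have hu' : u ∈ Subgroup.center Cover := (Subgroup.zpowers_le.2 hcen) hu
    have hv' : v ∈ Subgroup.center Cover := (Subgroup.zpowers_le.2 hcen) hv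
    rw [Fusion.commutator_congr (σ := QuotientGroup.mk' (Subgroup.center Cover))
      (by rw [QuotientGroup.ker_mk']) (a' := x) (b' := y)
      ((QuotientGroup.eq).2 (by rw [mul_inv_rev, inv_mul_cancel_right]; exact inv_mem hu'))
      ((QuotientGroup.eq).2 (by rw [mul_inv_rev, inv_mul_cancel_right]; exact inv_mem hv')),
      commutatorElement_def]
    exact syl.mul_mem (syl.mul_mem (syl.mul_mem hx hy) (syl.inv_mem hx)) (syl.inv_mem hy)
  refine hns (PcCollect.mem_of_pow_mem syl ?_ (hle hmem) (e := H.index) (p := 4) (by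
    rw [hc4]; exact one_mem _))
  exact ((Nat.prime_two.coprime_iff_not_dvd.2 hodd).pow_left 2).symm

/-- The central involution. -/
noncomputable def negOne : Cover := el idxNegOne

theorem negOne_val : (negOne : fourRu) = Lifts.iAut ^ 2 := by
  have h := has_el idx_lt.2.2.1
  rw [negOne_ok] at h
  exact h.eq (has_i.pow 2)

theorem negOne_mem : negOne ∈ sigma.ker := by
  rw [mem_ker_sigma, negOne_val]
  exact pow_mem (Subgroup.mem_zpowers _) 2

theorem orderOf_negOne : orderOf negOne = 2 := by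
  rw [← Subgroup.orderOf_coe, negOne_val, orderOf_pow, Lifts.iAut_order]
  rfl

theorem ker_eq : sigma.ker = Subgroup.zpowers negOne := by
  refine le_antisymm (fun x hx => ?_) (Subgroup.zpowers_le.2 negOne_mem)
  obtain ⟨n, hn⟩ := Subgroup.mem_zpowers_iff.1 (mem_ker_sigma.1 hx)
  rcases Int.even_or_odd n with ⟨m, rfl⟩ | ⟨m, rfl⟩
  · refine Subgroup.mem_zpowers_iff.2 ⟨m, Subtype.ext ?_⟩
    rw [Subgroup.coe_zpow, negOne_val, ← hn, ← zpow_natCast, ← zpow_mul]
    congr 1
    omega
  · exfalso
    apply scalar_not_mem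
    have h2 : Lifts.iAut ^ (2 * m) ∈ Cover := by
      rw [zpow_mul, show (2 : ℤ) = ((2 : ℕ) : ℤ) from rfl, zpow_natCast, ← negOne_val]
      exact zpow_mem negOne.2 m
    have h3 : Lifts.iAut ^ (2 * m + 1) ∈ Cover := hn ▸ x.2
    rw [zpow_add, zpow_one] at h3
    exact (Subgroup.mul_mem_cancel_left Cover h2).1 h3

theorem card_ker : Nat.card sigma.ker = 2 := by rw [ker_eq, Nat.card_zpowers, orderOf_negOne]

theorem card_cover : Nat.card Cover = 291852288000 := by rw [← card_mul, card_ker]

theorem isStem : Cfsg.IsStemExtension sigma :=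
  ⟨sigma_surjective, sigma_ker_le, fun x _ => commutator_cover ▸ Subgroup.mem_top x⟩

end Cfsg.Agent.Lib.SporRu.Double
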