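import Cfsg.Agent.Lib.SporRu.EnumDefs

/-! Data: xors of two columns of the parity code. -/

set_option autoImplicit false
set_option maxRecDepth 200000

namespace Cfsg.Agent.Lib.SporRu.PairData

open EnumDefs

def pairs : N :=
  (.node (.node (.node (.node (.node (.node (.node (.node (.node (.node (.node .leaf 3 2 .leaf) 5 4 (.node .leaf 6 132 .leaf)) 9 6 (.node (.node .leaf 10 134 .leaf) 12 262 .leaf)) 17 1 (.node (.node (.node .leaf 18 66 .leaf) 20 68 .leaf) 24 70 (.node (.node .leaf 33 3 .leaf) 34 131 .leaf))) 36 196 (.node (.node (.node (.node .leaf 40 198 .leaf) 48 67 .leaf) 63 327 (.node (.node .leaf 65 5 .leaf) 66 133 .leaf)) 68 261 (.node (.node (.node .leaf 72 326 .leaf) 80 69 .leaf) 95 199 (.node (.node .leaf 96 197 .leaf) 111 71 .leaf)))) 119 391 (.node (.node (.node (.node (.node .leaf 123 263 .leaf) 125 135 .leaf) 126 7 (.node (.node .leaf 129 8 .leaf) 130 136 .leaf)) 132 264 (.node (.node (.node .leaf 136 392 .leaf) 144 72 .leaf) 160 200 (.node (.node .leaf 192 328 .leaf) 255 456 .leaf))) 257 12 (.node (.node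 (.node (.node .leaf 258 140 .leaf) 260 268 .leaf) 264 396 (.node (.node .leaf 272 76 .leaf) 288 204 .leaf)) 320 332 (.node (.node (.node .leaf 383 460 .leaf) 384 524 .leaf) 396 1694 (.node (.node .leaf 402 1565 .leaf) 414 589 .leaf))))) 417 1759 (.node (.node (.node (.node (.node (.node .leaf 429 655 .leaf) 435 718 .leaf) 447 1628 (.node (.node .leaf 513 9 .leaf) 514 137 .leaf)) 516 265 (.node (.node (.node .leaf 520 393 .leaf) 528 73 .leaf) 544 201 (.node (.node .leaf 576 329 .leaf) 639 457 .leaf))) 640 521 (.node (.node (.node (.node .leaf 670 781 .leaf) 679 1627 .leaf) 697 1823 (.node (.node .leaf 715 651 .leaf) 725 911 .leaf)) 748 1886 (.node (.node (.node .leaf 754 1562 .leaf) 768 588 .leaf) 774 1631 (.node (.node .leaf 792 1756 .leaf) 798 525 .leaf)))) 864 1693 (.node (.node (.node (.node (.node .leaf 870 719 .leaf) 888 654 .leaf) 894 1566 (.node (.node .leaf 910 77 .leaf) 918 397 .leaf)) 922 269 (.node (.node (.node .leaf 924 141 .leaf) 927 13 .leaf) 958 205 (.node (.node .leaf 990 333 .leaf) 993 461 .leaf))) 1025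 24 (.node (.node (.node (.node .leaf 1026 152 .leaf) 1028 280 .leaf) 1032 408 (.node (.node .leaf 1040 88 .leaf) 1056 216 .leaf)) 1088 344 (.node (.node (.node .leaf 1151 472 .leaf) 1152 536 .leaf) 1161 668 (.node (.node .leaf 1170 797 .leaf) 1179 985 .leaf)))))) 1248 862 (.node (.node (.node (.node (.node (.node (.node .leaf 1257 923 .leaf) 1266 602 .leaf) 1275 735 (.node (.node .leaf 1280 792 .leaf) 1298 541 .leaf)) 1316 988 (.node (.node (.node .leaf 1334 665 .leaf) 1352 927 .leaf) 1370 731 (.node (.node .leaf 1388 858 .leaf) 1406 606 .leaf))) 1410 93 (.node (.node (.node (.node .leaf 1424 157 .leaf) 1427 29 .leaf) 1430 285 (.node (.node .leaf 1434 413 .leaf) 1458 221 .leaf)) 1490 349 (.node (.node (.node .leaf 1517 477 .leaf) 1536 600 .leaf) 1548 861 (.node (.node .leaf 1584 671 .leaf) 1596 987 .leaf)))) 1602 732 (.node (.node (.node (.node (.node .leaf 1614 921 .leaf) 1650 538 .leaf) 1662 798 (.node (.node .leaf 1677 474 .leaf) 1714 346 .leaf)) 1746 218 (.node (.node (.node .leaf 1762 90 .leaf) 1776 154 .leaf) 1779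 26 (.node (.node .leaf 1782 282 .leaf) 1786 410 .leaf))) 1793 478 (.node (.node (.node (.node .leaf 1854 350 .leaf) 1886 222 .leaf) 1902 94 (.node (.node .leaf 1910 414 .leaf) 1914 286 .leaf)) 1916 158 (.node (.node (.node .leaf 1919 30 .leaf) 1937 667 .leaf) 1938 605 (.node (.node .leaf 1949 991 .leaf) 1950 856 .leaf))))) 2033 924 (.node (.node (.node (.node (.node (.node .leaf 2034 794 .leaf) 2045 729 .leaf) 2046 542 (.node (.node .leaf 2049 16 .leaf) 2050 144 .leaf)) 2052 272 (.node (.node (.node .leaf 2056 400 .leaf) 2064 80 .leaf) 2080 208 (.node (.node .leaf 2112 336 .leaf) 2175 464 .leaf))) 2176 528 (.node (.node (.node (.node .leaf 2304 784 .leaf) 2560 592 .leaf) 2974 848 (.node (.node .leaf 3072 1048 .leaf) 3474 1053 .leaf)) 3826 1050 (.node (.node (.node .leaf 3966 1054 .leaf) 4097 10 .leaf) 4098 138 (.node (.node .leaf 4100 266 .leaf) 4104 394 .leaf)))) 4112 74 (.node (.node (.node (.node (.node .leaf 4128 202 .leaf) 4160 330 .leaf) 4223 458 (.node (.node .leaf 4224 522 .leaf) 4233 1564 .leaf)) 4260 1629 (.node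 (.node (.node .leaf 4269 783 .leaf) 4290 1695 .leaf) 4299 587 (.node (.node .leaf 4326 846 .leaf) 4335 1758 .leaf))) 4352 652 (.node (.node (.node (.node .leaf 4379 1821 .leaf) 4397 527 .leaf) 4406 1561 (.node (.node .leaf 4430 1951 .leaf) 4437 717 .leaf)) 4451 1691 (.node (.node (.node .leaf 4472 590 .leaf) 4493 207 .leaf) 4517 399 (.node (.node .leaf 4521 271 .leaf) 4524 15 .leaf))))))) 4527 143 (.node (.node (.node (.node (.node (.node (.node (.node .leaf 4541 79 .leaf) 4562 463 (.node .leaf 4589 335 .leaf)) 4608 586 (.node (.node .leaf 4611 1757 .leaf) 4656 1567 .leaf)) 4659 847 (.node (.node (.node .leaf 4680 1630 .leaf) 4683 523 .leaf) 4728 782 (.node (.node .leaf 4731 1692 .leaf) 4747 331 .leaf))) 4788 459 (.node (.node (.node (.node .leaf 4803 395 .leaf) 4809 139 .leaf) 4810 11 (.node (.node .leaf 4815 267 .leaf) 4827 75 .leaf)) 4843 203 (.node (.node (.node .leaf 4871 462 .leaf) 4920 334 .leaf) 4952 206 (.node (.node .leaf 4968 78 .leaf) 4976 398 .leaf)))) 4985 14 (.node (.node (.node (.node (.node .leaf 4986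 142 .leaf) 4988 270 .leaf) 5009 1563 (.node (.node .leaf 5022 653 .leaf) 5026 1887 .leaf)) 5037 591 (.node (.node (.node .leaf 5060 1626 .leaf) 5067 716 .leaf) 5111 1822 (.node (.node .leaf 5112 526 .leaf) 5120 664 .leaf))) 5126 926 (.node (.node (.node (.node .leaf 5129 540 .leaf) 5135 859 .leaf) 5168 607 (.node (.node .leaf 5174 793 .leaf) 5177 730 .leaf)) 5183 989 (.node (.node (.node .leaf 5249 412 .leaf) 5256 28 .leaf) 5259 156 (.node (.node .leaf 5261 284 .leaf) 5273 92 .leaf))))) 5289 220 (.node (.node (.node (.node (.node (.node .leaf 5321 348 .leaf) 5366 476 .leaf) 5398 217 (.node (.node .leaf 5414 89 .leaf) 5426 281 .leaf)) 5428 153 (.node (.node (.node .leaf 5431 25 .leaf) 5438 409 .leaf) 5449 473 (.node (.node .leaf 5494 345 .leaf) 5513 796 .leaf))) 5514 922 (.node (.node (.node (.node .leaf 5521 603 .leaf) 5522 669 .leaf) 5549 984 (.node (.node .leaf 5550 863 .leaf) 5557 734 .leaf)) 5558 537 (.node (.node (.node .leaf 5648 223 .leaf) 5664 95 .leaf) 5681 31 (.node (.node .leaf 5682 159 .leaf) 5684 287 .leaf))))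 5688 415 (.node (.node (.node (.node (.node .leaf 5711 479 .leaf) 5744 351 .leaf) 5769 604 (.node (.node .leaf 5777 795 .leaf) 5800 857 .leaf)) 5808 543 (.node (.node (.node .leaf 5835 728 .leaf) 5843 990 .leaf) 5866 925 (.node (.node .leaf 5874 666 .leaf) 5905 539 .leaf))) 5911 860 (.node (.node (.node (.node .leaf 5936 799 .leaf) 5942 601 .leaf) 5977 733 (.node (.node .leaf 5983 986 .leaf) 6008 920 .leaf)) 6014 670 (.node (.node (.node .leaf 6017 91 .leaf) 6032 27 .leaf) 6035 155 (.node (.node .leaf 6037 283 .leaf) 6041 411 .leaf)))))) 6065 219 (.node (.node (.node (.node (.node (.node (.node .leaf 6097 347 .leaf) 6126 475 .leaf) 6144 656 (.node (.node .leaf 6573 976 .leaf) 6859 720 .leaf)) 7032 912 (.node (.node (.node .leaf 7305 1052 .leaf) 7478 1049 .leaf) 7728 1055 (.node (.node .leaf 8081 1051 .leaf) 8193 18 .leaf))) 8194 146 (.node (.node (.node (.node .leaf 8196 274 .leaf) 8200 402 .leaf) 8208 82 (.node (.node .leaf 8224 210 .leaf) 8256 338 .leaf)) 8319 466 (.node (.node (.node .leaf 8320 530 .leaf) 8448 786 .leaf)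 8704 594 (.node (.node .leaf 9118 850 .leaf) 9216 1176 .leaf)))) 9618 1181 (.node (.node (.node (.node (.node .leaf 9970 1178 .leaf) 10110 1182 .leaf) 10240 1042 (.node (.node .leaf 10255 3254 .leaf) 10291 1303 .leaf)) 10300 3125 (.node (.node (.node .leaf 10325 1366 .leaf) 10330 3188 .leaf) 10342 1107 (.node (.node .leaf 10345 3319 .leaf) 12288 658 .leaf))) 12717 978 (.node (.node (.node (.node .leaf 13003 722 .leaf) 13176 914 .leaf) 13449 1180 (.node (.node .leaf 13622 1177 .leaf) 13872 1183 .leaf)) 14225 1179 (.node (.node (.node .leaf 15249 2670 .leaf) 15262 2215 .leaf) 15266 2607 (.node (.node .leaf 15277 2278 .leaf) 15300 2797 .leaf))))) 15307 2149 (.node (.node (.node (.node (.node (.node .leaf 15351 2732 .leaf) 15352 2084 .leaf) 16385 17 (.node (.node .leaf 16386 145 .leaf) 16388 273 .leaf)) 16392 401 (.node (.node (.node .leaf 16400 81 .leaf) 16416 209 .leaf) 16448 337 (.node (.node .leaf 16511 465 .leaf) 16512 529 .leaf))) 16640 785 (.node (.node (.node (.node .leaf 16896 593 .leaf) 17310 849 .leaf) 17408 1112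 (.node (.node .leaf 17810 1117 .leaf) 18162 1114 .leaf)) 18302 1118 (.node (.node (.node .leaf 18432 1041 .leaf) 18462 1431 .leaf) 18475 3124 (.node (.node .leaf 18485 3255 .leaf) 18509 3189 .leaf)))) 18515 3318 (.node (.node (.node (.node (.node .leaf 18534 1171 .leaf) 18552 1301 .leaf) 19243 2927 (.node (.node .leaf 19245 2406 .leaf) 19251 2343 .leaf)) 19253 2666 (.node (.node (.node .leaf 19275 2147 .leaf) 19277 2603 .leaf) 19283 2862 (.node (.node .leaf 19285 2082 .leaf) 20480 657 .leaf))) 20909 977 (.node (.node (.node (.node .leaf 21195 721 .leaf) 21368 913 .leaf) 21641 1116 (.node (.node .leaf 21814 1113 .leaf) 22064 1119 .leaf)) 22417 1115 (.node (.node (.node .leaf 24576 1106 .leaf) 24599 3381 .leaf) 24621 1302 (.node (.node .leaf 24634 3511 .leaf) 24651 1367 .leaf)))))))) 24668 3251 (.node (.node (.node (.node (.node (.node (.node (.node (.node .leaf 24678 1043 .leaf) 24689 3121 (.node .leaf 26649 467 .leaf)) 26662 339 (.node (.node .leaf 26694 211 .leaf) 26722 275 .leaf)) 26724 147 (.node (.node (.node .leaf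 26727 19 .leaf) 26734 403 .leaf) 26742 83 (.node (.node .leaf 26854 531 .leaf) 26982 787 .leaf))) 27238 595 (.node (.node (.node (.node .leaf 27640 851 .leaf) 27750 1240 .leaf) 28148 1245 (.node (.node .leaf 28308 1242 .leaf) 28440 1246 .leaf)) 28800 2277 (.node (.node (.node .leaf 28809 2605 .leaf) 28836 2734 .leaf) 28845 2212 (.node (.node .leaf 28866 2668 .leaf) 28875 2087 .leaf)))) 28902 2150 (.node (.node (.node (.node (.node .leaf 28911 2799 .leaf) 30822 659 .leaf) 31179 979 (.node (.node .leaf 31405 723 .leaf) 31518 915 .leaf)) 31983 1244 (.node (.node (.node .leaf 32080 1241 .leaf) 32342 1247 .leaf) 32759 1243 (.node (.node .leaf 32769 20 .leaf) 32770 148 .leaf))) 32772 276 (.node (.node (.node (.node .leaf 32776 404 .leaf) 32784 84 .leaf) 32800 212 (.node (.node .leaf 32832 340 .leaf) 32895 468 .leaf)) 32896 532 (.node (.node (.node .leaf 33024 788 .leaf) 33280 596 .leaf) 33694 852 (.node (.node .leaf 33792 1304 .leaf) 34194 1309 .leaf))))) 34546 1306 (.node (.node (.node (.node (.node (.node .leaf 34686 1310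 .leaf) 34816 1044 .leaf) 34819 3126 (.node (.node .leaf 34864 3253 .leaf) 34867 1175 .leaf)) 34888 3191 (.node (.node (.node .leaf 34891 1238 .leaf) 34936 1109 .leaf) 34939 3316 (.node (.node .leaf 36864 660 .leaf) 37293 980 .leaf))) 37579 724 (.node (.node (.node (.node .leaf 37752 916 .leaf) 38025 1308 .leaf) 38198 1305 (.node (.node .leaf 38448 1311 .leaf) 38801 1307 .leaf)) 39424 2085 (.node (.node (.node .leaf 39453 2601 .leaf) 39470 2991 .leaf) 39475 2148 (.node (.node .leaf 39499 2279 .leaf) 39510 2861 .leaf)))) 39525 2731 (.node (.node (.node (.node (.node .leaf 39544 2214 .leaf) 40960 1172 .leaf) 40972 3122 (.node (.node .leaf 40978 3383 .leaf) 40990 1237 .leaf)) 40993 3187 (.node (.node (.node .leaf 41005 1110 .leaf) 41011 1047 .leaf) 41023 3446 (.node (.node .leaf 41356 2606 .leaf) 41362 2796 .leaf))) 41377 2733 (.node (.node (.node (.node .leaf 41407 2671 .leaf) 41419 2081 .leaf) 41429 2211 (.node (.node .leaf 41446 2471 .leaf) 41464 2341 .leaf)) 43027 215 (.node (.node (.node .leaf 43043 87 .leaf) 43057 151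 .leaf) 43058 23 (.node (.node .leaf 43063 279 .leaf) 43067 407 .leaf)))))) 43084 471 (.node (.node (.node (.node (.node (.node (.node .leaf 43123 343 .leaf) 43187 535 .leaf) 43315 791 (.node (.node .leaf 43571 599 .leaf) 43949 855 .leaf)) 44083 1496 (.node (.node (.node .leaf 44449 1501 .leaf) 44737 1498 .leaf) 44877 1502 (.node (.node .leaf 47155 663 .leaf) 47518 983 .leaf))) 47864 727 (.node (.node (.node (.node .leaf 47947 919 .leaf) 48314 1500 .leaf) 48389 1497 (.node (.node .leaf 48643 1503 .leaf) 49058 1499 .leaf)) 49152 1108 (.node (.node (.node .leaf 49157 3447 .leaf) 49192 3382 .leaf) 49197 1174 (.node (.node .leaf 49232 3123 .leaf) 49237 1239 .leaf)))) 49272 1045 (.node (.node (.node (.node (.node .leaf 49277 3186 .leaf) 51207 469 .leaf) 51256 341 (.node (.node .leaf 51288 213 .leaf) 51304 85 .leaf)) 51312 405 (.node (.node (.node .leaf 51321 21 .leaf) 51322 149 .leaf) 51324 277 (.node (.node .leaf 51448 533 .leaf) 51576 789 .leaf))) 51832 597 (.node (.node (.node (.node .leaf 52198 853 .leaf) 52344 1368 .leaf)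 52714 1373 (.node (.node .leaf 52874 1370 .leaf) 52998 1374 .leaf)) 53504 2151 (.node (.node (.node .leaf 53509 2926 .leaf) 53544 2602 .leaf) 53549 2086 (.node (.node .leaf 53584 2667 .leaf) 53589 2213 .leaf))))) 53624 2276 (.node (.node (.node (.node (.node (.node .leaf 53629 2863 .leaf) 55416 661 .leaf) 55765 981 (.node (.node .leaf 55987 725 .leaf) 56064 917 .leaf)) 56561 1372 (.node (.node (.node .leaf 56654 1369 .leaf) 56904 1375 .leaf) 57321 1371 (.node (.node .leaf 57357 214 .leaf) 57381 406 .leaf))) 57385 278 (.node (.node (.node (.node .leaf 57388 22 .leaf) 57391 150 .leaf) 57405 86 (.node (.node .leaf 57426 470 .leaf) 57453 342 .leaf)) 57517 534 (.node (.node (.node .leaf 57645 790 .leaf) 57901 598 .leaf) 58291 854 (.node (.node .leaf 58413 1432 .leaf) 58815 1437 .leaf)))) 59103 1434 (.node (.node (.node (.node (.node .leaf 59219 1438 .leaf) 59431 3252 .leaf) 59437 1046 (.node (.node .leaf 59443 1111 .leaf) 59449 3127 .leaf)) 59494 1236 (.node (.node (.node .leaf 59500 3317 .leaf) 59506 3190 .leaf) 59512 1173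 (.node (.node .leaf 60032 2083 .leaf) 60042 2735 .leaf))) 60052 2669 (.node (.node (.node (.node .leaf 60062 2146 .leaf) 60097 2798 .leaf) 60107 2407 (.node (.node .leaf 60117 2342 .leaf) 60127 2604 .leaf)) 61485 662 (.node (.node (.node .leaf 61824 982 .leaf) 62182 726 .leaf) 62293 918 (.node (.node .leaf 62628 1436 .leaf) 62747 1433 .leaf))))))) 63005 1439 (.node (.node (.node (.node (.node (.node (.node (.node .leaf 63420 1435 .leaf) 65537 32 .leaf) 65538 160 (.node (.node .leaf 65540 288 .leaf) 65544 416 .leaf)) 65552 96 (.node (.node (.node .leaf 65568 224 .leaf) 65600 352 .leaf) 65663 480 (.node (.node .leaf 65664 544 .leaf) 65792 800 .leaf))) 66048 608 (.node (.node (.node (.node .leaf 66462 864 .leaf) 66560 1568 .leaf) 66962 1888 (.node (.node .leaf 67314 1696 .leaf) 67454 1952 .leaf)) 67584 1056 (.node (.node (.node .leaf 68088 1505 .leaf) 68269 1443 .leaf) 68437 1122 (.node (.node .leaf 69632 672 .leaf) 70061 992 .leaf)))) 70347 736 (.node (.node (.node (.node (.node .leaf 70520 928 .leaf) 70793 1824 .leaf) 70966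 1632 (.node (.node .leaf 71216 2016 .leaf) 71569 1760 .leaf)) 71853 1255 (.node (.node (.node .leaf 72021 1382 .leaf) 72192 1317 .leaf) 72696 1188 (.node (.node .leaf 73728 1184 .leaf) 74187 1313 .leaf))) 74488 1379 (.node (.node (.node (.node .leaf 74547 1250 .leaf) 75904 932 .leaf) 76083 740 (.node (.node .leaf 76373 996 .leaf) 76792 676 .leaf)) 76905 1764 (.node (.node (.node .leaf 77256 2020 .leaf) 77518 1636 .leaf) 77681 1828 (.node (.node .leaf 78027 1127 .leaf) 78080 1446 .leaf))))) 78387 1509 (.node (.node (.node (.node (.node (.node .leaf 78840 1060 .leaf) 79974 868 .leaf) 80376 612 (.node (.node .leaf 80632 804 .leaf) 80760 548 .leaf)) 80775 484 (.node (.node (.node .leaf 80824 356 .leaf) 80856 228 .leaf) 80872 100 (.node (.node .leaf 80880 420 .leaf) 80889 36 .leaf))) 80890 164 (.node (.node (.node (.node .leaf 80892 292 .leaf) 81030 1956 .leaf) 81162 1700 (.node (.node .leaf 81514 1892 .leaf) 81912 1572 .leaf)) 81920 1120 (.node (.node (.node .leaf 82406 1441 .leaf) 82611 1507 .leaf) 82773 1058 (.node (.node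 .leaf 84171 866 .leaf) 84309 610 .leaf)))) 84565 802 (.node (.node (.node (.node (.node .leaf 84757 354 .leaf) 84778 482 .leaf) 84805 98 (.node (.node .leaf 84817 290 .leaf) 84820 34 .leaf)) 84823 162 (.node (.node (.node .leaf 84829 418 .leaf) 84853 226 .leaf) 84949 546 (.node (.node .leaf 85035 1954 .leaf) 85415 1698 .leaf))) 85703 1890 (.node (.node (.node (.node .leaf 85845 1570 .leaf) 86219 1191 .leaf) 86317 1318 (.node (.node .leaf 86648 1381 .leaf) 86942 1252 .leaf)) 88109 930 (.node (.node (.node .leaf 88478 738 .leaf) 88824 994 .leaf) 88917 674 (.node (.node .leaf 89284 1762 .leaf) 89445 2018 .leaf)))))) 89699 1634 (.node (.node (.node (.node (.node (.node (.node .leaf 90076 1826 .leaf) 90315 679 .leaf) 90470 999 (.node (.node .leaf 90624 743 .leaf) 91059 935 .leaf)) 91202 1831 (.node (.node (.node .leaf 91645 1639 .leaf) 91899 2023 .leaf) 91994 1767 (.node (.node .leaf 92262 1248 .leaf) 92595 1377 .leaf))) 92800 1315 (.node (.node (.node (.node .leaf 93013 1186 .leaf) 94283 551 .leaf) 94347 359 (.node (.node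 .leaf 94388 487 .leaf) 94403 423 .leaf)) 94409 167 (.node (.node (.node .leaf 94410 39 .leaf) 94415 295 .leaf) 94427 103 (.node (.node .leaf 94443 231 .leaf) 94667 807 .leaf)))) 94923 615 (.node (.node (.node (.node (.node .leaf 95061 871 .leaf) 95435 1575 .leaf) 95577 1895 (.node (.node .leaf 95801 1703 .leaf) 96181 1959 .leaf)) 96459 1063 (.node (.node (.node .leaf 96542 1510 .leaf) 96813 1445 .leaf) 97272 1124 (.node (.node .leaf 98304 1312 .leaf) 98763 1185 .leaf))) 99046 1251 (.node (.node (.node (.node .leaf 99117 1378 .leaf) 100555 741 .leaf) 100728 933 (.node (.node .leaf 100864 677 .leaf) 101293 997 .leaf)) 101424 2021 (.node (.node (.node .leaf 101777 1765 .leaf) 102025 1829 .leaf) 102198 1637 (.node (.node .leaf 102630 1447 .leaf) 102701 1126 .leaf))))) 102912 1061 (.node (.node (.node (.node (.node (.node .leaf 103371 1508 .leaf) 104448 613 .leaf) 104862 869 (.node (.node .leaf 104961 37 .leaf) 104962 165 .leaf)) 104964 293 (.node (.node (.node .leaf 104968 421 .leaf) 104976 101 .leaf) 104992 229 (.node (.node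 .leaf 105024 357 .leaf) 105087 485 .leaf))) 105088 549 (.node (.node (.node (.node .leaf 105216 805 .leaf) 105714 1701 .leaf) 105854 1957 (.node (.node .leaf 105984 1573 .leaf) 106386 1893 .leaf)) 106699 801 (.node (.node (.node .leaf 106827 545 .leaf) 106891 353 .leaf) 106932 481 (.node (.node .leaf 106947 417 .leaf) 106953 161 .leaf)))) 106954 33 (.node (.node (.node (.node (.node .leaf 106959 289 .leaf) 106971 97 .leaf) 106987 225 (.node (.node .leaf 107093 865 .leaf) 107467 609 .leaf)) 107609 1889 (.node (.node (.node .leaf 107979 1569 .leaf) 108213 1953 .leaf) 108345 1697 (.node (.node .leaf 108595 1504 .leaf) 109003 1057 .leaf))) 109184 1123 (.node (.node (.node (.node .leaf 109432 1442 .leaf) 110694 993 .leaf) 111051 673 (.node (.node .leaf 111283 929 .leaf) 111360 737 .leaf)) 111869 1633 (.node (.node (.node .leaf 111938 1825 .leaf) 112218 1761 .leaf) 112635 2017 (.node (.node .leaf 112819 1383 .leaf) 112971 1254 .leaf))))))))) 113152 1189 (.node (.node (.node (.node (.node (.node (.node (.node (.node (.node .leaf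 113656 1316 .leaf) 114816 998 (.node .leaf 114989 678 .leaf)) 115285 934 (.node (.node .leaf 115686 742 .leaf) 115739 1638 .leaf)) 116132 1830 (.node (.node (.node .leaf 116412 1766 .leaf) 116509 2022 .leaf) 116856 1376 (.node (.node .leaf 117165 1249 .leaf) 117376 1187 .leaf))) 117589 1314 (.node (.node (.node (.node .leaf 118829 806 .leaf) 119053 230 .leaf) 119077 422 (.node (.node .leaf 119081 294 .leaf) 119084 38 .leaf)) 119087 166 (.node (.node (.node .leaf 119101 102 .leaf) 119122 486 .leaf) 119149 358 (.node (.node .leaf 119213 550 .leaf) 119475 870 .leaf)))) 119597 614 (.node (.node (.node (.node (.node .leaf 119999 1894 .leaf) 120109 1574 .leaf) 120403 1958 (.node (.node .leaf 120799 1702 .leaf) 121080 1511 .leaf)) 121133 1062 (.node (.node (.node .leaf 121344 1125 .leaf) 121813 1444 .leaf) 122925 1440 (.node (.node .leaf 123339 1121 .leaf) 123520 1059 .leaf))) 123750 1506 (.node (.node (.node (.node .leaf 125056 611 .leaf) 125214 867 .leaf) 125440 547 (.node (.node .leaf 125569 35 .leaf) 125570 163 .leaf)) 125572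 291 (.node (.node (.node .leaf 125576 419 .leaf) 125584 99 .leaf) 125600 227 (.node (.node .leaf 125632 355 .leaf) 125695 483 .leaf))))) 125824 803 (.node (.node (.node (.node (.node (.node .leaf 126066 1699 .leaf) 126462 1955 .leaf) 126592 1571 (.node (.node .leaf 126738 1891 .leaf) 127179 1319 .leaf)) 127277 1190 (.node (.node (.node .leaf 127590 1253 .leaf) 127872 1380 .leaf) 129099 739 (.node (.node .leaf 129528 931 .leaf) 129664 675 .leaf))) 129837 995 (.node (.node (.node (.node .leaf 130224 2019 .leaf) 130321 1763 .leaf) 130569 1827 (.node (.node .leaf 130998 1635 .leaf) 131073 48 .leaf)) 131074 176 (.node (.node (.node .leaf 131076 304 .leaf) 131080 432 .leaf) 131088 112 (.node (.node .leaf 131104 240 .leaf) 131136 368 .leaf)))) 131199 496 (.node (.node (.node (.node (.node .leaf 131200 560 .leaf) 131328 816 .leaf) 131584 624 (.node (.node .leaf 131998 880 .leaf) 132096 1584 .leaf)) 132498 1904 (.node (.node (.node .leaf 132850 1712 .leaf) 132990 1968 .leaf) 133120 1072 (.node (.node .leaf 133123 1334 .leaf) 133140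 1463 .leaf))) 133143 1265 (.node (.node (.node (.node .leaf 133160 1395 .leaf) 133163 1140 .leaf) 133180 1205 (.node (.node .leaf 133183 1522 .leaf) 135168 688 .leaf)) 135597 1008 (.node (.node (.node .leaf 135883 752 .leaf) 136056 944 .leaf) 136329 1840 (.node (.node .leaf 136502 1648 .leaf) 136752 2032 .leaf)))))) 137105 1776 (.node (.node (.node (.node (.node (.node (.node .leaf 139264 1200 .leaf) 139276 1330 .leaf) 139312 1526 (.node (.node .leaf 139324 1077 .leaf) 139329 1399 .leaf)) 139341 1268 (.node (.node (.node .leaf 139377 1137 .leaf) 139389 1459 .leaf) 141340 245 (.node (.node .leaf 141356 117 .leaf) 141364 437 .leaf))) 141368 309 (.node (.node (.node (.node .leaf 141373 53 .leaf) 141374 181 .leaf) 141379 501 (.node (.node .leaf 141436 373 .leaf) 141500 565 .leaf)) 141628 821 (.node (.node (.node .leaf 141884 629 .leaf) 142242 885 .leaf) 142396 1589 (.node (.node .leaf 142766 1909 .leaf) 143054 1717 .leaf)))) 143170 1973 (.node (.node (.node (.node (.node .leaf 145468 693 .leaf) 145809 1013 .leaf) 146167 757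 (.node (.node .leaf 146244 949 .leaf) 146613 1845 .leaf)) 146698 1653 (.node (.node (.node .leaf 146956 2037 .leaf) 147373 1781 .leaf) 147456 1136 (.node (.node .leaf 147466 1527 .leaf) 147489 1458 .leaf))) 147499 1076 (.node (.node (.node (.node .leaf 147536 1331 .leaf) 147546 1269 .leaf) 147569 1201 (.node (.node .leaf 147579 1398 .leaf) 149515 244 .leaf)) 149539 436 (.node (.node (.node .leaf 149545 180 .leaf) 149546 52 .leaf) 149551 308 (.node (.node .leaf 149563 116 .leaf) 149588 500 .leaf))))) 149611 372 (.node (.node (.node (.node (.node (.node .leaf 149675 564 .leaf) 149803 820 .leaf) 150059 628 (.node (.node .leaf 150453 884 .leaf) 150571 1588 .leaf)) 150969 1908 (.node (.node (.node .leaf 151257 1716 .leaf) 151381 1972 .leaf) 153643 692 (.node (.node .leaf 153990 1012 .leaf) 154336 756 .leaf))) 154451 948 (.node (.node (.node (.node .leaf 154786 1844 .leaf) 154909 1652 .leaf) 155163 2036 (.node (.node .leaf 155578 1780 .leaf) 155662 497 .leaf)) 155697 369 (.node (.node (.node .leaf 155729 241 .leaf) 155745 113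 .leaf) 155760 49 (.node (.node .leaf 155763 177 .leaf) 155765 305 .leaf)))) 155769 433 (.node (.node (.node (.node (.node .leaf 155889 561 .leaf) 156017 817 .leaf) 156273 625 (.node (.node .leaf 156655 881 .leaf) 156785 1585 .leaf)) 157155 1905 (.node (.node (.node .leaf 157315 1713 .leaf) 157455 1969 .leaf) 157739 1204 (.node (.node .leaf 157742 1462 .leaf) 157753 1335 .leaf))) 157756 1141 (.node (.node (.node (.node .leaf 157795 1523 .leaf) 157798 1264 .leaf) 157809 1073 (.node (.node .leaf 157812 1394 .leaf) 159857 689 .leaf)) 160220 1009 (.node (.node (.node .leaf 160442 753 .leaf) 160521 945 .leaf) 161016 1841 (.node (.node .leaf 161095 1649 .leaf) 161345 2033 .leaf))))))) 161760 1777 (.node (.node (.node (.node (.node (.node (.node (.node .leaf 163840 1328 .leaf) 163843 1078 .leaf) 163852 1202 (.node (.node .leaf 163855 1525 .leaf) 163920 1139 .leaf)) 163923 1396 (.node (.node (.node .leaf 163932 1457 .leaf) 163935 1271 .leaf) 165889 182 (.node (.node .leaf 165890 54 .leaf) 165895 310 .leaf))) 165899 438 (.node (.node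 (.node (.node .leaf 165907 118 .leaf) 165923 246 .leaf) 165955 374 (.node (.node .leaf 166012 502 .leaf) 166019 566 .leaf)) 166147 822 (.node (.node (.node .leaf 166403 630 .leaf) 166813 886 .leaf) 166915 1590 (.node (.node .leaf 167313 1910 .leaf) 167665 1718 .leaf)))) 167805 1974 (.node (.node (.node (.node (.node .leaf 169987 694 .leaf) 170414 1014 .leaf) 170696 758 (.node (.node .leaf 170875 950 .leaf) 171146 1846 .leaf)) 171317 1654 (.node (.node (.node .leaf 171571 2038 .leaf) 171922 1782 .leaf) 172036 434 (.node (.node .leaf 172040 306 .leaf) 172045 50 .leaf))) 172046 178 (.node (.node (.node (.node .leaf 172060 114 .leaf) 172076 242 .leaf) 172108 370 (.node (.node .leaf 172147 498 .leaf) 172172 562 .leaf)) 172300 818 (.node (.node (.node .leaf 172556 626 .leaf) 172946 882 .leaf) 173068 1586 (.node (.node .leaf 173470 1906 .leaf) 173822 1714 .leaf))))) 173938 1970 (.node (.node (.node (.node (.node (.node .leaf 174083 1206 .leaf) 174086 1460 .leaf) 174089 1393 (.node (.node .leaf 174092 1074 .leaf) 174131 1520 .leaf))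 174134 1267 (.node (.node (.node .leaf 174137 1143 .leaf) 174140 1333 .leaf) 176140 690 (.node (.node .leaf 176545 1010 .leaf) 176839 754 .leaf))) 177012 946 (.node (.node (.node (.node .leaf 177285 1842 .leaf) 177466 1650 .leaf) 177724 2034 (.node (.node .leaf 178077 1778 .leaf) 180240 371 .leaf)) 180271 499 (.node (.node (.node .leaf 180288 115 .leaf) 180305 51 .leaf) 180306 179 (.node (.node .leaf 180308 307 .leaf) 180312 435 .leaf)))) 180336 243 (.node (.node (.node (.node (.node .leaf 180432 563 .leaf) 180560 819 .leaf) 180816 627 (.node (.node .leaf 181198 883 .leaf) 181328 1587 .leaf)) 181698 1907 (.node (.node (.node .leaf 181922 1715 .leaf) 182062 1971 .leaf) 182275 1142 (.node (.node .leaf 182289 1461 .leaf) 182315 1332 .leaf))) 182329 1207 (.node (.node (.node (.node .leaf 182338 1521 .leaf) 182352 1075 .leaf) 182378 1266 (.node (.node .leaf 182392 1392 .leaf) 184400 691 .leaf)) 184829 1011 (.node (.node (.node .leaf 184987 755 .leaf) 185128 947 .leaf) 185561 1843 (.node (.node .leaf 185702 1651 .leaf) 185952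 2035 .leaf)))))) 186305 1779 (.node (.node (.node (.node (.node (.node (.node .leaf 188428 1138 .leaf) 188440 1524 .leaf) 188461 1456 (.node (.node .leaf 188473 1079 .leaf) 188484 1397 .leaf)) 188496 1203 (.node (.node (.node .leaf 188517 1270 .leaf) 188529 1329 .leaf) 190489 247 (.node (.node .leaf 190505 119 .leaf) 190513 439 .leaf))) 190520 55 (.node (.node (.node (.node .leaf 190523 183 .leaf) 190525 311 .leaf) 190534 503 (.node (.node .leaf 190585 375 .leaf) 190649 567 .leaf)) 190777 823 (.node (.node (.node .leaf 191033 631 .leaf) 191399 887 .leaf) 191545 1591 (.node (.node .leaf 191915 1911 .leaf) 192203 1719 .leaf)))) 192327 1975 (.node (.node (.node (.node (.node .leaf 194617 695 .leaf) 194964 1015 .leaf) 195314 759 (.node (.node .leaf 195393 951 .leaf) 195760 1847 .leaf)) 195855 1655 (.node (.node (.node .leaf 196105 2039 .leaf) 196520 1783 .leaf) 196608 2096 (.node (.node .leaf 197063 2162 .leaf) 197305 2295 .leaf))) 197502 2228 (.node (.node (.node (.node .leaf 200890 2545 .leaf) 201085 2483 .leaf) 201219 2422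 (.node (.node .leaf 201668 2357 .leaf) 206908 2101 .leaf)) 207304 2166 (.node (.node (.node .leaf 207568 2291 .leaf) 207652 2225 .leaf) 211168 2548 (.node (.node .leaf 211220 2487 .leaf) 211468 2418 .leaf))))) 211960 2352 (.node (.node (.node (.node (.node (.node .leaf 215083 2100 .leaf) 215538 2167 .leaf) 215692 2290 (.node (.node .leaf 215893 2224 .leaf) 219383 2549 .leaf)) 219438 2486 (.node (.node (.node .leaf 219728 2419 .leaf) 220041 2353 .leaf) 221297 2097 (.node (.node .leaf 221595 2163 .leaf) 221827 2294 .leaf))) 222057 2229 (.node (.node (.node (.node .leaf 225483 2544 .leaf) 225569 2482 .leaf) 225849 2423 (.node (.node .leaf 226259 2356 .leaf) 231427 2102 .leaf)) 231927 2165 (.node (.node (.node .leaf 232177 2289 .leaf) 232197 2227 .leaf) 235762 2551 (.node (.node .leaf 235782 2484 .leaf) 236032 2416 .leaf)))) 236532 2354 (.node (.node (.node (.node (.node .leaf 237580 2098 .leaf) 238027 2160 .leaf) 238251 2292 (.node (.node .leaf 238444 2231 .leaf) 241819 2547 .leaf)) 242012 2481 (.node (.node (.node .leaf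 242236 2421 .leaf) 242683 2358 .leaf) 245840 2099 (.node (.node .leaf 246202 2161 .leaf) 246460 2293 .leaf))) 246614 2230 (.node (.node (.node (.node .leaf 250055 2546 .leaf) 250157 2480 .leaf) 250411 2420 (.node (.node .leaf 250817 2359 .leaf) 256057 2103 .leaf)) 256480 2164 (.node (.node (.node .leaf 256640 2288 .leaf) 256857 2226 .leaf) 260296 2550 (.node (.node .leaf 260369 2485 .leaf) 260721 2417 .leaf)))))))) 261032 2355 (.node (.node (.node (.node (.node (.node (.node (.node (.node .leaf 262145 40 .leaf) 262146 168 (.node .leaf 262148 296 .leaf)) 262152 424 (.node (.node .leaf 262160 104 .leaf) 262176 232 .leaf)) 262208 360 (.node (.node (.node .leaf 262271 488 .leaf) 262272 552 .leaf) 262400 808 (.node (.node .leaf 262656 616 .leaf) 263070 872 .leaf))) 263168 1576 (.node (.node (.node (.node .leaf 263570 1896 .leaf) 263922 1704 .leaf) 264062 1960 (.node (.node .leaf 264192 1064 .leaf) 264639 1518 .leaf)) 264946 1452 (.node (.node (.node .leaf 265037 1131 .leaf) 266240 680 .leaf) 266669 1000 (.node (.node .leaf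 266955 744 .leaf) 267128 936 .leaf)))) 267401 1832 (.node (.node (.node (.node (.node .leaf 267574 1640 .leaf) 267824 2024 .leaf) 268177 1768 (.node (.node .leaf 268527 1261 .leaf) 268624 1386 .leaf)) 268829 1321 (.node (.node (.node .leaf 269218 1199 .leaf) 270336 1192 .leaf) 270732 1326 (.node (.node .leaf 271015 1388 .leaf) 271147 1259 .leaf))) 272602 943 (.node (.node (.node (.node .leaf 272745 751 .leaf) 272911 1007 .leaf) 273314 687 (.node (.node .leaf 273459 1775 .leaf) 273810 2031 .leaf)) 274068 1647 (.node (.node (.node .leaf 274219 1839 .leaf) 274569 1133 .leaf) 274693 1450 (.node (.node .leaf 274990 1513 .leaf) 275362 1071 .leaf))))) 276540 879 (.node (.node (.node (.node (.node (.node .leaf 276898 623 .leaf) 277154 815 .leaf) 277282 559 (.node (.node .leaf 277378 239 .leaf) 277408 175 .leaf)) 277411 47 (.node (.node (.node .leaf 277414 303 .leaf) 277418 431 .leaf) 277426 111 (.node (.node .leaf 277469 495 .leaf) 277474 367 .leaf))) 277724 1967 (.node (.node (.node (.node .leaf 277840 1711 .leaf) 278064 1903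 .leaf) 278434 1583 (.node (.node .leaf 278528 1128 .leaf) 278945 1454 .leaf)) 279276 1516 (.node (.node (.node .leaf 279373 1067 .leaf) 280787 875 .leaf) 280909 619 (.node (.node .leaf 281165 811 .leaf) 281357 363 .leaf)))) 281394 491 (.node (.node (.node (.node (.node .leaf 281413 427 .leaf) 281417 299 .leaf) 281420 43 (.node (.node .leaf 281423 171 .leaf) 281437 107 .leaf)) 281453 235 (.node (.node (.node .leaf 281549 555 .leaf) 281651 1963 .leaf) 282047 1707 (.node (.node .leaf 282335 1899 .leaf) 282445 1579 .leaf))) 282761 1197 (.node (.node (.node (.node .leaf 282920 1322 .leaf) 283237 1385 .leaf) 283588 1263 (.node (.node .leaf 284725 939 .leaf) 285062 747 .leaf)) 285408 1003 (.node (.node (.node .leaf 285517 683 .leaf) 285916 1771 .leaf) 286077 2027 (.node (.node .leaf 286331 1643 .leaf) 286660 1835 .leaf)))))) 286857 685 (.node (.node (.node (.node (.node (.node (.node .leaf 287012 1005 .leaf) 287298 749 .leaf) 287729 941 (.node (.node .leaf 287744 1837 .leaf) 288191 1645 .leaf)) 288441 2029 (.node (.node (.node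 .leaf 288536 1773 .leaf) 288870 1256 .leaf) 289268 1390 (.node (.node .leaf 289503 1324 .leaf) 289613 1195 .leaf))) 290825 557 (.node (.node (.node (.node .leaf 290945 429 .leaf) 290952 45 .leaf) 290955 173 (.node (.node .leaf 290957 301 .leaf) 290969 109 .leaf)) 290985 237 (.node (.node (.node .leaf 291017 365 .leaf) 291062 493 .leaf) 291209 813 (.node (.node .leaf 291465 621 .leaf) 291607 877 .leaf)))) 291977 1581 (.node (.node (.node (.node (.node .leaf 292123 1901 .leaf) 292475 1709 .leaf) 292855 1965 (.node (.node .leaf 293001 1069 .leaf) 293147 1514 .leaf)) 293424 1449 (.node (.node (.node .leaf 293794 1135 .leaf) 294912 1320 .leaf) 295308 1198 (.node (.node .leaf 295609 1260 .leaf) 295733 1387 .leaf))) 297174 745 (.node (.node (.node (.node .leaf 297317 937 .leaf) 297501 681 .leaf) 297904 1001 (.node (.node .leaf 298029 2025 .leaf) 298380 1769 .leaf)) 298644 1833 (.node (.node (.node .leaf 298795 1641 .leaf) 299172 1453 .leaf) 299304 1130 (.node (.node .leaf 299549 1065 .leaf) 299921 1519 .leaf))))) 301085 617 (.node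 (.node (.node (.node (.node (.node .leaf 301443 873 .leaf) 301581 105 .leaf) 301589 425 (.node (.node .leaf 301593 297 .leaf) 301596 41 .leaf)) 301599 169 (.node (.node (.node .leaf 301629 233 .leaf) 301661 361 .leaf) 301666 489 (.node (.node .leaf 301725 553 .leaf) 301853 809 .leaf))) 302319 1705 (.node (.node (.node (.node .leaf 302435 1961 .leaf) 302621 1577 .leaf) 302991 1897 (.node (.node .leaf 303244 814 .leaf) 303372 558 .leaf)) 303492 430 (.node (.node (.node .leaf 303496 302 .leaf) 303501 46 .leaf) 303502 174 (.node (.node .leaf 303516 110 .leaf) 303532 238 .leaf)))) 303564 366 (.node (.node (.node (.node (.node .leaf 303603 494 .leaf) 303634 878 .leaf) 304012 622 (.node (.node .leaf 304158 1902 .leaf) 304524 1582 .leaf)) 304882 1966 (.node (.node (.node .leaf 305022 1710 .leaf) 305203 1512 .leaf) 305548 1070 (.node (.node .leaf 305887 1132 .leaf) 306016 1451 .leaf))) 307233 1006 (.node (.node (.node (.node .leaf 307596 686 .leaf) 307956 942 .leaf) 308039 750 (.node (.node .leaf 308410 1646 .leaf) 308485 1838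 .leaf)) 308765 1774 (.node (.node (.node .leaf 309180 2030 .leaf) 309489 1389 .leaf) 309582 1258 (.node (.node .leaf 309789 1193 .leaf) 310178 1327 .leaf))))))) 311429 1002 (.node (.node (.node (.node (.node (.node (.node (.node .leaf 311592 682 .leaf) 311888 938 .leaf) 312291 746 (.node (.node .leaf 312350 1642 .leaf) 312737 1834 .leaf)) 313017 1770 (.node (.node (.node .leaf 313112 2026 .leaf) 313464 1384 .leaf) 313834 1262 (.node (.node .leaf 314079 1196 .leaf) 314189 1323 .leaf))) 315432 810 (.node (.node (.node (.node .leaf 315656 234 .leaf) 315680 426 .leaf) 315689 42 (.node (.node .leaf 315690 170 .leaf) 315692 298 .leaf)) 315704 106 (.node (.node (.node .leaf 315735 490 .leaf) 315752 362 .leaf) 315816 554 (.node (.node .leaf 316086 874 .leaf) 316200 618 .leaf)))) 316602 1898 (.node (.node (.node (.node (.node .leaf 316712 1578 .leaf) 317014 1962 .leaf) 317402 1706 (.node (.node .leaf 317626 1517 .leaf) 317736 1066 .leaf)) 317981 1129 (.node (.node (.node .leaf 318351 1455 .leaf) 319533 1448 .leaf) 319884 1134 (.node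 (.node .leaf 320223 1068 .leaf) 320382 1515 .leaf))) 321759 620 (.node (.node (.node (.node .leaf 321857 876 .leaf) 322143 556 .leaf) 322207 364 (.node (.node .leaf 322208 492 .leaf) 322255 108 .leaf)) 322263 428 (.node (.node (.node .leaf 322267 300 .leaf) 322269 172 .leaf) 322270 44 (.node (.node .leaf 322303 236 .leaf) 322527 812 .leaf))))) 322605 1708 (.node (.node (.node (.node (.node (.node .leaf 322977 1964 .leaf) 323295 1580 .leaf) 323405 1900 (.node (.node .leaf 323721 1325 .leaf) 323880 1194 .leaf)) 324219 1257 (.node (.node (.node .leaf 324570 1391 .leaf) 325652 748 .leaf) 326055 940 (.node (.node .leaf 326367 684 .leaf) 326514 1004 .leaf))) 326895 2028 (.node (.node (.node (.node .leaf 326990 1772 .leaf) 327254 1836 .leaf) 327657 1644 (.node (.node .leaf 327680 2088 .leaf) 327685 2474 .leaf)) 327704 2219 (.node (.node (.node .leaf 327709 2409 .leaf) 327746 2541 .leaf) 327751 2158 (.node (.node .leaf 327770 2351 .leaf) 327775 2284 .leaf)))) 342918 2539 (.node (.node (.node (.node (.node .leaf 342924 2414 .leaf)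 342946 2095 .leaf) 342952 2282 (.node (.node .leaf 342998 2153 .leaf) 343004 2221 .leaf)) 343026 2476 (.node (.node (.node .leaf 343032 2344 .leaf) 346892 2286 .leaf) 346900 2156 (.node (.node .leaf 346920 2410 .leaf) 346928 2473 .leaf))) 346957 2091 (.node (.node (.node (.node .leaf 346965 2216 .leaf) 346985 2543 .leaf) 346993 2349 (.node (.node .leaf 356489 2093 .leaf) 356509 2281 .leaf)) 356513 2478 (.node (.node (.node .leaf 356533 2347 .leaf) 356555 2536 .leaf) 356575 2412 (.node (.node .leaf 356579 2154 .leaf) 356599 2223 .leaf)))))) 367104 2408 (.node (.node (.node (.node (.node (.node (.node .leaf 367113 2285 .leaf) 367124 2540 .leaf) 367133 2089 (.node (.node .leaf 367200 2475 .leaf) 367209 2159 .leaf)) 367220 2350 (.node (.node (.node .leaf 367229 2218 .leaf) 369034 2220 .leaf) 369036 2094 (.node (.node .leaf 369058 2415 .leaf) 369060 2477 .leaf))) 369099 2152 (.node (.node (.node (.node .leaf 369101 2283 .leaf) 369123 2538 .leaf) 369125 2345 (.node (.node .leaf 381218 2287 .leaf) 381223 2348 .leaf)) 381224 2090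 (.node (.node (.node .leaf 381229 2472 .leaf) 381250 2157 .leaf) 381255 2542 (.node (.node .leaf 381256 2217 .leaf) 381261 2411 .leaf)))) 387712 2280 (.node (.node (.node (.node (.node .leaf 387718 2155 .leaf) 387721 2413 .leaf) 387727 2479 (.node (.node .leaf 387792 2346 .leaf) 387798 2537 .leaf)) 387801 2222 (.node (.node (.node .leaf 387807 2092 .leaf) 393216 2608 .leaf) 393600 2994 (.node (.node .leaf 393958 2871 .leaf) 394086 2804 .leaf))) 397560 2929 (.node (.node (.node (.node .leaf 397688 2739 .leaf) 397854 2678 .leaf) 398238 3061 (.node (.node .leaf 403516 2613 .leaf) 403855 2998 .leaf)) 404111 2867 (.node (.node (.node .leaf 404284 2801 .leaf) 407714 2932 .leaf) 407825 2743 (.node (.node .leaf 408081 2674 .leaf) 408482 3056 .leaf))))) 411691 2612 (.node (.node (.node (.node (.node (.node .leaf 412085 2999 .leaf) 412371 2866 .leaf) 412493 2800 (.node (.node .leaf 415925 2933 .leaf) 416043 2742 .leaf)) 416333 2675 (.node (.node (.node .leaf 416723 3057 .leaf) 417905 2609 .leaf) 418268 2995 (.node (.node .leaf 418524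 2870 .leaf) 418673 2805 .leaf))) 422025 2928 (.node (.node (.node (.node .leaf 422180 2738 .leaf) 422436 2679 .leaf) 422793 3060 (.node (.node .leaf 428035 2614 .leaf) 428464 2997 .leaf)) 428718 2865 (.node (.node (.node .leaf 428829 2803 .leaf) 432304 2935 .leaf) 432387 2740 (.node (.node .leaf 432669 2672 .leaf) 433070 3058 .leaf)))) 434188 2610 (.node (.node (.node (.node (.node .leaf 434572 2992 .leaf) 434932 2868 .leaf) 435060 2807 (.node (.node .leaf 438489 2931 .leaf) 438617 2737 .leaf)) 438817 2677 (.node (.node (.node .leaf 439201 3062 .leaf) 442448 2611 .leaf) 442877 2993 (.node (.node .leaf 443107 2869 .leaf) 443214 2806 .leaf))) 446597 2930 (.node (.node (.node (.node .leaf 446760 2736 .leaf) 447030 2676 .leaf) 447387 3063 (.node (.node .leaf 452665 2615 .leaf) 453031 2996 .leaf)) 453343 2864 (.node (.node (.node .leaf 453441 2802 .leaf) 456842 2934 .leaf) 456980 2741 (.node (.node .leaf 457324 2673 .leaf) 457714 3059 .leaf))))))))))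

end Cfsg.Agent.Lib.SporRu.PairData
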