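import Cfsg.Agent.Lib.SporRu.EnumData
import Cfsg.Agent.Lib.SporRu.PairData

/-!
The kernel checks of the certificates for the parity words, and the coverage of all light parity words.
-/

set_option autoImplicit false
set_option maxRecDepth 100000
set_option maxHeartbeats 0

namespace Cfsg.Agent.Lib.SporRu.EnumCheck

open Cfsg.Agent.Lib.RuLattice EnumDefs

/-- All entries of a tree pass. -/
def allT : T → Bool
  | .leaf => true
  | .node l e r => e.ok && allT l && allT r

theorem part000_ok : allT EnumData000.part = true := by decide +kernel

theorem part001_ok : allT EnumData001.part = true := by decide +kernel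

theorem part010_ok : allT EnumData010.part = true := by decide +kernel

theorem part011_ok : allT EnumData011.part = true := by decide +kernel

theorem part100_ok : allT EnumData100.part = true := by decide +kernel

theorem part101_ok : allT EnumData101.part = true := by decide +kernel

theorem part110_ok : allT EnumData110.part = true := by decide +kernel

theorem part111_ok : allT EnumData111.part = true := by decide +kernel

theorem top_ok : allT EnumData.tree = true := by
  simp only [EnumData.tree, allT, Bool.and_eq_true, part000_ok, part001_ok, part010_ok, part011_ok, part100_ok, part101_ok, part110_ok, part111_ok]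
  decide +kernel

theorem allT_sound : ∀ {t : T}, allT t = true → ∀ e ∈ t.list, e.ok = true
  | .leaf, _, e, he => by simp [T.list] at he
  | .node l f r, h, e, he => by
    simp only [allT, Bool.and_eq_true] at h
    simp only [T.list, List.mem_append, List.mem_cons] at he
    rcases he with he | he | he
    · exact allT_sound h.1.2 e he
    · exact he ▸ h.1.1
    · exact allT_sound h.2 e he

theorem entry_ok {e : Entry} (he : e ∈ EnumData.tree.list) : e.ok = true := allT_sound top_ok e he

/-- Zero, heavy, or listed. -/
def known (n : ℕ) : Bool :=
  cond (Nat.blt 16 (pc56 n)) true (Nat.beq n 0 || EnumData.tree.mem n)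

/-- All combinations of at most `k` of the columns are known. -/
def chk : List (ℕ × ℕ) → ℕ → ℕ → Bool
  | [], _, a => known a
  | _ :: _, 0, a => known a
  | jr :: l, k + 1, a => chk l k (Nat.xor a jr.2) && chk l (k + 1) a

theorem chk_sound : ∀ (l : List (ℕ × ℕ)) (k a n : ℕ), chk l k a = true →
    (l.map fun jr => (n.testBit jr.1).toNat).sum ≤ k → known (a ^^^ Basic.comb l n) = true
  | [], k, a, n, h, _ => by simpa [chk, Basic.comb] using h
  | jr :: l, 0, a, n, h, hk => by
    have h0 : ∀ m : List (ℕ × ℕ), (m.map fun jr => (n.testBit jr.1).toNat).sum = 0 →
        Basic.comb m n = 0 := by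
      intro m
      induction m with
      | nil => intro _; rfl
      | cons p m ih =>
        intro hm
        simp only [List.map_cons, List.sum_cons, Nat.add_eq_zero_iff] at hm
        have hb : n.testBit p.1 = false := by simpa using hm.1
        simp [Basic.comb, hb, ih hm.2]
    rw [h0 _ (Nat.le_zero.1 hk), Nat.xor_zero]
    simpa [chk] using h
  | jr :: l, k + 1, a, n, h, hk => by
    simp only [chk, Bool.and_eq_true] at h
    simp only [List.map_cons, List.sum_cons] at hk
    cases hb : n.testBit jr.1
    · rw [hb] at hk
      simpa [Basic.comb, hb] using chk_sound l (k + 1) a n h.2 (by simpa using hk)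
    · rw [hb] at hk
      simp only [Bool.toNat_true] at hk
      have e : Nat.xor a jr.2 = a ^^^ jr.2 := rfl
      have := chk_sound l k (Nat.xor a jr.2) n h.1 (by omega)
      rw [e] at this
      simpa [Basic.comb, hb, Nat.xor_assoc] using this

/-- The columns of the parity code. -/
def colFl : List (ℕ × ℕ) := (List.range 37).map fun k => (k, (Basic.wGen k).1)

/-- The xors of two columns are pairwise different and nonzero. -/
def pairsOk : Bool :=
  (List.range 56).all fun j => (List.range j).all fun i =>
    Nat.beq (PairData.pairs.get (Nat.xor (colOf colFl i) (colOf colFl j))) (64 * i + j)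

theorem pairs_ok : pairsOk = true := by decide +kernel

theorem coverB : chk Data.infoB 7 0 = true := by decide +kernel

theorem coverA : chk Data.infoA 8 0 = true := by decide +kernel

end Cfsg.Agent.Lib.SporRu.EnumCheck
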