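import Cfsg.Agent.Lib.SporRu.Vec
import Cfsg.Agent.Lib.SporRu.MemberData

/-!
The lattice is exactly the set of integer vectors congruent modulo 4 to the span of the generators.
-/

set_option autoImplicit false

namespace Cfsg.Agent.Lib.SporRu.Member

open Cfsg.Spor Cfsg.Agent.Lib.RuLattice Vec MemberData

/-- A signed permutation of a coordinate list. -/
def spermL (src : List ℕ) (neg : ℕ) (l : List ℤ) : List ℤ :=
  (List.range 56).map fun i =>
    if neg.testBit i then -l.getD (src.getD i 0 % 56) 0 else l.getD (src.getD i 0 % 56) 0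

theorem getD_map_range {β : Type} (f : ℕ → β) {n i : ℕ} (hi : i < n) (d : β) :
    ((List.range n).map f).getD i d = f i := by
  rw [List.getD_eq_getElem _ _ (by simpa using hi), List.getElem_map, List.getElem_range]

theorem toV_spermL (src : List ℕ) (neg : ℕ) (l : List ℤ) :
    toV (spermL src neg l) = Basic.sperm src neg (toV l) := by
  funext i
  simp only [toV, spermL, getD_map_range _ i.2, Basic.sperm, Fin.val_ofNat]

/-- One of the five symmetries. -/
def op (g : ℕ) (l : List ℤ) : List ℤ :=
  match g with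
  | 0 => spermL Data.srcI Data.negI l
  | 1 => spermL Data.srcJ Data.negJ l
  | 2 => spermL Data.srcK Data.negK l
  | 3 => spermL Data.srcS Data.negS l
  | _ => spermL Data.srcT Data.negT l

/-- A word in the symmetries. -/
def applyW : List ℕ → List ℤ → List ℤ
  | [], l => l
  | g :: w, l => op g (applyW w l)

/-- The vector of an entry of the certificate. -/
def entryV (e : ℕ × List ℕ) : List ℤ := applyW e.2 (tableL.getD e.1 [])

/-- The flattened lattice. -/
def InL (x : V56) : Prop := ∃ v ∈ ruLattice, Basic.flat v = x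

theorem inL_zero : InL 0 := ⟨0, ruLattice.zero_mem, Basic.flat_zero⟩

theorem inL_add {x y : V56} (hx : InL x) (hy : InL y) : InL (x + y) := by
  obtain ⟨v, hv, rfl⟩ := hx
  obtain ⟨w, hw, rfl⟩ := hy
  exact ⟨v + w, ruLattice.add_mem hv hw, Basic.flat_add v w⟩

theorem inL_neg {x : V56} (hx : InL x) : InL (-x) := by
  obtain ⟨v, hv, rfl⟩ := hx
  exact ⟨-v, ruLattice.neg_mem hv, Basic.flat_neg v⟩

theorem inL_zsmul {x : V56} (hx : InL x) : ∀ k : ℤ, InL (k • x) := by
  intro k
  obtain ⟨v, hv, rfl⟩ := hx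
  exact ⟨k • v, ruLattice.zsmul_mem hv k,
    map_zsmul (AddMonoidHom.mk' Basic.flat Basic.flat_add) k v⟩

theorem inL_sum {ι : Type*} (s : Finset ι) {f : ι → V56} (h : ∀ i ∈ s, InL (f i)) :
    InL (∑ i ∈ s, f i) :=
  Finset.sum_induction f InL (fun _ _ => inL_add) inL_zero h

theorem closed_mem {v : RuVec} (hv : v ∈ ruLattice) :
    gI • v ∈ ruLattice ∧ ruRj v ∈ ruLattice ∧ ruRk v ∈ ruLattice ∧ ruSign v ∈ ruLattice ∧
      ruShift v ∈ ruLattice := by
  simp only [ruLattice, AddSubgroup.mem_sInf] at hv ⊢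
  exact ⟨fun L hL => (hL.2 v (hv L hL)).1, fun L hL => (hL.2 v (hv L hL)).2.1,
    fun L hL => (hL.2 v (hv L hL)).2.2.1, fun L hL => (hL.2 v (hv L hL)).2.2.2.1,
    fun L hL => (hL.2 v (hv L hL)).2.2.2.2⟩

theorem inL_op (g : ℕ) {l : List ℤ} (h : InL (toV l)) : InL (toV (op g l)) := by
  obtain ⟨v, hv, he⟩ := h
  obtain ⟨hI, hJ, hK, hS, hT⟩ := closed_mem hv
  match g with
  | 0 => exact ⟨_, hI, by rw [Basic.flat_I, he, ← toV_spermL]; rfl⟩
  | 1 => exact ⟨_, hJ, by rw [Basic.flat_J, he, ← toV_spermL]; rfl⟩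
  | 2 => exact ⟨_, hK, by rw [Basic.flat_K, he, ← toV_spermL]; rfl⟩
  | 3 => exact ⟨_, hS, by rw [Basic.flat_S, he, ← toV_spermL]; rfl⟩
  | k + 4 => exact ⟨_, hT, by rw [Basic.flat_T, he, ← toV_spermL]; rfl⟩

theorem table_flat : ∀ j : Fin 20, ∀ i : Fin 56,
    Basic.flat (ruTable.getD j 0) i = (tableL.getD j []).getD i 0 := by
  decide +kernel

theorem inL_table (j : ℕ) (hj : j < 20) : InL (toV (tableL.getD j [])) := by
  refine ⟨ruTable.getD j 0, ?_, funext fun i => table_flat ⟨j, hj⟩ i⟩
  have hlen : j < ruTable.length := lt_of_lt_of_eq hj rfl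
  rw [List.getD_eq_getElem _ _ hlen, ruLattice, AddSubgroup.mem_sInf]
  exact fun L hL => hL.1 _ (List.getElem_mem hlen)

theorem inL_applyW : ∀ (w : List ℕ) {l : List ℤ}, InL (toV l) → InL (toV (applyW w l))
  | [], _, h => h
  | g :: w, _, h => inL_op g (inL_applyW w h)

theorem inL_entry {e : ℕ × List ℕ} (he : e.1 < 20) : InL (toV (entryV e)) :=
  inL_applyW _ (inL_table _ he)

/-- Four times a real unit vector. -/
def four (r : ℕ) : V56 := fun i => if (i : ℕ) = r then 4 else 0

theorem unit_check : ∀ r : Fin 56, (unitWords.getD r (99, [])).1 < 20 ∧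
    ∀ i : Fin 56, (entryV (unitWords.getD r (99, []))).getD i 0 = four r i := by
  decide +kernel

theorem inL_four (r : Fin 56) : InL (four r) := by
  obtain ⟨h1, h2⟩ := unit_check r
  have := inL_entry h1
  rwa [show toV (entryV (unitWords.getD r (99, []))) = four r from funext h2] at this

/-- The spanning vectors. -/
def spanL : List (List ℤ) := spanWords.map entryV

/-- The sum of the listed spanning vectors at a coordinate. -/
def comboAt (sp : List (List ℤ)) (c : List ℕ) (i : ℕ) : ℤ := (c.map fun j => (sp.getD j []).getD i 0).sum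

theorem span_words_ok : spanWords.all (fun e => Nat.blt e.1 20) = true := by decide +kernel

theorem span_cert_ok : ((List.range 37).all fun k =>
    let c := spanCert.getD k []
    let p := Basic.wGen k
    let vs := c.map fun j => spanL.getD j []
    (c.all fun j => Nat.blt j spanWords.length) && (List.range 56).all fun i =>
      (vs.map fun v => v.getD i 0).sum % 4 == (Basic.pval p i : ℤ)) = true := by
  decide +kernel

theorem exists_lift_base (k : ℕ) (hk : k < 37) : ∃ x, InL x ∧ Basic.Rep x (Basic.wGen k) := by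
  have h := List.all_eq_true.1 span_cert_ok k (List.mem_range.2 hk)
  simp only [Bool.and_eq_true] at h
  set c := spanCert.getD k []
  refine ⟨fun i => comboAt spanL c i, ?_, fun i => ?_⟩
  · have hc : ∀ c : List ℕ, (c.all fun j => Nat.blt j spanWords.length) = true →
        InL (fun i => comboAt spanL c i) := by
      intro c
      induction c with
      | nil => intro _; exact inL_zero
      | cons j c ih =>
        intro h
        simp only [List.all_cons, Bool.and_eq_true, Nat.blt_eq] at h
        have hj : j < spanWords.length := h.1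
        have hmem : InL (toV (spanL.getD j [])) := by
          rw [spanL, List.getD_eq_getElem _ _ (by rwa [List.length_map]), List.getElem_map]
          exact inL_entry (by
            simpa using List.all_eq_true.1 span_words_ok _ (List.getElem_mem hj))
        exact inL_add hmem (ih h.2)
    exact hc c h.1
  · have h2 := List.all_eq_true.1 h.2 i (List.mem_range.2 i.2)
    simpa [comboAt, List.map_map, Function.comp_def] using h2

theorem exists_lift {p : ℕ × ℕ} (hp : Basic.InSpan p) : ∃ x, InL x ∧ Basic.Rep x p := by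
  induction hp with
  | zero => exact ⟨0, inL_zero, fun i => by simp [Basic.pval_zero]⟩
  | base k hk => exact exists_lift_base k hk
  | add p q _ _ ihp ihq =>
    obtain ⟨x, hx, rx⟩ := ihp
    obtain ⟨y, hy, ry⟩ := ihq
    refine ⟨x + y, inL_add hx hy, fun i => ?_⟩
    rw [Basic.pval_padd, Pi.add_apply]
    have := rx i
    have := ry i
    push_cast
    omega

/-- The lattice contains every vector with an admissible residue. -/
theorem inL_of_inM {x : V56} (hx : Basic.InM x) : InL x := by
  obtain ⟨p, hp, rp⟩ := hx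
  obtain ⟨y, hy, ry⟩ := exists_lift hp
  have h4 : ∀ i, ∃ d, x i - y i = 4 * d := fun i =>
    ⟨(x i - y i) / 4, by have := rp i; have := ry i; omega⟩
  choose d hd using h4
  have hs : x = y + ∑ r : Fin 56, d r • four r := by
    funext i
    simp only [Pi.add_apply, Finset.sum_apply, Pi.smul_apply, smul_eq_mul, four]
    rw [Finset.sum_eq_single i]
    · have := hd i
      simp only [if_pos]
      omega
    · intro r _ hr
      rw [if_neg (fun h => hr (Fin.ext h.symm)), mul_zero]
    · intro h; exact absurd (Finset.mem_univ i) h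
  rw [hs]
  exact inL_add hy (inL_sum _ fun r _ => inL_zsmul (inL_four r) _)

theorem inM_of_inL {x : V56} (hx : InL x) : Basic.InM x := by
  obtain ⟨v, hv, rfl⟩ := hx
  exact Basic.ruLattice_le hv

theorem inL_iff {x : V56} : InL x ↔ Basic.InM x := ⟨inM_of_inL, inL_of_inM⟩

theorem mem_iff {v : RuVec} : v ∈ ruLattice ↔ Basic.InM (Basic.flat v) := by
  refine ⟨fun h => Basic.ruLattice_le h, fun h => ?_⟩
  obtain ⟨w, hw, he⟩ := inL_of_inM h
  rwa [← flat_injective he]

theorem four_dvd_dot {x y : V56} (hx : Basic.InM x) (hy : Basic.InM y) : (4 : ℤ) ∣ dot x y := by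
  obtain ⟨p, hp, rp⟩ := hx
  obtain ⟨q, hq, rq⟩ := hy
  have h := Basic.dot_span hp hq
  rw [Basic.pdot_eq] at h
  have e : (4 : ℤ) ∣ dot x y - ∑ i : Fin 56, ((Basic.pval p i * Basic.pval q i : ℕ) : ℤ) := by
    rw [dot, ← Finset.sum_sub_distrib]
    refine Finset.dvd_sum fun i _ => ?_
    obtain ⟨a, ha⟩ : ∃ a, x i = 4 * a + (Basic.pval p i : ℤ) :=
      ⟨x i / 4, by have := rp i; omega⟩
    obtain ⟨b, hb⟩ : ∃ b, y i = 4 * b + (Basic.pval q i : ℤ) :=
      ⟨y i / 4, by have := rq i; omega⟩
    exact ⟨4 * a * b + a * Basic.pval q i + b * Basic.pval p i, by rw [ha, hb]; push_cast; ring⟩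
  have h2 : (4 : ℤ) ∣ ∑ i : Fin 56, ((Basic.pval p i * Basic.pval q i : ℕ) : ℤ) := by
    rw [← Nat.cast_sum]
    exact_mod_cast Nat.dvd_of_mod_eq_zero h
  simpa using dvd_add e h2

end Cfsg.Agent.Lib.SporRu.Member
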