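import Cfsg.Agent.Lib.SporRu.EnumArith
import Cfsg.Agent.Lib.SporRu.EnumCheck
import Cfsg.Agent.Lib.SporRu.Member

/-!
Every lattice vector of norm 16 is in the explicit list: four times a signed unit vector, or sixteen signs
on one of the good parity words.
-/

set_option autoImplicit false

namespace Cfsg.Agent.Lib.SporRu.Enum

open Cfsg.Agent.Lib.RuLattice Vec EnumDefs EnumArith EnumCheck

theorem wGen_lt : ∀ k : Fin 37, (Basic.wGen k).1 < 2 ^ 56 ∧ (Basic.wGen k).2 < 2 ^ 56 := by decide +kernel

theorem span_lt {p : ℕ × ℕ} (hp : Basic.InSpan p) : p.1 < 2 ^ 56 ∧ p.2 < 2 ^ 56 := by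
  induction hp with
  | zero => norm_num
  | base i hi => exact wGen_lt ⟨i, hi⟩
  | add p q _ _ ihp ihq =>
    simp only [Basic.padd]
    exact ⟨Nat.xor_lt_two_pow ihp.1 ihq.1,
      Nat.xor_lt_two_pow (Nat.xor_lt_two_pow ihp.2 ihq.2) (Nat.and_lt_two_pow _ ihq.1)⟩

theorem span_combo {ids : List ℕ} (h : idsOk ids = true) : Basic.InSpan (Basic.combo ids) :=
  Basic.inSpan_combo ids (by simpa [idsOk] using h)

/-- Everything known about a short vector: its planes and the entrywise relation. -/
structure Short (x : V56) (c s : ℕ) : Prop where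
  span : Basic.InSpan (c, s)
  rep : Basic.Rep x (c, s)
  norm : ∑ i, x i ^ 2 = 16

theorem Short.pair {x : V56} {c s : ℕ} (h : Short x c s) {ids : List ℕ} (hi : idsOk ids = true) :
    pair4 c s (Basic.combo ids) = 0 := by
  rw [← pdot_pair4]
  exact Basic.dot_span h.span (span_combo hi)

/-- The weight of a coordinate: one for odd, four for twice odd. -/
def wt (c s i : ℕ) : ℕ := bif c.testBit i then 1 else 4 * (s.testBit i).toNat

theorem sq_ge {a : ℤ} {b t : Bool} (h : a % 4 = ((b.toNat + 2 * t.toNat : ℕ) : ℤ)) :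
    ((bif b then 1 else 4 * t.toNat : ℕ) : ℤ) ≤ a ^ 2 ∧
      a ^ 2 % 8 = ((bif b then 1 else 4 * t.toNat : ℕ) : ℤ) % 8 ∨
    b = false ∧ t = false ∧ 16 ≤ a ^ 2 ∧ a ^ 2 % 8 = 0 := by
  obtain ⟨k, hk⟩ : ∃ k, a = 4 * k + ((b.toNat + 2 * t.toNat : ℕ) : ℤ) := ⟨a / 4, by omega⟩
  cases b <;> cases t <;> simp only [Bool.toNat_true, Bool.toNat_false, cond_true, cond_false] at hk ⊢ <;>
    norm_num at hk ⊢ <;> subst hk
  · by_cases hk0 : k = 0
    · subst hk0; norm_num
    · refine Or.inr ⟨?_, ?_⟩
      · rcases lt_or_gt_of_ne hk0 with h' | h' <;> nlinarith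
      · rw [show (4 * k) ^ 2 = 8 * (2 * k ^ 2) by ring]; omega
  · refine ⟨?_, ?_⟩
    · rcases le_or_gt 0 k with h' | h' <;> nlinarith
    · rw [show (4 * k + 2) ^ 2 = 8 * (2 * k ^ 2 + 2 * k) + 4 by ring]; omega
  · refine ⟨?_, ?_⟩
    · rw [le_abs]; omega
    · rw [show (4 * k + 1) ^ 2 = 8 * (2 * k ^ 2 + k) + 1 by ring]; omega
  · refine ⟨?_, ?_⟩
    · rw [le_abs]; omega
    · rw [show (4 * k + 3) ^ 2 = 8 * (2 * k ^ 2 + 3 * k + 1) + 1 by ring]; omega

theorem Short.coord {x : V56} {c s : ℕ} (h : Short x c s) (i : Fin 56) :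
    ((wt c s i : ℕ) : ℤ) ≤ x i ^ 2 ∧ x i ^ 2 % 8 = (wt c s i : ℤ) % 8 := by
  have := sq_ge (a := x i) (b := c.testBit i) (t := s.testBit i) (h.rep i)
  rcases this with h1 | ⟨h1, h2, h3, h4⟩
  · exact h1
  · simp only [wt, h1, h2, cond_false, Bool.toNat_false, Nat.mul_zero, Nat.cast_zero]
    omega

theorem Short.total_le {x : V56} {c s : ℕ} (h : Short x c s) : ∑ i : Fin 56, wt c s i ≤ 16 := by
  have := Finset.sum_le_sum (s := Finset.univ) fun i _ => (h.coord i).1
  rw [h.norm, ← Nat.cast_sum] at this
  exact_mod_cast this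

theorem Short.total_mod {x : V56} {c s : ℕ} (h : Short x c s) : (∑ i : Fin 56, wt c s i) % 8 = 0 := by
  have e : ((∑ i : Fin 56, (wt c s i : ℤ)) % 8) = (∑ i : Fin 56, x i ^ 2) % 8 := by
    rw [Finset.sum_int_mod]
    conv_rhs => rw [Finset.sum_int_mod]
    exact congrArg (fun t => t % 8) (Finset.sum_congr rfl fun i _ => (h.coord i).2.symm)
  rw [h.norm, ← Nat.cast_sum] at e
  omega

theorem Short.eq_wt {x : V56} {c s : ℕ} (h : Short x c s) (h16 : ∑ i : Fin 56, wt c s i = 16) (i : Fin 56) :
    x i ^ 2 = wt c s i := by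
  have := (Finset.sum_eq_sum_iff_of_le (s := Finset.univ) fun i _ => (h.coord i).1).1
    (by rw [h.norm, ← Nat.cast_sum, h16]; rfl) i (Finset.mem_univ i)
  exact this.symm

theorem pc56_le_total (c s : ℕ) : pc56 c ≤ ∑ i : Fin 56, wt c s i := by
  rw [pc56_eq]
  refine Finset.sum_le_sum fun i _ => ?_
  simp only [wt]
  cases c.testBit i <;> simp

theorem total_eq (c s : ℕ) (hs : s &&& c = 0) : ∑ i : Fin 56, wt c s i = pc56 c + 4 * pc56 s := by
  rw [pc56_eq, pc56_eq, Finset.mul_sum, ← Finset.sum_add_distrib]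
  refine Finset.sum_congr rfl fun i _ => ?_
  have := congrArg (fun n => Nat.testBit n i) hs
  simp only [Nat.testBit_and, Nat.zero_testBit] at this
  simp only [wt]
  cases hc : c.testBit i <;> cases hs' : s.testBit i <;> simp_all

theorem comb_self {s : ℕ} (hs : s < 2 ^ 56) {c : ℕ} {fl : List (ℕ × ℕ)} {rows : List (ℕ × List ℕ)}
    (hsc : s &&& c = s) (hfl : ∀ fg ∈ fl, fg.2 < 2 ^ 56)
    (hrows : ∀ rw' ∈ rows, pc56 (s &&& rw'.1) % 2 = 0)
    (hcol : ∀ i < 56, (cond (Nat.beq (Nat.shiftRight c i % 2) 1)
      (Nat.beq (colOf fl i) (2 ^ i) || rows.any fun rw' => Nat.beq rw'.1 (Nat.xor (colOf fl i) (2 ^ i)))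
      (Nat.beq (colOf fl i) 0)) = true) : Basic.comb fl s = s := by
  have hlt : Basic.comb fl s < 2 ^ 56 := by
    clear hrows hcol
    induction fl with
    | nil => simp [Basic.comb]
    | cons fg l ih =>
      simp only [Basic.comb]
      refine Nat.xor_lt_two_pow ?_ (ih fun f hf => hfl f (List.mem_cons_of_mem _ hf))
      split
      · exact hfl fg List.mem_cons_self
      · norm_num
  refine Nat.eq_of_testBit_eq fun i => ?_
  by_cases hi : i < 56
  swap
  · have e : (2 : ℕ) ^ 56 ≤ 2 ^ i := Nat.pow_le_pow_right (by norm_num) (by omega)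
    rw [Nat.testBit_lt_two_pow (hlt.trans_le e), Nat.testBit_lt_two_pow (hs.trans_le e)]
  have key : pc56 (s &&& colOf fl i) % 2 = (s.testBit i).toNat := by
    have h := hcol i hi
    rw [shift_bit] at h
    have hsi := congrArg (fun n => Nat.testBit n i) hsc
    simp only [Nat.testBit_and] at hsi
    cases hc : c.testBit i
    · rw [hc] at h hsi
      simp only [Bool.and_false] at hsi
      simp only [Bool.toNat_false, show Nat.beq 0 1 = false from rfl, cond_false] at h
      rw [Nat.eq_of_beq_eq_true h, ← hsi]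
      simp [pc56_eq]
    · rw [hc] at h
      simp only [Bool.toNat_true, show Nat.beq 1 1 = true from rfl, cond_true, Bool.or_eq_true,
        List.any_eq_true] at h
      have hb : (s.testBit i).toNat % 2 = (s.testBit i).toNat := by cases s.testBit i <;> rfl
      rcases h with h | ⟨rw', hm, h⟩
      · rw [Nat.eq_of_beq_eq_true h, pc56_two_pow hs, hb]
      · have e := hrows rw' hm
        rw [Nat.eq_of_beq_eq_true h, lxor_eq, Nat.and_xor_distrib_left, pc56_xor,
          pc56_two_pow hs] at e
        omega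
  rw [← comb_testBit fl hs] at key
  cases h1 : (Basic.comb fl s).testBit i <;> cases h2 : s.testBit i <;> rw [h1, h2] at key <;>
    simp at key ⊢

/-- The vectors from the parity words. -/
def signVecs : List (ℕ × ℕ) := EnumData.tree.list.flatMap Entry.cands

/-- The positions of four times a signed unit vector. -/
def fourVecs : List (ℕ × ℕ) :=
  ((List.range 56).map fun r => (2 ^ r, 0)) ++ (List.range 56).map fun r => (0, 2 ^ r)

theorem Short.good_case {x : V56} {c s s0 : ℕ} {fl : List (ℕ × ℕ)} {rows : List (ℕ × List ℕ)}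
    (h : Short x c s) (he : (Entry.good c s0 fl rows).ok = true) :
    ∃ pn ∈ (Entry.good c s0 fl rows).cands, x = mvec 1 pn.1 pn.2 := by
  simp only [Entry.ok, Bool.and_eq_true, List.all_eq_true, Nat.blt_eq, List.mem_range] at he
  obtain ⟨⟨⟨⟨⟨hw, hc⟩, hs0⟩, hfl⟩, hrows⟩, hcol⟩ := he
  have hw' : pc56 c = 16 := Nat.eq_of_beq_eq_true hw
  have hs0' : c &&& s0 = s0 := Nat.eq_of_beq_eq_true hs0
  have h16 : ∑ i : Fin 56, wt c s i = 16 :=
    le_antisymm h.total_le (hw' ▸ pc56_le_total c s)
  have hout : ∀ i : Fin 56, c.testBit i = false → s.testBit i = false := by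
    intro i hci
    by_contra hne
    rw [Bool.not_eq_false] at hne
    have : pc56 c < ∑ i : Fin 56, wt c s i := by
      rw [pc56_eq]
      refine Finset.sum_lt_sum (fun j _ => ?_) ⟨i, Finset.mem_univ i, by simp [wt, hci, hne]⟩
      simp only [wt]; cases c.testBit j <;> simp
    omega
  have hs : s < 2 ^ 56 := (span_lt h.span).2
  have hsc : s &&& c = s := by
    refine Nat.eq_of_testBit_eq fun i => ?_
    rw [Nat.testBit_and]
    by_cases hi : i < 56
    · cases hci : c.testBit i
      · simp [hout ⟨i, hi⟩ hci]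
      · simp
    · have e : (2 : ℕ) ^ 56 ≤ 2 ^ i := Nat.pow_le_pow_right (by norm_num) (by omega)
      simp [Nat.testBit_lt_two_pow (hs.trans_le e)]
  set t := s ^^^ s0 with ht
  have hts : Basic.comb fl t = t := by
    refine comb_self (rows := rows) (c := c) ?_ ?_ hfl ?_ (fun i hi => hcol i hi)
    · refine Nat.xor_lt_two_pow hs (lt_of_le_of_lt ?_ hc)
      rw [← hs0']; exact Nat.and_le_left
    · rw [ht, Nat.and_xor_distrib_right, hsc, Nat.and_comm, hs0']
    · intro r hr
      obtain ⟨⟨hi, h0⟩, hre⟩ := hrows r hr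
      have e1 := h.pair hi
      have e0 : pair4 c s0 (Basic.combo r.2) = 0 := Nat.eq_of_beq_eq_true h0
      have er : r.1 = c &&& (Basic.combo r.2).1 := Nat.eq_of_beq_eq_true hre
      simp only [pair4, land_eq] at e1 e0
      have e2 : t &&& r.1 = (s &&& (Basic.combo r.2).1) ^^^ (s0 &&& (Basic.combo r.2).1) := by
        rw [er, ← Nat.and_assoc, ht, Nat.and_xor_distrib_right, hsc, Nat.and_comm s0 c, hs0',
          Nat.and_xor_distrib_right]
      rw [e2, pc56_xor]
      omega
  refine ⟨(c ^^^ s, s), ?_, ?_⟩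
  · simp only [Entry.cands, List.mem_map]
    refine ⟨s, ?_, rfl⟩
    have := mem_spanX fl s0 t
    rwa [hts, ht, Nat.xor_comm s s0, ← Nat.xor_assoc, Nat.xor_self, Nat.zero_xor] at this
  · funext i
    have e := h.eq_wt h16 i
    have r := h.rep i
    simp only [Basic.pval] at r
    simp only [wt] at e
    simp only [mvec, bitz, Nat.testBit_xor]
    cases hci : c.testBit i
    · rw [hci, hout i hci] at r e
      simp only [cond_false, Bool.toNat_false, Nat.mul_zero, Nat.cast_zero] at e
      simp [hout i hci, pow_eq_zero_iff (two_ne_zero) |>.1 e]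
    · rw [hci] at r e
      simp only [cond_true, Nat.cast_one] at e
      rcases sq_eq_one_iff.1 e with hx | hx <;> rw [hx] at r ⊢ <;>
        cases hsi : s.testBit i <;> rw [hsi] at r <;> simp at r ⊢

theorem Short.bad_case {x : V56} {c s : ℕ} {ids : List ℕ}
    (h : Short x c s) (he : (Entry.bad c ids).ok = true) : False := by
  simp only [Entry.ok, witOk, Bool.and_eq_true] at he
  obtain ⟨⟨hw, hi, ha⟩, hodd⟩ := he
  have hw' : pc56 c = 16 := Nat.eq_of_beq_eq_true hw
  have ha' : c &&& (Basic.combo ids).1 = 0 := Nat.eq_of_beq_eq_true ha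
  have hodd' := Nat.eq_of_beq_eq_true hodd
  have h16 := h.total_le
  have hsa : pc56 (s &&& (Basic.combo ids).1) = 0 := by
    rw [pc56_eq]
    refine Finset.sum_eq_zero fun i _ => ?_
    rw [Nat.testBit_and]
    cases hci : c.testBit i
    · cases hsi : s.testBit i
      · simp
      exfalso
      have : pc56 c < ∑ i : Fin 56, wt c s i := by
        rw [pc56_eq]
        refine Finset.sum_lt_sum (fun j _ => ?_) ⟨i, Finset.mem_univ i, by simp [wt, hci, hsi]⟩
        simp only [wt]; cases c.testBit j <;> simp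
      omega
    · have := congrArg (fun n => Nat.testBit n i) ha'
      simp [hci] at this
      simp [this]
  have e := h.pair hi
  have hz : pc56 0 = 0 := by simp [pc56_eq]
  simp only [pair4, land_eq] at e hodd'
  rw [ha', hz, hsa] at e
  omega

theorem pc_pair {m : ℕ} (h : pc56 m = 2) : ∃ i j : Fin 56, i < j ∧ m.testBit i = true ∧
    m.testBit j = true ∧ ∀ k : Fin 56, k ≠ i → k ≠ j → m.testBit k = false := by
  classical
  have hc : (Finset.univ.filter fun i : Fin 56 => m.testBit i = true).card = 2 := by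
    rw [← h, pc56_eq, Finset.card_filter]
    refine Finset.sum_congr rfl fun i _ => ?_
    cases m.testBit i <;> rfl
  obtain ⟨a, b, hab, hT⟩ := Finset.card_eq_two.1 hc
  have ha : m.testBit a = true := by
    have : a ∈ ({a, b} : Finset (Fin 56)) := by simp
    rw [← hT] at this; simpa using this
  have hb : m.testBit b = true := by
    have : b ∈ ({a, b} : Finset (Fin 56)) := by simp
    rw [← hT] at this; simpa using this
  have ho : ∀ k : Fin 56, k ≠ a → k ≠ b → m.testBit k = false := by
    intro k hka hkb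
    by_contra hk
    have : k ∈ (Finset.univ.filter fun i : Fin 56 => m.testBit i = true) := by simpa using hk
    rw [hT] at this
    simp [hka, hkb] at this
  rcases lt_or_gt_of_ne hab with h' | h'
  · exact ⟨a, b, h', ha, hb, ho⟩
  · exact ⟨b, a, h', hb, ha, fun k h1 h2 => ho k h2 h1⟩

theorem Short.eight_case {x : V56} {c s : ℕ} {us : List (List ℕ)}
    (h : Short x c s) (he : (Entry.eight c us).ok = true) : False := by
  simp only [Entry.ok, Bool.and_eq_true, List.all_eq_true, List.any_eq_true, List.mem_range] at he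
  obtain ⟨⟨⟨hw, hus⟩, ⟨u0, hu0, hodd⟩⟩, hpairs⟩ := he
  have hw' : pc56 c = 8 := Nat.eq_of_beq_eq_true hw
  set m := s ^^^ (s &&& c) with hm
  have hmb : ∀ i, m.testBit i = (s.testBit i && !c.testBit i) := by
    intro i
    rw [hm, Nat.testBit_xor, Nat.testBit_and]
    cases s.testBit i <;> cases c.testBit i <;> rfl
  have htot : ∑ i : Fin 56, wt c s i = pc56 c + 4 * pc56 m := by
    rw [pc56_eq, pc56_eq, Finset.mul_sum, ← Finset.sum_add_distrib]
    refine Finset.sum_congr rfl fun i _ => ?_
    simp only [wt, hmb]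
    cases c.testBit i <;> cases s.testBit i <;> rfl
  have hle := h.total_le
  have hmod := h.total_mod
  rw [htot, hw'] at hle hmod
  have hpar : ∀ ids ∈ us, (pc56 (c &&& (Basic.combo ids).2) + pc56 (m &&& (Basic.combo ids).1)) % 2 = 0 := by
    intro ids hids
    have hwit := hus ids hids
    simp only [witOk, Bool.and_eq_true] at hwit
    have ha : c &&& (Basic.combo ids).1 = 0 := Nat.eq_of_beq_eq_true hwit.2
    have e := h.pair hwit.1
    have hz : pc56 0 = 0 := by simp [pc56_eq]
    simp only [pair4, land_eq] at e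
    rw [ha, hz] at e
    have e2 : m &&& (Basic.combo ids).1 = s &&& (Basic.combo ids).1 := by
      rw [hm, Nat.and_xor_distrib_right, Nat.and_assoc, ha, Nat.and_zero, Nat.xor_zero]
    rw [e2]
    omega
  rcases (show pc56 m = 0 ∨ pc56 m = 2 by omega) with hm0 | hm2
  · have := hpar u0 hu0
    have h1 := Nat.eq_of_beq_eq_true hodd
    have hz : pc56 (m &&& (Basic.combo u0).1) = 0 := by
      rw [pc56_eq] at hm0 ⊢
      refine Finset.sum_eq_zero fun i _ => ?_
      have := (Finset.sum_eq_zero_iff.1 hm0) i (Finset.mem_univ i)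
      cases hb : m.testBit i <;> simp_all
    simp only [land_eq] at h1
    omega
  · obtain ⟨i, j, hij, hi, hj, ho⟩ := pc_pair hm2
    have hci : c.testBit i = false := by
      have := hmb i
      cases hc : c.testBit i
      · rfl
      · rw [hi, hc] at this; simp at this
    have hcj : c.testBit j = false := by
      have := hmb j
      cases hc : c.testBit j
      · rfl
      · rw [hj, hc] at this; simp at this
    have hh := hpairs i i.2 j j.2
    rw [shift_bit, shift_bit, hci, hcj] at hh
    simp only [show Nat.blt i.1 j.1 = true from Nat.ble_eq_true_of_le hij, Bool.toNat_false,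
      show Nat.beq 0 0 = true from rfl, Bool.and_self, cond_true, List.any_eq_true] at hh
    obtain ⟨ids, hids, h1⟩ := hh
    simp only [oddAt, shift_bit, land_eq] at h1
    have h1' := Nat.eq_of_beq_eq_true h1
    have := hpar ids hids
    have hsum : pc56 (m &&& (Basic.combo ids).1) =
        ((Basic.combo ids).1.testBit i).toNat + ((Basic.combo ids).1.testBit j).toNat := by
      rw [pc56_eq, Finset.sum_eq_add i j (ne_of_lt hij) (fun k _ hk => by simp [ho k hk.1 hk.2])
        (fun h => absurd (Finset.mem_univ _) h) (fun h => absurd (Finset.mem_univ _) h)]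
      simp [hi, hj]
    omega

theorem Short.zero_case {x : V56} {s : ℕ} (h : Short x 0 s) :
    ∃ pn ∈ fourVecs, x = mvec 4 pn.1 pn.2 := by
  classical
  have htot : ∑ i : Fin 56, wt 0 s i = 4 * pc56 s := by
    rw [total_eq 0 s (Nat.and_zero s)]; simp [pc56_eq]
  have hle := h.total_le
  have hmod := h.total_mod
  rw [htot] at hle hmod
  have hs : ∀ i : Fin 56, s.testBit i = false → x i ≠ 0 → 16 ≤ x i ^ 2 := by
    intro i hi hx
    have r := h.rep i
    simp only [Basic.pval, Nat.zero_testBit, hi, Bool.toNat_false, Nat.mul_zero, Nat.add_zero,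
      Nat.cast_zero] at r
    obtain ⟨k, hk⟩ : ∃ k, x i = 4 * k := ⟨x i / 4, by omega⟩
    rcases (show 1 ≤ k ∨ k ≤ -1 by omega) with h' | h' <;> nlinarith
  have hsplit : ∀ i : Fin 56, s.testBit i = false → x i ≠ 0 → pc56 s = 0 := by
    intro i hi hx
    have h1 : ∑ j : Fin 56, ((wt 0 s j : ℕ) : ℤ) + 16 ≤ ∑ j, x j ^ 2 := by
      rw [← Finset.add_sum_erase _ _ (Finset.mem_univ i),
        ← Finset.add_sum_erase _ (fun j => x j ^ 2) (Finset.mem_univ i)]
      have := Finset.sum_le_sum (s := Finset.univ.erase i) fun j _ => (h.coord j).1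
      have h2 := hs i hi hx
      simp only [wt, Nat.zero_testBit, hi, cond_false, Bool.toNat_false, Nat.mul_zero, Nat.cast_zero]
      simp only [wt, Nat.zero_testBit, cond_false] at this
      linarith
    rw [h.norm, ← Nat.cast_sum, htot] at h1
    omega
  by_cases hp : pc56 s = 0
  · have hb : ∀ i : Fin 56, s.testBit i = false := by
      intro i
      rw [pc56_eq] at hp
      simpa using (Finset.sum_eq_zero_iff.1 hp) i (Finset.mem_univ i)
    obtain ⟨r, hr⟩ : ∃ r, x r ≠ 0 := by
      by_contra hne
      push Not at hne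
      have := h.norm
      simp [hne] at this
    have hrest : ∀ i, i ≠ r → x i = 0 := by
      intro i hi
      by_contra hx
      have := Finset.add_le_sum (f := fun j => x j ^ 2) (fun j _ => sq_nonneg _) (Finset.mem_univ i)
        (Finset.mem_univ r) hi
      rw [h.norm] at this
      have := hs i (hb i) hx
      have := hs r (hb r) hr
      omega
    have hn := h.norm
    rw [Finset.sum_eq_single r (fun i _ hi => by simp [hrest i hi])
      (fun hh => absurd (Finset.mem_univ _) hh), show (16 : ℤ) = 4 ^ 2 from rfl, sq_eq_sq_iff_eq_or_eq_neg] at hn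
    have hcase : ∀ i : Fin 56, (2 ^ r.1).testBit i = decide (r = i) := by
      intro i
      rw [Nat.testBit_two_pow]
      by_cases e : r = i <;> simp [e, Fin.val_eq_val]
    rcases hn with hn | hn
    · refine ⟨(2 ^ r.1, 0), List.mem_append_left _ (List.mem_map.2 ⟨r.1, List.mem_range.2 r.2, rfl⟩), ?_⟩
      funext i
      by_cases e : i = r
      · subst e; simp only [mvec, bitz, hcase, Nat.zero_testBit, decide_true, if_true, hn]; norm_num
      · simp only [mvec, bitz, hcase, Nat.zero_testBit, hrest i e, decide_eq_false (Ne.symm e)]; norm_num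
    · refine ⟨(0, 2 ^ r.1), List.mem_append_right _ (List.mem_map.2 ⟨r.1, List.mem_range.2 r.2, rfl⟩), ?_⟩
      funext i
      by_cases e : i = r
      · subst e; simp only [mvec, bitz, hcase, Nat.zero_testBit, decide_true, if_true, hn]; norm_num
      · simp only [mvec, bitz, hcase, Nat.zero_testBit, hrest i e, decide_eq_false (Ne.symm e)]; norm_num
  · exfalso
    have hoff : ∀ i : Fin 56, s.testBit i = false → x i = 0 := fun i hi =>
      not_not.1 fun hx => hp (hsplit i hi hx)
    have hon : ∀ i : Fin 56, s.testBit i = true → x i ^ 2 = 4 := by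
      intro i hi
      have hc := h.coord i
      simp only [wt, Nat.zero_testBit, hi, cond_false, Bool.toNat_true] at hc
      norm_num at hc
      by_contra hne
      have r := h.rep i
      simp only [Basic.pval, Nat.zero_testBit, hi, Bool.toNat_false, Bool.toNat_true] at r
      norm_num at r
      obtain ⟨k, hk⟩ : ∃ k, x i = 4 * k + 2 := ⟨x i / 4, by omega⟩
      have h36 : 36 ≤ x i ^ 2 := by
        have h0 : k ≠ 0 := by rintro rfl; exact hne (by rw [hk]; norm_num)
        have h1 : k ≠ -1 := by rintro rfl; exact hne (by rw [hk]; norm_num)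
        rcases (show 1 ≤ k ∨ k ≤ -2 by omega) with hh | hh <;> nlinarith
      have := Finset.single_le_sum (f := fun j => x j ^ 2) (fun j _ => sq_nonneg _) (Finset.mem_univ i)
      rw [h.norm] at this
      omega
    have h16 : ∑ i : Fin 56, x i ^ 2 = ((4 * pc56 s : ℕ) : ℤ) := by
      rw [← htot, Nat.cast_sum]
      refine Finset.sum_congr rfl fun i _ => ?_
      simp only [wt, Nat.zero_testBit, cond_false]
      cases hi : s.testBit i
      · simp [hoff i hi]
      · simp [hon i hi]
    rw [h.norm] at h16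
    have hp4 : (Finset.univ.filter fun i : Fin 56 => s.testBit i = true).card = 4 := by
      have : pc56 s = 4 := by omega
      rw [← this, pc56_eq, Finset.card_filter]
      refine Finset.sum_congr rfl fun i _ => ?_
      cases s.testBit i <;> rfl
    set T := Finset.univ.filter fun i : Fin 56 => s.testBit i = true with hT
    set e := T.orderEmbOfFin hp4 with he
    have key : colOf colFl (e 0).1 ^^^ colOf colFl (e 1).1 = colOf colFl (e 2).1 ^^^ colOf colFl (e 3).1 := by
      refine colOf_congr _ _ _ _ colFl fun fg hfg => ?_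
      simp only [colFl, List.mem_map, List.mem_range] at hfg
      obtain ⟨k, hk, rfl⟩ := hfg
      have e0 := Basic.dot_span h.span (Basic.InSpan.base k hk)
      rw [pdot_pair4] at e0
      have hz : pc56 0 = 0 := by simp [pc56_eq]
      simp only [pair4, land_eq, Nat.zero_and, hz] at e0
      have hsum : pc56 (s &&& (Basic.wGen k).1) = ∑ i ∈ T, ((Basic.wGen k).1.testBit i).toNat := by
        rw [pc56_eq, hT, Finset.sum_filter]
        refine Finset.sum_congr rfl fun i _ => ?_
        cases hb : s.testBit i <;> simp [hb]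
      rw [hsum, ← Finset.map_orderEmbOfFin_univ T hp4, Finset.sum_map, Fin.sum_univ_four] at e0
      simp only [RelEmbedding.coe_toEmbedding] at e0
      rw [← he] at e0
      dsimp only
      omega
    have hpk : ∀ i j : Fin 56, i < j →
        PairData.pairs.get (colOf colFl i ^^^ colOf colFl j) = 64 * i.1 + j.1 := by
      intro i j hij
      have := pairs_ok
      simp only [pairsOk, List.all_eq_true, List.mem_range] at this
      exact Nat.eq_of_beq_eq_true (this j j.2 i hij)
    have hlt : ∀ a b : Fin 4, a < b → e a < e b := fun a b hab => e.lt_iff_lt.2 hab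
    have h01 := hpk _ _ (hlt 0 1 (by decide))
    have h23 := hpk _ _ (hlt 2 3 (by decide))
    rw [key, h23] at h01
    have := hlt 0 2 (by decide)
    have := (e 1).2
    have := (e 3).2
    omega

theorem Short.cases {x : V56} {c s : ℕ} (h : Short x c s) :
    (∃ pn ∈ fourVecs, x = mvec 4 pn.1 pn.2) ∨ ∃ pn ∈ signVecs, x = mvec 1 pn.1 pn.2 := by
  have hc16 : pc56 c ≤ 16 := (pc56_le_total c s).trans h.total_le
  have hk : known c = true := by
    have hnd : ((Data.infoA ++ Data.infoB).map Prod.fst).Nodup := by decide +kernel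
    have hlt : ∀ j ∈ (Data.infoA ++ Data.infoB).map Prod.fst, j < 56 := by decide +kernel
    have hsum : ((Data.infoA ++ Data.infoB).map fun jr => (c.testBit jr.1).toNat).sum ≤ 16 := by
      refine le_trans ?_ hc16
      have e : ((Data.infoA ++ Data.infoB).map fun jr => (c.testBit jr.1).toNat) =
          ((Data.infoA ++ Data.infoB).map Prod.fst).map fun j => (c.testBit j).toNat := by
        rw [List.map_map]; rfl
      rw [e, ← List.sum_toFinset _ hnd, pc56_eq,
        Fin.sum_univ_eq_sum_range (fun i => (c.testBit i).toNat)]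
      exact Finset.sum_le_sum_of_subset fun j hj =>
        Finset.mem_range.2 (hlt j (List.mem_toFinset.1 hj))
    rw [List.map_append, List.sum_append] at hsum
    by_cases hA : (Data.infoA.map fun jr => (c.testBit jr.1).toNat).sum ≤ 8
    · simpa [Basic.comb_span Basic.infoA_ok h.span] using chk_sound Data.infoA 8 0 c coverA hA
    · simpa [Basic.comb_span Basic.infoB_ok h.span] using chk_sound Data.infoB 7 0 c coverB (by omega)
  simp only [known, show Nat.blt 16 (pc56 c) = false from by
    rw [Bool.eq_false_iff, ne_eq, Nat.blt_eq]; omega, cond_false, Bool.or_eq_true] at hk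
  rcases hk with hk | hk
  · left
    have : c = 0 := Nat.eq_of_beq_eq_true hk
    subst this
    exact h.zero_case
  obtain ⟨e, he, hw⟩ := T.mem_sound hk
  have hok := entry_ok he
  cases e with
  | good c' s0 fl rows =>
    simp only [Entry.word] at hw
    subst hw
    obtain ⟨pn, hpn, hx⟩ := h.good_case hok
    exact Or.inr ⟨pn, List.mem_flatMap.2 ⟨_, he, hpn⟩, hx⟩
  | bad c' ids =>
    simp only [Entry.word] at hw
    subst hw
    exact (h.bad_case hok).elim
  | eight c' us =>
    simp only [Entry.word] at hw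
    subst hw
    exact (h.eight_case hok).elim

/-- A norm-16 lattice vector is four times a signed unit vector or a listed sign vector. -/
theorem short_vectors {x : V56} (hx : Basic.InM x) (hn : ∑ i, x i ^ 2 = 16) :
    (∃ pn ∈ fourVecs, x = mvec 4 pn.1 pn.2) ∨ ∃ pn ∈ signVecs, x = mvec 1 pn.1 pn.2 := by
  obtain ⟨⟨c, s⟩, hp, hr⟩ := hx
  exact Short.cases ⟨hp, hr, hn⟩

end Cfsg.Agent.Lib.SporRu.Enum
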