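import Cfsg.Agent.Lib.RuLattice.Basic

/-!
Certificates for the parity words of small weight of the rank-28 Gaussian lattice: for each word either an
affine parametrisation of the admissible sign patterns or a witness that there is none.
-/

set_option autoImplicit false

namespace Cfsg.Agent.Lib.SporRu.EnumDefs

open Cfsg.Agent.Lib.RuLattice

/-- A packed table of the bit counts of the bytes. -/
def byteTable : ℕ := 95125173855764218123276304889944061997689682402263585766959741291920687686033329201817409157123347502415384089435969498586180241031507595463600295898153685276653211633572815512294064538494957912327413386667662218713394765509704508661031522276467630197481635010039778342554499416459730172574551513689147646224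

/-- The bit count of the lowest byte. -/
def byte (n : ℕ) : ℕ := Nat.shiftRight byteTable (4 * (n % 256)) % 16

/-- The bit count of the lowest 56 bits. -/
def pc56 (n : ℕ) : ℕ :=
  byte n + byte (Nat.shiftRight n 8) + byte (Nat.shiftRight n 16) + byte (Nat.shiftRight n 24) +
    byte (Nat.shiftRight n 32) + byte (Nat.shiftRight n 40) + byte (Nat.shiftRight n 48)

/-- One parity word with its certificate. -/
inductive Entry where
  | good (c s : ℕ) (fl : List (ℕ × ℕ)) (rows : List (ℕ × List ℕ))
  | bad (c : ℕ) (ids : List ℕ)
  | eight (c : ℕ) (us : List (List ℕ))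

/-- A search tree of entries. -/
inductive T where
  | leaf
  | node (l : T) (e : Entry) (r : T)

/-- The parity word of an entry. -/
def Entry.word : Entry → ℕ
  | .good c _ _ _ => c
  | .bad c _ => c
  | .eight c _ => c

/-- All entries. -/
def T.list : T → List Entry
  | .leaf => []
  | .node l e r => l.list ++ e :: r.list

/-- Search. -/
def T.mem : T → ℕ → Bool
  | .leaf, _ => false
  | .node l e r, n => cond (Nat.beq n e.word) true (cond (Nat.blt n e.word) (l.mem n) (r.mem n))

theorem T.mem_sound : ∀ {t : T} {n : ℕ}, t.mem n = true → ∃ e ∈ t.list, e.word = n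
  | .leaf, n, h => by simp [T.mem] at h
  | .node l e r, n, h => by
    simp only [T.mem] at h
    cases h1 : Nat.beq n e.word
    · rw [h1, cond_false] at h
      cases h2 : Nat.blt n e.word
      · rw [h2, cond_false] at h
        obtain ⟨f, hf, hw⟩ := T.mem_sound h
        exact ⟨f, by simp [T.list, hf], hw⟩
      · rw [h2, cond_true] at h
        obtain ⟨f, hf, hw⟩ := T.mem_sound h
        exact ⟨f, by simp [T.list, hf], hw⟩
    · exact ⟨e, by simp [T.list], (Nat.eq_of_beq_eq_true h1).symm⟩

/-- The column of an affine parametrisation at a position. -/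
def colOf : List (ℕ × ℕ) → ℕ → ℕ
  | [], _ => 0
  | fg :: l, i => Nat.xor (cond (Nat.beq (Nat.shiftRight fg.2 i % 2) 1) (2 ^ fg.1) 0) (colOf l i)

/-- The coset of a span. -/
def spanX (a : ℕ) : List ℕ → List ℕ
  | [] => [a]
  | g :: l => spanX a l ++ spanX (Nat.xor a g) l

/-- The pairing modulo 4 of a word with planes `(c, s)` and a word with planes `u`. -/
def pair4 (c s : ℕ) (u : ℕ × ℕ) : ℕ :=
  (pc56 (Nat.land c u.1) + 2 * pc56 (Nat.land s u.1) + 2 * pc56 (Nat.land c u.2)) % 4

/-- Valid generator labels. -/
def idsOk (ids : List ℕ) : Bool := ids.all fun i => Nat.blt i 37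

/-- A witness word: valid labels, disjoint from the parity word. -/
def witOk (c : ℕ) (ids : List ℕ) : Bool := idsOk ids && Nat.beq (Nat.land c (Basic.combo ids).1) 0

/-- An odd pairing for the word with two exceptional positions. -/
def oddAt (c i j : ℕ) (ids : List ℕ) : Bool :=
  Nat.beq ((pc56 (Nat.land c (Basic.combo ids).2) + Nat.shiftRight (Basic.combo ids).1 i % 2 +
    Nat.shiftRight (Basic.combo ids).1 j % 2) % 2) 1

/-- The check of one entry. -/
def Entry.ok : Entry → Bool
  | .good c s fl rows =>
    Nat.beq (pc56 c) 16 && Nat.blt c (2 ^ 56) && Nat.beq (Nat.land c s) s &&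
      (fl.all fun fg => Nat.blt fg.2 (2 ^ 56)) &&
      (rows.all fun rw => idsOk rw.2 && Nat.beq (pair4 c s (Basic.combo rw.2)) 0 &&
        Nat.beq rw.1 (Nat.land c (Basic.combo rw.2).1)) &&
      ((List.range 56).all fun i =>
        cond (Nat.beq (Nat.shiftRight c i % 2) 1)
          (Nat.beq (colOf fl i) (2 ^ i) || rows.any fun rw => Nat.beq rw.1 (Nat.xor (colOf fl i) (2 ^ i)))
          (Nat.beq (colOf fl i) 0))
  | .bad c ids =>
    Nat.beq (pc56 c) 16 && witOk c ids && Nat.beq (pc56 (Nat.land c (Basic.combo ids).2) % 2) 1
  | .eight c us =>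
    Nat.beq (pc56 c) 8 && us.all (witOk c) &&
      (us.any fun ids => Nat.beq (pc56 (Nat.land c (Basic.combo ids).2) % 2) 1) &&
      ((List.range 56).all fun i => (List.range 56).all fun j =>
        cond (Nat.blt i j && Nat.beq (Nat.shiftRight c i % 2) 0 && Nat.beq (Nat.shiftRight c j % 2) 0)
          (us.any (oddAt c i j)) true)

/-- The vectors of an entry as scale, positive and negative positions. -/
def Entry.cands : Entry → List (ℕ × ℕ)
  | .good c s fl _ => (spanX s (fl.map Prod.snd)).map fun t => (Nat.xor c t, t)
  | _ => []

/-- A search tree of codes. -/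
inductive N where
  | leaf
  | node (l : N) (k v : ℕ) (r : N)

/-- Look up; the default is zero. -/
def N.get : N → ℕ → ℕ
  | .leaf, _ => 0
  | .node l k v r, n => cond (Nat.beq n k) v (cond (Nat.blt n k) (l.get n) (r.get n))

end Cfsg.Agent.Lib.SporRu.EnumDefs
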