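import Cfsg.Agent.Lib.SporRu.Vec
import Cfsg.Agent.Lib.SporRu.EnumDefs

/-!
Bit counts, the pairing modulo 4 of two residue words, and the affine parametrisation of sign patterns.
-/

set_option autoImplicit false

namespace Cfsg.Agent.Lib.SporRu.EnumArith

open Cfsg.Agent.Lib.RuLattice EnumDefs

theorem byte_table : ∀ b : Fin 256, Nat.shiftRight byteTable (4 * b.1) % 16 =
    ∑ i ∈ Finset.range 8, (b.1.testBit i).toNat := by decide +kernel

theorem byte_eq (n : ℕ) : byte n = ∑ i ∈ Finset.range 8, (n.testBit i).toNat := by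
  have h := byte_table ⟨n % 256, Nat.mod_lt _ (by norm_num)⟩
  rw [byte, h]
  refine Finset.sum_congr rfl fun i hi => ?_
  have hi' := Finset.mem_range.1 hi
  show ((n % 2 ^ 8).testBit i).toNat = _
  rw [Nat.testBit_mod_two_pow]
  simp [hi']

theorem byte_shift (n k : ℕ) :
    byte (Nat.shiftRight n k) = ∑ i ∈ Finset.range 8, (n.testBit (k + i)).toNat := by
  rw [byte_eq]
  refine Finset.sum_congr rfl fun i _ => ?_
  rw [show Nat.shiftRight n k = n >>> k from rfl, Nat.testBit_shiftRight]

theorem pc56_eq (n : ℕ) : pc56 n = ∑ i : Fin 56, (n.testBit i).toNat := by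
  rw [Fin.sum_univ_eq_sum_range (fun i => (n.testBit i).toNat)]
  rw [show 56 = 8 + 8 + 8 + 8 + 8 + 8 + 8 from rfl]
  simp only [Finset.sum_range_add]
  rw [pc56, byte_eq n, byte_shift, byte_shift, byte_shift, byte_shift, byte_shift, byte_shift]

theorem pc56_xor (a b : ℕ) : pc56 (a ^^^ b) % 2 = (pc56 a + pc56 b) % 2 := by
  rw [pc56_eq, pc56_eq, pc56_eq, ← Finset.sum_add_distrib, Finset.sum_nat_mod]
  conv_rhs => rw [Finset.sum_nat_mod]
  refine congrArg (fun s => s % 2) (Finset.sum_congr rfl fun i _ => ?_)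
  rw [Nat.testBit_xor]
  cases a.testBit i <;> cases b.testBit i <;> rfl

theorem land_eq (a b : ℕ) : Nat.land a b = a &&& b := rfl

theorem lxor_eq (a b : ℕ) : Nat.xor a b = a ^^^ b := rfl

theorem shift_bit (n i : ℕ) : Nat.shiftRight n i % 2 = (n.testBit i).toNat := by
  rw [show Nat.shiftRight n i = n >>> i from rfl, Nat.shiftRight_eq_div_pow, Nat.toNat_testBit]

theorem pdot_pair4 (c s : ℕ) (u : ℕ × ℕ) : Basic.pdot (c, s) u % 4 = pair4 c s u := by
  simp only [Basic.pdot_eq, pair4, pc56_eq, land_eq, Finset.mul_sum, ← Finset.sum_add_distrib]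
  rw [Finset.sum_nat_mod]
  conv_rhs => rw [Finset.sum_nat_mod]
  refine congrArg (fun t => t % 4) (Finset.sum_congr rfl fun i _ => ?_)
  simp only [Basic.pval, Nat.testBit_and]
  cases c.testBit i <;> cases s.testBit i <;> cases u.1.testBit i <;> cases u.2.testBit i <;> rfl

theorem pc56_two_pow {n f : ℕ} (hn : n < 2 ^ 56) : pc56 (n &&& 2 ^ f) = (n.testBit f).toNat := by
  rw [pc56_eq]
  by_cases hf : f < 56
  · rw [Finset.sum_eq_single (⟨f, hf⟩ : Fin 56)]
    · simp [Nat.testBit_two_pow_self]
    · intro i _ hi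
      have : f ≠ i.1 := fun e => hi (Fin.ext e.symm)
      simp [Nat.testBit_two_pow_of_ne this]
    · intro h; exact absurd (Finset.mem_univ _) h
  · have h1 : n.testBit f = false := Nat.testBit_lt_two_pow (lt_of_lt_of_le hn
      (Nat.pow_le_pow_right (by norm_num) (by omega)))
    rw [h1]
    refine Finset.sum_eq_zero fun i _ => ?_
    simp [Nat.testBit_two_pow_of_ne (show f ≠ i.1 by omega)]

theorem comb_testBit : ∀ (fl : List (ℕ × ℕ)) {n : ℕ}, n < 2 ^ 56 → ∀ i,
    ((Basic.comb fl n).testBit i).toNat = pc56 (n &&& colOf fl i) % 2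
  | [], n, _, i => by simp [Basic.comb, colOf, pc56_eq]
  | fg :: l, n, hn, i => by
    have ih := comb_testBit l hn i
    have hb := shift_bit fg.2 i
    simp only [colOf, Basic.comb, lxor_eq, Nat.and_xor_distrib_left, pc56_xor, hb]
    rw [Nat.add_mod, ← ih]
    cases hg : fg.2.testBit i <;> cases hn' : n.testBit fg.1 <;>
      simp [hg, hn', pc56_two_pow hn, pc56_eq (0 : ℕ), Nat.testBit_xor,
        show Nat.beq 0 1 = false from rfl, show Nat.beq 1 1 = true from rfl] <;>
      cases (Basic.comb l n).testBit i <;> rfl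

theorem mem_spanX : ∀ (fl : List (ℕ × ℕ)) (a n : ℕ),
    a ^^^ Basic.comb fl n ∈ spanX a (fl.map Prod.snd)
  | [], a, n => by simp [Basic.comb, spanX]
  | fg :: l, a, n => by
    simp only [List.map_cons, spanX, List.mem_append, Basic.comb, lxor_eq]
    cases n.testBit fg.1
    · left
      simpa using mem_spanX l a n
    · right
      have := mem_spanX l (a ^^^ fg.2) n
      simpa [Nat.xor_assoc] using this

theorem colOf_congr (i j k l : ℕ) : ∀ (fl : List (ℕ × ℕ)),
    (∀ fg ∈ fl, ((fg.2.testBit i).toNat + (fg.2.testBit j).toNat + (fg.2.testBit k).toNat +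
      (fg.2.testBit l).toNat) % 2 = 0) →
    colOf fl i ^^^ colOf fl j = colOf fl k ^^^ colOf fl l
  | [], _ => by simp [colOf]
  | fg :: r, h => by
    have ih := colOf_congr i j k l r fun f hf => h f (List.mem_cons_of_mem _ hf)
    have h0 := h fg (List.mem_cons_self)
    simp only [colOf, lxor_eq, shift_bit]
    refine Nat.eq_of_testBit_eq fun t => ?_
    have iht := congrArg (fun x => Nat.testBit x t) ih
    simp only [Nat.testBit_xor] at iht ⊢
    revert h0 iht
    cases fg.2.testBit i <;> cases fg.2.testBit j <;> cases fg.2.testBit k <;> cases fg.2.testBit l <;>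
      simp [show Nat.beq 0 1 = false from rfl, show Nat.beq 1 1 = true from rfl] <;>
      cases (2 ^ fg.1).testBit t <;> cases (colOf r i).testBit t <;> cases (colOf r j).testBit t <;>
      cases (colOf r k).testBit t <;> cases (colOf r l).testBit t <;> simp

end Cfsg.Agent.Lib.SporRu.EnumArith
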