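import Cfsg.Agent.Lib.SporRu.EnumData000
import Cfsg.Agent.Lib.SporRu.EnumData001
import Cfsg.Agent.Lib.SporRu.EnumData010
import Cfsg.Agent.Lib.SporRu.EnumData011
import Cfsg.Agent.Lib.SporRu.EnumData100
import Cfsg.Agent.Lib.SporRu.EnumData101
import Cfsg.Agent.Lib.SporRu.EnumData110
import Cfsg.Agent.Lib.SporRu.EnumData111

/-! The tree of parity words of small weight. -/

set_option autoImplicit false
set_option maxRecDepth 200000

namespace Cfsg.Agent.Lib.SporRu.EnumData

open EnumDefs

def tree : T :=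
  (.node (.node (.node EnumData000.part (.bad 111050685519193 [10]) EnumData001.part) (.good 2539332206412360 2534932782006336 [(3, 6055903887432), (9, 2538772348551680), (16, 2539330696445952), (25, 2533834646093824)] [(72, [0, 1, 2, 3, 4, 5, 6]), (16896, [1, 4, 6, 9]), (2162688, [11]), (167772160, [1, 2, 4, 6]), (301989888, [0, 4, 6]), (1107296256, [2]), (8623554568, [1, 2, 4, 5, 6, 8, 11]), (549789433864, [4, 5, 6, 8, 11]), (1099511693832, [1, 2, 4, 5, 6, 9, 11, 18]), (4398046577160, [1, 2, 4, 5, 6, 9, 11]), (281475010331136, [4, 9, 11, 17]), (2251799847305728, [4, 9, 11])]) (.node EnumData010.part (.good 6942394843137632 186916976721920 [(5, 186994286133344), (9, 6942316417779200), (18, 6942393735839744), (25, 6755477857763328)] [(96, [0, 1, 2, 3, 4, 5, 6]), (1536, [0, 2, 5, 8, 9, 12]), (8650752, [0, 2, 5, 13]), (1107296256, [10]), (8623751200, [0, 4, 5, 6, 10, 13]), (68753293344, [0, 1, 4, 6, 10, 13]), (2199023518240, [0, 4, 5, 6, 8, 9, 10, 13]), (8796093284896, [0, 2, 4, 5, 6,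 8, 9, 13]), (35184372351520, [4, 6, 9, 10, 13]), (140737488618016, [0, 1, 2, 4, 6, 9, 10, 13]), (2251799847502336, [0, 1, 2, 4, 8, 9, 10, 13]), (4503599661187584, [0, 9, 10, 13])]) EnumData011.part)) (.good 18460942640089440 147335099189248 [(5, 165068478087264), (8, 18460800230361344), (19, 18460941968998400), (27, 18296015891202048)] [(96, [0, 1, 2, 3, 4, 5, 6]), (2304, [0, 1, 2, 7]), (4718592, [2, 4, 10]), (671088640, [10]), (4429709344, [0, 1, 2, 4, 6, 9, 16]), (137573695520, [0, 1, 2, 4, 6, 9]), (2199023780128, [0, 1, 2, 4, 6, 7, 10]), (4398047035680, [2, 4, 5, 6, 7]), (17592186568992, [0, 1, 2, 6, 7]), (140737488879904, [6, 7, 10]), (281475111452928, [1, 7, 17]), (18014398644224256, [1, 7])]) (.node (.node EnumData100.part (.bad 25068427039997952 [0, 1, 2]) EnumData101.part) (.good 36778741595218016 36635805016391680 [(5, 186994286133344), (13, 36778663949148160), (16, 36778741259632640), (26, 36591824617340928)] [(96, [0, 1, 2, 3, 4, 5, 6]), (40960, [0, 1, 2, 4, 12]), (1114112,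 [0, 1, 2, 4, 8, 11, 12, 15]), (335544320, [10]), (8657109024, [0, 4, 5, 6, 8, 11, 12]), (68786651168, [1, 4, 6, 11]), (2199023329312, [2, 4, 6, 8, 11]), (8796093095968, [0, 1, 2, 6, 8, 11, 12]), (35184372162592, [1, 5, 6, 10, 11, 12]), (140737488429088, [0, 1, 4, 5, 6, 8, 11, 12]), (562950020603904, [2, 5, 11]), (36028797086146560, [1, 4, 5, 8, 11])]) (.node EnumData110.part (.good 45141705527661602 9042521208393728 [(1, 105707735089186), (10, 45141549389976576), (19, 45141704017707008), (25, 45036152402477056)] [(34, [0, 1, 2, 3, 4, 5, 6]), (5120, [0, 2, 5, 8, 9, 12]), (8912896, [0, 2, 3, 5, 9, 11]), (167772160, [5, 9, 11]), (301989888, [0, 1, 2, 3, 10]), (1107296256, [0, 1, 2, 3, 5, 9, 11]), (17213947906, [4, 9, 11]), (137473032194, [0, 1, 2, 3, 4, 11]), (35184372614146, [4, 5, 9, 10, 12]), (70368744702978, [1, 3, 4, 5, 11, 12]), (9007199288820736, [0, 11, 12]), (36028797053043712, [0, 1, 5, 11, 12])]) EnumData111.part)))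

end Cfsg.Agent.Lib.SporRu.EnumData
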