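import Mathlib

/-!
Matrices of size 28 over the field of five elements, stored in one number with a lane of ten bits per entry.
-/

set_option autoImplicit false

namespace Cfsg.Agent.Lib.SporRu.F5Code

/-- A lane of width `w`. -/
def lane (w n k : ℕ) : ℕ := Nat.shiftRight n (w * k) % 2 ^ w

/-- A number from its lanes. -/
def pk (w : ℕ) (f : ℕ → ℕ) : ℕ → ℕ
  | 0 => 0
  | k + 1 => pk w f k + Nat.shiftLeft (f k) (w * k)

theorem lane_eq (w n k : ℕ) : lane w n k = n / 2 ^ (w * k) % 2 ^ w := by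
  rw [lane, show Nat.shiftRight n (w * k) = n >>> (w * k) from rfl, Nat.shiftRight_eq_div_pow]

theorem pk_succ (w : ℕ) (f : ℕ → ℕ) (k : ℕ) : pk w f (k + 1) = pk w f k + f k * 2 ^ (w * k) := by
  rw [pk, show Nat.shiftLeft (f k) (w * k) = f k <<< (w * k) from rfl, Nat.shiftLeft_eq]

theorem pk_lt {w : ℕ} {f : ℕ → ℕ} : ∀ {m : ℕ}, (∀ k < m, f k < 2 ^ w) → pk w f m < 2 ^ (w * m)
  | 0, _ => by simp [pk]
  | m + 1, h => by
    rw [pk_succ]
    have h1 := pk_lt (m := m) fun k hk => h k (by omega)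
    have h2 := h m (by omega)
    calc pk w f m + f m * 2 ^ (w * m) < 2 ^ (w * m) + f m * 2 ^ (w * m) := by omega
      _ = (f m + 1) * 2 ^ (w * m) := by ring
      _ ≤ 2 ^ w * 2 ^ (w * m) := Nat.mul_le_mul_right _ h2
      _ = 2 ^ (w * (m + 1)) := by rw [← pow_add]; ring_nf

theorem lane_pk {w : ℕ} {f : ℕ → ℕ} : ∀ {m : ℕ}, (∀ k < m, f k < 2 ^ w) → ∀ k,
    lane w (pk w f m) k = if k < m then f k else 0
  | 0, _, k => by simp [pk, lane_eq]
  | m + 1, h, k => by
    have h1 := pk_lt (m := m) fun k hk => h k (by omega)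
    have ih := lane_pk (m := m) (fun k hk => h k (by omega)) k
    rcases lt_trichotomy k m with hk | rfl | hk
    · rw [if_pos hk] at ih
      rw [if_pos (by omega), lane_eq, pk_succ]
      rw [lane_eq] at ih
      obtain ⟨d, hd⟩ : ∃ d, w * m = w * k + w + d :=
        Nat.exists_eq_add_of_le (by rw [← Nat.mul_succ]; exact Nat.mul_le_mul_left w hk)
      rw [hd, pow_add, pow_add, show f m * (2 ^ (w * k) * 2 ^ w * 2 ^ d) = f m * 2 ^ w * 2 ^ d * 2 ^ (w * k) by
        ring, Nat.add_mul_div_right _ _ (Nat.two_pow_pos _), show f m * 2 ^ w * 2 ^ d = 2 ^ w * (f m * 2 ^ d) by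
        ring, Nat.add_mul_mod_self_left, ih]
    · rw [if_pos (by omega), lane_eq, pk_succ, Nat.add_mul_div_right _ _ (Nat.two_pow_pos _),
        Nat.div_eq_of_lt h1, Nat.zero_add, Nat.mod_eq_of_lt (h k (by omega))]
    · rw [if_neg (by omega), lane_eq, Nat.div_eq_of_lt ?_, Nat.zero_mod]
      refine (pk_lt h).trans_le (Nat.pow_le_pow_right (by norm_num) ?_)
      exact Nat.mul_le_mul_left w hk

theorem ext_lanes {w : ℕ} : ∀ (m : ℕ) {a b : ℕ}, a < 2 ^ (w * m) → b < 2 ^ (w * m) →
    (∀ k < m, lane w a k = lane w b k) → a = b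
  | 0, a, b, ha, hb, _ => by simp at ha hb; omega
  | m + 1, a, b, ha, hb, h => by
    have h0 := h 0 (by omega)
    simp only [lane_eq, Nat.mul_zero, pow_zero, Nat.div_one] at h0
    have key : a / 2 ^ w = b / 2 ^ w := by
      refine ext_lanes (w := w) m ?_ ?_ fun k hk => ?_
      · rw [Nat.div_lt_iff_lt_mul (Nat.two_pow_pos w), ← pow_add]; rwa [Nat.mul_succ] at ha
      · rw [Nat.div_lt_iff_lt_mul (Nat.two_pow_pos w), ← pow_add]; rwa [Nat.mul_succ] at hb
      · have := h (k + 1) (by omega)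
        rwa [lane_eq, lane_eq, Nat.mul_succ, Nat.add_comm, pow_add, ← Nat.div_div_eq_div_mul,
          ← Nat.div_div_eq_div_mul, ← lane_eq, ← lane_eq] at this
    rw [← Nat.div_add_mod a (2 ^ w), ← Nat.div_add_mod b (2 ^ w), key, h0]

theorem pk_congr {w : ℕ} {f g : ℕ → ℕ} : ∀ {m : ℕ}, (∀ k < m, f k = g k) → pk w f m = pk w g m
  | 0, _ => rfl
  | m + 1, h => by rw [pk_succ, pk_succ, h m (by omega), pk_congr fun k hk => h k (by omega)]

theorem pk_add (w : ℕ) (f g : ℕ → ℕ) : ∀ m, pk w f m + pk w g m = pk w (fun k => f k + g k) m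
  | 0 => rfl
  | m + 1 => by rw [pk_succ, pk_succ, pk_succ, ← pk_add w f g m]; ring

theorem pk_mul (w : ℕ) (f : ℕ → ℕ) (c : ℕ) : ∀ m, pk w f m * c = pk w (fun k => f k * c) m
  | 0 => by simp [pk]
  | m + 1 => by rw [pk_succ, pk_succ, ← pk_mul w f c m]; ring

theorem pk_append (w : ℕ) (f : ℕ → ℕ) (a : ℕ) : ∀ b,
    pk w f (a + b) = pk w f a + pk w (fun k => f (a + k)) b * 2 ^ (w * a)
  | 0 => by simp [pk]
  | b + 1 => by
    rw [← Nat.add_assoc, pk_succ, pk_append w f a b, pk_succ, Nat.mul_add, pow_add]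
    ring

theorem pk_block (w : ℕ) (f : ℕ → ℕ) (b : ℕ) : ∀ m,
    pk w f (b * m) = pk (w * b) (fun k => pk w (fun j => f (b * k + j)) b) m
  | 0 => by simp [pk]
  | m + 1 => by
    rw [Nat.mul_succ, pk_append, pk_succ, pk_block w f b m, Nat.mul_assoc]

theorem land_pk {w : ℕ} {n c : ℕ} {m : ℕ} {f : ℕ → ℕ} (hc : c = pk w f m) (hf : ∀ k < m, f k < 2 ^ w) :
    Nat.land n c = pk w (fun k => lane w n k &&& f k) m := by
  have hlt : pk w f m < 2 ^ (w * m) := pk_lt hf
  have hlt' : ∀ k < m, lane w n k &&& f k < 2 ^ w := fun k hk => lt_of_le_of_lt Nat.and_le_right (hf k hk)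
  refine ext_lanes m ?_ (pk_lt hlt') fun k hk => ?_
  · rw [hc]; exact lt_of_le_of_lt Nat.and_le_right hlt
  · rw [lane_pk hlt', if_pos hk]
    have hl : lane w c k = f k := by rw [hc, lane_pk hf, if_pos hk]
    rw [← hl]
    simp only [lane_eq]
    refine Nat.eq_of_testBit_eq fun i => ?_
    simp only [show Nat.land n c = n &&& c from rfl, Nat.testBit_and, Nat.testBit_mod_two_pow,
      Nat.testBit_div_two_pow]
    cases decide (i < w) <;> simp

/-- All entries at the even lanes. -/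
def evenMask : ℕ := pk 20 (fun _ => 1023) 392

/-- The first entry of each column. -/
def colMask : ℕ := pk 280 (fun _ => 7) 28

/-- A quotient by five of all lanes of twenty bits. -/
def div5 (e : ℕ) : ℕ := Nat.land (Nat.shiftRight (e * 205) 10) evenMask

/-- Reduction modulo five of all lanes of twenty bits. -/
def red20 (e : ℕ) : ℕ := e - 5 * div5 e

/-- Reduction modulo five of all lanes. -/
def red (r : ℕ) : ℕ :=
  red20 (Nat.land r evenMask) + Nat.shiftLeft (red20 (Nat.land (Nat.shiftRight r 10) evenMask)) 10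

/-- The sum of the first `n` outer products. -/
def mulAux (N X : ℕ) : ℕ → ℕ
  | 0 => 0
  | i + 1 => mulAux N X i + Nat.land (Nat.shiftRight X (10 * i)) colMask *
      (Nat.shiftRight N (280 * i) % 2 ^ 280)

/-- The matrix product. -/
def mul (N X : ℕ) : ℕ := red (mulAux N X 28)

/-- The entry in row `j` and column `k`. -/
def ent (N j k : ℕ) : ℕ := lane 10 N (28 * k + j)

/-- Decoding. -/
def dec (N : ℕ) : Matrix (Fin 28) (Fin 28) (ZMod 5) := Matrix.of fun j k => (ent N j.1 k.1 : ZMod 5)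

/-- The entries are reduced. -/
def Good (N : ℕ) : Prop := ∀ t < 784, lane 10 N t < 5

theorem lane_shift (w n a k : ℕ) : lane w (Nat.shiftRight n (w * a)) k = lane w n (a + k) := by
  rw [lane_eq, lane_eq, show Nat.shiftRight n (w * a) = n >>> (w * a) from rfl,
    Nat.shiftRight_eq_div_pow, Nat.div_div_eq_div_mul, ← pow_add, Nat.mul_add]

theorem lane_two (n t : ℕ) : lane 20 n t % 1024 = lane 10 n (2 * t) := by
  rw [lane_eq, lane_eq, show (1024 : ℕ) = 2 ^ 10 by norm_num,
    Nat.mod_mod_of_dvd _ (by norm_num : (2 : ℕ) ^ 10 ∣ 2 ^ 20), show 10 * (2 * t) = 20 * t by ring]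

theorem and_1023 (v : ℕ) : v &&& 1023 = v % 1024 := Nat.and_two_pow_sub_one_eq_mod v 10

theorem and_seven (v : ℕ) : v &&& 7 = v % 8 := Nat.and_two_pow_sub_one_eq_mod v 3

theorem div5_pk {v : ℕ → ℕ} (hv : ∀ t < 392, v t < 449) :
    div5 (pk 20 v 392) = pk 20 (fun t => v t / 5) 392 := by
  have h1 : ∀ t < 392, v t * 205 < 2 ^ 20 := fun t ht => by have := hv t ht; omega
  rw [div5, pk_mul, land_pk (w := 20) (c := evenMask) (m := 392) (f := fun _ => 1023) rfl (fun _ _ => by norm_num)]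
  refine pk_congr fun t ht => ?_
  rw [and_1023, lane_eq, show Nat.shiftRight (pk 20 (fun k => v k * 205) 392) 10 =
    pk 20 (fun k => v k * 205) 392 / 2 ^ 10 from Nat.shiftRight_eq_div_pow _ _, Nat.div_div_eq_div_mul,
    ← pow_add, Nat.add_comm 10, pow_add, ← Nat.div_div_eq_div_mul]
  have e : pk 20 (fun k => v k * 205) 392 / 2 ^ (20 * t) % 2 ^ 20 = v t * 205 := by
    rw [← lane_eq, lane_pk h1, if_pos ht]
  generalize pk 20 (fun k => v k * 205) 392 / 2 ^ (20 * t) = q at e ⊢
  have := hv t ht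
  have hd : v t * 205 / 1024 = v t / 5 := by omega
  have hq : q = 1048576 * (q / 1048576) + v t * 205 := by
    have := Nat.div_add_mod q 1048576
    norm_num at e
    omega
  rw [hq, show (2 : ℕ) ^ 10 = 1024 by norm_num, show (2 : ℕ) ^ 20 = 1048576 by norm_num,
    show 1048576 * (q / 1048576) + v t * 205 = v t * 205 + 1024 * (1024 * (q / 1048576)) by ring,
    Nat.add_mul_div_left _ _ (by norm_num : 0 < 1024), hd]
  omega

theorem red20_pk {v : ℕ → ℕ} (hv : ∀ t < 392, v t < 449) :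
    red20 (pk 20 v 392) = pk 20 (fun t => v t % 5) 392 := by
  rw [red20, div5_pk hv, Nat.mul_comm 5, pk_mul]
  refine Nat.sub_eq_of_eq_add ?_
  rw [pk_add]
  exact pk_congr fun t _ => by omega

theorem pk_interleave (v : ℕ → ℕ) : ∀ m,
    pk 20 (fun t => v (2 * t)) m + pk 20 (fun t => v (2 * t + 1)) m * 2 ^ 10 = pk 10 v (2 * m)
  | 0 => by simp [pk]
  | m + 1 => by
    rw [pk_succ, pk_succ, Nat.mul_succ, pk_succ, pk_succ, ← pk_interleave v m,
      show 10 * (2 * m + 1) = 20 * m + 10 by ring, show 10 * (2 * m) = 20 * m by ring, pow_add]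
    ring

theorem red_spec {r : ℕ} (h : ∀ t < 784, lane 10 r t < 449) :
    red r = pk 10 (fun t => lane 10 r t % 5) 784 := by
  have he : Nat.land r evenMask = pk 20 (fun t => lane 10 r (2 * t)) 392 := by
    rw [land_pk (w := 20) (c := evenMask) (m := 392) (f := fun _ => 1023) rfl (fun _ _ => by norm_num)]
    exact pk_congr fun t _ => by rw [and_1023, lane_two]
  have ho : Nat.land (Nat.shiftRight r 10) evenMask = pk 20 (fun t => lane 10 r (2 * t + 1)) 392 := by
    rw [land_pk (w := 20) (c := evenMask) (m := 392) (f := fun _ => 1023) rfl (fun _ _ => by norm_num)]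
    exact pk_congr fun t _ => by
      rw [and_1023, lane_two, show Nat.shiftRight r 10 = Nat.shiftRight r (10 * 1) from rfl, lane_shift,
        Nat.add_comm]
  rw [red, he, ho, red20_pk fun t ht => h _ (by omega), red20_pk fun t ht => h _ (by omega),
    show Nat.shiftLeft _ 10 = _ from Nat.shiftLeft_eq _ 10, pk_interleave (fun t => lane 10 r t % 5) 392]

theorem lane_block (X i k : ℕ) :
    lane 280 (Nat.shiftRight X (10 * i)) k % 8 = lane 10 X (28 * k + i) % 8 := by
  rw [lane_eq, lane_eq, show Nat.shiftRight X (10 * i) = X >>> (10 * i) from rfl,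
    Nat.shiftRight_eq_div_pow, Nat.div_div_eq_div_mul, ← pow_add,
    show 10 * i + 280 * k = 10 * (28 * k + i) by ring, show (8 : ℕ) = 2 ^ 3 by norm_num,
    Nat.mod_mod_of_dvd _ (pow_dvd_pow 2 (by norm_num : 3 ≤ 280)),
    Nat.mod_mod_of_dvd _ (pow_dvd_pow 2 (by norm_num : 3 ≤ 10))]

theorem lane_col (N i j : ℕ) (hj : j < 28) :
    lane 10 (Nat.shiftRight N (280 * i) % 2 ^ 280) j = lane 10 N (28 * i + j) := by
  rw [lane_eq, lane_eq, show Nat.shiftRight N (280 * i) = N >>> (280 * i) from rfl, Nat.shiftRight_eq_div_pow]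
  refine Nat.eq_of_testBit_eq fun b => ?_
  simp only [Nat.testBit_mod_two_pow, Nat.testBit_div_two_pow]
  by_cases hb : b < 10
  · simp only [hb, decide_true, Bool.true_and, show b + 10 * j < 280 by omega]
    rw [show b + 10 * (28 * i + j) = b + 10 * j + 280 * i by ring]
  · simp [hb]

theorem col_pk (N i : ℕ) :
    Nat.shiftRight N (280 * i) % 2 ^ 280 = pk 10 (fun j => lane 10 N (28 * i + j)) 28 := by
  have hb : ∀ j < 28, lane 10 N (28 * i + j) < 2 ^ 10 := fun j _ => Nat.mod_lt _ (Nat.two_pow_pos _)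
  refine ext_lanes 28 (Nat.mod_lt _ (Nat.two_pow_pos _)) (pk_lt hb) fun j hj => ?_
  rw [lane_col N i j hj, lane_pk hb, if_pos hj]

/-- The accumulated entry. -/
def acc (N X : ℕ) (n t : ℕ) : ℕ :=
  ∑ i ∈ Finset.range n, lane 10 X (28 * (t / 28) + i) % 8 * lane 10 N (28 * i + t % 28)

theorem mulAux_eq (N X : ℕ) : ∀ n, mulAux N X n = pk 10 (acc N X n) 784
  | 0 => by
    have : ∀ m, pk 10 (acc N X 0) m = 0 := fun m => by
      induction m with
      | zero => rfl
      | succ m ih => rw [pk_succ, ih]; simp [acc]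
    rw [this]; rfl
  | i + 1 => by
    rw [mulAux, mulAux_eq N X i, land_pk (w := 280) (c := colMask) (m := 28) (f := fun _ => 7) rfl
      (fun _ _ => Nat.lt_of_lt_of_le (by norm_num : 7 < 2 ^ 3) (Nat.pow_le_pow_right (by norm_num) (by norm_num))), col_pk,
      pk_mul]
    have e : pk 280 (fun k => (lane 280 (Nat.shiftRight X (10 * i)) k &&& 7) *
        pk 10 (fun j => lane 10 N (28 * i + j)) 28) 28 =
        pk 10 (fun t => lane 10 X (28 * (t / 28) + i) % 8 * lane 10 N (28 * i + t % 28)) 784 := by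
      rw [show (784 : ℕ) = 28 * 28 from rfl, pk_block]
      refine pk_congr fun k _ => ?_
      rw [and_seven, lane_block, Nat.mul_comm, pk_mul]
      refine pk_congr fun j hj => ?_
      rw [show (28 * k + j) / 28 = k by omega, show (28 * k + j) % 28 = j by omega, Nat.mul_comm]
    rw [e, pk_add]
    exact pk_congr fun t _ => (Finset.sum_range_succ _ _).symm

theorem dec_apply (N : ℕ) (j k : Fin 28) : dec N j k = ((lane 10 N (28 * k.1 + j.1) : ℕ) : ZMod 5) := rfl

theorem acc_lt {N X : ℕ} (hN : Good N) (hX : Good X) {t : ℕ} (ht : t < 784) : acc N X 28 t < 449 := by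
  calc acc N X 28 t ≤ ∑ _i ∈ Finset.range 28, 4 * 4 := Finset.sum_le_sum fun i hi => by
        have := Finset.mem_range.1 hi
        have := hN (28 * i + t % 28) (by omega)
        have := hX (28 * (t / 28) + i) (by omega)
        exact Nat.mul_le_mul (by omega) (by omega)
    _ < 449 := by simp

theorem mul_eq {N X : ℕ} (hN : Good N) (hX : Good X) :
    mul N X = pk 10 (fun t => acc N X 28 t % 5) 784 := by
  have h : ∀ t < 784, acc N X 28 t < 2 ^ 10 := fun t ht => lt_trans (acc_lt hN hX ht) (by norm_num)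
  rw [mul, mulAux_eq, red_spec fun t ht => by rw [lane_pk h, if_pos ht]; exact acc_lt hN hX ht]
  exact pk_congr fun t ht => by rw [lane_pk h, if_pos ht]

theorem lane_mul {N X : ℕ} (hN : Good N) (hX : Good X) {t : ℕ} (ht : t < 784) :
    lane 10 (mul N X) t = acc N X 28 t % 5 := by
  rw [mul_eq hN hX, lane_pk (fun k _ => by have := Nat.mod_lt (acc N X 28 k) (by norm_num : 5 > 0); omega),
    if_pos ht]

theorem good_mul {N X : ℕ} (hN : Good N) (hX : Good X) : Good (mul N X) := fun t ht => by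
  rw [lane_mul hN hX ht]; exact Nat.mod_lt _ (by norm_num)

theorem dec_mul {N X : ℕ} (hN : Good N) (hX : Good X) : dec (mul N X) = dec N * dec X := by
  ext j k
  have := j.2
  have := k.2
  rw [dec_apply, lane_mul hN hX (by omega), ZMod.natCast_mod, Matrix.mul_apply, acc, Nat.cast_sum,
    ← Fin.sum_univ_eq_sum_range (fun i => ((lane 10 X (28 * ((28 * k.1 + j.1) / 28) + i) % 8 *
      lane 10 N (28 * i + (28 * k.1 + j.1) % 28) : ℕ) : ZMod 5))]
  refine Finset.sum_congr rfl fun i _ => ?_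
  have := i.2
  rw [show (28 * k.1 + j.1) / 28 = k.1 by omega, show (28 * k.1 + j.1) % 28 = j.1 by omega,
    Nat.mod_eq_of_lt (show lane 10 X (28 * k.1 + i.1) < 8 by have := hX (28 * k.1 + i.1) (by omega); omega),
    Nat.cast_mul, dec_apply, dec_apply, mul_comm]

theorem ext_dec {a b : ℕ} (ha : Good a) (hb : Good b) (la : a < 2 ^ 7840) (lb : b < 2 ^ 7840)
    (h : dec a = dec b) : a = b := by
  refine ext_lanes (w := 10) 784 la lb fun t ht => ?_
  have e := congrFun (congrFun h ⟨t % 28, Nat.mod_lt _ (by norm_num)⟩) ⟨t / 28, by omega⟩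
  rw [dec_apply, dec_apply, ZMod.natCast_eq_natCast_iff', show 28 * (t / 28) + t % 28 = t by omega,
    Nat.mod_eq_of_lt (ha t ht), Nat.mod_eq_of_lt (hb t ht)] at e
  exact e

theorem mul_lt {N X : ℕ} (hN : Good N) (hX : Good X) : mul N X < 2 ^ 7840 := by
  rw [mul_eq hN hX]
  exact pk_lt fun k _ => by have := Nat.mod_lt (acc N X 28 k) (by norm_num : 5 > 0); omega

/-- The identity. -/
def one : ℕ := pk 10 (fun t => bif Nat.beq (t / 28) (t % 28) then 1 else 0) 784

theorem good_one : Good one := fun t ht => by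
  rw [one, lane_pk (fun k _ => by cases Nat.beq (k / 28) (k % 28) <;> simp), if_pos ht]
  cases Nat.beq (t / 28) (t % 28) <;> simp

theorem dec_one : dec one = 1 := by
  ext j k
  have := j.2
  have := k.2
  rw [dec_apply, one, lane_pk (fun k _ => by cases Nat.beq (k / 28) (k % 28) <;> simp), if_pos (by omega),
    show (28 * k.1 + j.1) / 28 = k.1 by omega, show (28 * k.1 + j.1) % 28 = j.1 by omega, Matrix.one_apply]
  by_cases h : j = k
  · subst h; rw [Nat.beq_refl]; simp
  · rw [if_neg h, Bool.eq_false_iff.2 fun e => h (Fin.ext (Nat.eq_of_beq_eq_true e).symm)]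
    simp

end Cfsg.Agent.Lib.SporRu.F5Code
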