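import Cfsg.Agent.Lib.SporRu.Psi
import Cfsg.Agent.Lib.SporRu.CodeCheck

/-!
The double cover: the subgroup generated by lifts of odd order, with its elements coded by packed matrices.
-/

set_option autoImplicit false
set_option maxRecDepth 100000

namespace Cfsg.Agent.Lib.SporRu.Gamma

open Cfsg.Spor Cfsg.Agent.Lib.RuPerm Auto F5Code CodeData CodeCheck Psi
open scoped MatrixGroups commutatorElement

theorem big_p : Cfsg.Agent.Lib.RuPerm.Main.big.p = 29 := rfl

attribute [local irreducible] Cfsg.Agent.Lib.RuPerm.Main.big Action.Cert.grp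

local notation "big" => Cfsg.Agent.Lib.RuPerm.Main.big

/-- An automorphism with its code. -/
structure Has (g : fourRu) (N : ℕ) : Prop where
  val : mat5 g = F5Code.dec N
  good : Good N
  lt : N < 2 ^ 7840

theorem has_one : Has 1 one := by
  refine ⟨by rw [mat5_one, F5Code.dec_one], good_one, ?_⟩
  exact pk_lt fun k _ => by cases Nat.beq (k / 28) (k % 28) <;> simp

theorem Has.mul {g h : fourRu} {N X : ℕ} (hg : Has g N) (hh : Has h X) : Has (g * h) (F5Code.mul N X) :=
  ⟨by rw [mat5_mul, hg.val, hh.val, F5Code.dec_mul hg.good hh.good], good_mul hg.good hh.good,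
    mul_lt hg.good hh.good⟩

theorem Has.pow {g : fourRu} {N : ℕ} (hg : Has g N) : ∀ n, Has (g ^ n) (powC N n)
  | 0 => by rw [pow_zero]; exact has_one
  | n + 1 => by rw [pow_succ']; exact hg.mul (Has.pow hg n)

theorem goodB_spec {N : ℕ} (h : goodB N = true) : Good N ∧ N < 2 ^ 7840 := by
  simp only [goodB, Bool.and_eq_true, List.all_eq_true, List.mem_range, Nat.blt_eq] at h
  refine ⟨h.2, ?_⟩
  have h1 : N / 2 ^ 7840 = 0 := by
    rw [← Nat.shiftRight_eq_div_pow]
    exact Nat.eq_of_beq_eq_true h.1
  rcases Nat.div_eq_zero_iff.1 h1 with h2 | h2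
  · exact absurd h2 (Nat.two_pow_pos _).ne'
  · exact h2

theorem entries_ok : ∀ q h : Fin 28,
    ((Psi.entryZ GensData.matA q.1 h.1 : ℤ) : ZMod 5) = (ent codeA q.1 h.1 : ZMod 5) ∧
    ((Psi.entryZ GensData.matB q.1 h.1 : ℤ) : ZMod 5) = (ent codeB q.1 h.1 : ZMod 5) := by decide +kernel

theorem has_A : Has Gens.pairA.auto codeA :=
  ⟨Matrix.ext fun q h => (mat5_auto _ q h).trans (entries_ok q h).1, (goodB_spec base_good.1).1,
    (goodB_spec base_good.1).2⟩

theorem has_B : Has Gens.pairB.auto codeB :=
  ⟨Matrix.ext fun q h => (mat5_auto _ q h).trans (entries_ok q h).2, (goodB_spec base_good.2.1).1,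
    (goodB_spec base_good.2.1).2⟩

theorem i_entries : ∀ q h : Fin 28,
    (2 : ZMod 5) * (if q = h then 1 else 0) = (ent iCode q.1 h.1 : ZMod 5) := by decide +kernel

theorem has_i : Has Lifts.iAut iCode :=
  ⟨mat5_iAut.trans (Matrix.ext fun q h => by
    rw [Matrix.smul_apply, Matrix.one_apply, smul_eq_mul, i_entries q h]; rfl),
    (goodB_spec base_good.2.2).1, (goodB_spec base_good.2.2).2⟩

theorem center_eq : Subgroup.center fourRu = Subgroup.zpowers Lifts.iAut := by
  refine (Subgroup.eq_of_le_of_card_ge ?_ ?_).symm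
  · rw [Subgroup.zpowers_le, Subgroup.mem_center_iff]; exact Lifts.iAut_central
  · rw [Main.card_center, Nat.card_zpowers, Lifts.iAut_order]

theorem commutator_ru : commutator Ru = ⊤ := by
  have hs := Main.simple_ru
  rcases Subgroup.Normal.eq_bot_or_eq_top (inferInstance : (commutator Ru).Normal) with h | h
  · exfalso
    have hcomm : ∀ a b : Ru, a * b = b * a := fun a b => by
      have hm : ⁅a, b⁆ ∈ commutator Ru :=
        Subgroup.commutator_mem_commutator (Subgroup.mem_top a) (Subgroup.mem_top b)
      rw [h, Subgroup.mem_bot] at hm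
      exact commutatorElement_eq_one_iff_mul_comm.1 hm
    letI : CommGroup Ru := { (inferInstance : Group Ru) with mul_comm := hcomm }
    have hp : (Nat.card Ru).Prime := IsSimpleGroup.prime_card
    rw [Main.card_ru] at hp
    exact Main.not_prime hp
  · exact h

theorem mat5_injective : Function.Injective mat5 := by
  have hinj : Function.Injective psi := by
    rw [← MonoidHom.ker_eq_bot_iff]
    have hs := Main.simple_ru
    have hN : (psi.ker.map (QuotientGroup.mk' (Subgroup.center fourRu))).Normal :=
      (inferInstance : psi.ker.Normal).map _ (QuotientGroup.mk'_surjective _)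
    rcases hN.eq_bot_or_eq_top with h | h
    · rw [eq_bot_iff]
      intro g hg
      rw [Subgroup.map_eq_bot_iff, QuotientGroup.ker_mk', center_eq] at h
      obtain ⟨n, rfl⟩ := (mem_powers_iff_mem_zpowers.2 (h hg))
      rw [Subgroup.mem_bot]
      show Lifts.iAut ^ n = 1
      rw [← pow_mod_orderOf, Lifts.iAut_order]
      have e : mat5 (Lifts.iAut ^ (n % 4)) = mat5 1 := by
        rw [← psi_val, ← psi_val]
        refine congrArg _ ?_
        rw [map_one, ← Lifts.iAut_order, pow_mod_orderOf]
        exact hg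
      obtain ⟨a1, -, -, -, i1, i2, i3⟩ := apart_ok
      have hp := has_i.pow (n % 4)
      have hx : powC iCode (n % 4) = one := ext_dec hp.good has_one.good hp.lt has_one.lt
        (by rw [← hp.val, e, has_one.val])
      have h4 : n % 4 < 4 := Nat.mod_lt _ (by norm_num)
      interval_cases hn : n % 4
      · exact pow_zero _
      · exfalso
        apply i1
        rw [← hx]
        show iCode = F5Code.mul iCode one
        exact ext_dec has_i.good (good_mul has_i.good good_one) has_i.lt (mul_lt has_i.good good_one)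
          (by rw [F5Code.dec_mul has_i.good good_one, F5Code.dec_one, mul_one])
      · exact absurd hx i2
      · exact absurd hx i3
    · exfalso
      have hab : mat5 (Gens.pairA.auto * Gens.pairB.auto) = mat5 (Gens.pairB.auto * Gens.pairA.auto) := by
        rw [← psi_val, ← psi_val]
        refine congrArg _ ?_
        have hc : ∀ g : fourRu, ∃ z ∈ Subgroup.center fourRu, psi g = psi z := by
          intro g
          obtain ⟨k, hk, hkg⟩ : QuotientGroup.mk' (Subgroup.center fourRu) g ∈
              psi.ker.map (QuotientGroup.mk' (Subgroup.center fourRu)) := h ▸ Subgroup.mem_top _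
          refine ⟨k⁻¹ * g, (QuotientGroup.eq).1 hkg, ?_⟩
          rw [map_mul, map_inv, MonoidHom.mem_ker.1 hk, inv_one, one_mul]
        obtain ⟨z, hz, ez⟩ := hc Gens.pairA.auto
        rw [map_mul, map_mul, ez, ← map_mul, ← map_mul, Subgroup.mem_center_iff.1 hz]
      obtain ⟨-, -, -, hne, -⟩ := apart_ok
      have h1 := has_A.mul has_B
      have h2 := has_B.mul has_A
      exact hne (ext_dec h1.good h2.good h1.lt h2.lt (by rw [← h1.val, ← h2.val, hab]))
  intro g h e
  exact hinj (Units.ext e)

theorem Has.eq {g h : fourRu} {N : ℕ} (hg : Has g N) (hh : Has h N) : g = h :=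
  mat5_injective (hg.val.trans hh.val.symm)

theorem Has.ne {g h : fourRu} {N X : ℕ} (hg : Has g N) (hh : Has h X) (hne : N ≠ X) : g ≠ h := by
  rintro rfl
  exact hne (ext_dec hg.good hh.good hg.lt hh.lt (hg.val.symm.trans hh.val))

/-- The lift of order three. -/
def genB : fourRu := Gens.pairB.auto ^ 4

/-- The lift of order twenty-nine. -/
def genC : fourRu := (Gens.pairA.auto * Gens.pairB.auto) ^ 88

/-- The double cover. -/
def Cover : Subgroup fourRu := Subgroup.closure {genB, genC}

theorem has_genB : Has genB (code 0) := by rw [base_ok.1]; exact has_B.pow 4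

theorem has_genC : Has genC (code 1) := by rw [base_ok.2]; exact (has_A.mul has_B).pow 88

theorem genB_mem : genB ∈ Cover := Subgroup.subset_closure (Set.mem_insert _ _)

theorem genC_mem : genC ∈ Cover := Subgroup.subset_closure (Set.mem_insert_of_mem _ rfl)

theorem genB_cube : genB ^ 3 = 1 := (orders_ok.1 ▸ has_genB.pow 3).eq has_one

theorem genC_pow : genC ^ 29 = 1 := (orders_ok.2.1 ▸ has_genC.pow 29).eq has_one

theorem exists_el : ∀ k < count, ∃ g : Cover, Has g (code k) := by
  intro k
  induction k using Nat.strong_induction_on with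
  | _ k ih =>
    intro hk
    rcases (show k = 0 ∨ k = 1 ∨ 2 ≤ k by omega) with rfl | rfl | h2
    · exact ⟨⟨genB, genB_mem⟩, has_genB⟩
    · exact ⟨⟨genC, genC_mem⟩, has_genC⟩
    · have hc : k / chunkSize < 7 := by
        rw [Nat.div_lt_iff_lt_mul (by decide +kernel : 0 < chunkSize)]
        exact lt_of_lt_of_le hk count_le
      have h := List.all_eq_true.1 chunks_ok (k / chunkSize) (List.mem_range.2 hc)
      simp only [chunkOk, List.all_eq_true, List.mem_range] at h
      have h' := h (k % chunkSize) (Nat.mod_lt _ (by decide +kernel))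
      rw [show k / chunkSize * chunkSize + k % chunkSize = k by rw [Nat.mul_comm]; exact Nat.div_add_mod k _,
        show Nat.ble 2 k = true from Nat.ble_eq_true_of_le h2,
        show Nat.blt k count = true from Nat.ble_eq_true_of_le hk, Bool.and_self, cond_true] at h'
      simp only [Bool.and_eq_true, Nat.blt_eq] at h'
      obtain ⟨a, ha⟩ := ih _ h'.1.1 (lt_trans h'.1.1 hk)
      obtain ⟨b, hb⟩ := ih _ h'.1.2 (lt_trans h'.1.2 hk)
      refine ⟨a * b, ?_⟩
      rw [show code k = _ from Nat.eq_of_beq_eq_true h'.2]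
      exact ha.mul hb

open scoped Classical in
/-- The element of a step. -/
noncomputable def el (k : ℕ) : Cover := if h : k < count then (exists_el k h).choose else 1

theorem has_el {k : ℕ} (h : k < count) : Has (el k) (code k) := by
  rw [el, dif_pos h]
  exact (exists_el k h).choose_spec

theorem phi_genB : Lifts.phi genB = (big).s := by
  rw [genB, map_pow, Lifts.phi_B, show 4 = 3 + 1 from rfl, pow_succ, Action.Cert.s_pow_three, one_mul]

theorem phi_genC : Lifts.phi genC = (big).t * (big).s := by
  have h : ((big).t * (big).s) ^ 29 = 1 := by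
    have := Action.Cert.ts_pow big
    rwa [big_p] at this
  rw [genC, map_pow, map_mul, Lifts.phi_A, Lifts.phi_B, show 88 = 29 * 3 + 1 from rfl, pow_succ, pow_mul, h,
    one_pow, one_mul]

theorem big_le_cover : (big).grp ≤ Cover.map Lifts.phi := by
  rw [Action.Cert.grp, Subgroup.closure_le]
  have hs : (big).s ∈ Cover.map Lifts.phi := ⟨genB, genB_mem, phi_genB⟩
  have hts : (big).t * (big).s ∈ Cover.map Lifts.phi := ⟨genC, genC_mem, phi_genC⟩
  rintro g (rfl | rfl)
  · have := mul_mem hts (inv_mem hs)
    rwa [mul_inv_cancel_right] at this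
  · exact hs

theorem phi_facts : Lifts.phi.range = (big).grp ∧ Lifts.phi.ker = Subgroup.zpowers Lifts.iAut := by
  have hz : Subgroup.zpowers Lifts.iAut ≤ Lifts.phi.ker := by
    rw [Subgroup.zpowers_le, MonoidHom.mem_ker]; exact Lifts.phi_iAut
  have h4 : 4 ≤ Nat.card Lifts.phi.ker := by
    refine le_trans ?_ (Subgroup.card_le_of_le hz)
    rw [Nat.card_zpowers, Lifts.iAut_order]
  have hle : (big).grp ≤ Lifts.phi.range := Lifts.big_le
  haveI : Finite Lifts.phi.range := Finite.of_surjective _ Lifts.phi.rangeRestrict_surjective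
  have hb : 145926144000 ≤ Nat.card Lifts.phi.range := Main.card_big ▸ Subgroup.card_le_of_le hle
  have hmul := Lifts.phi.ker.card_mul_index
  rw [Subgroup.index_ker, Main.card_fourRu] at hmul
  have hk : Nat.card Lifts.phi.ker = 4 ∧ Nat.card Lifts.phi.range = 145926144000 := by
    constructor <;> nlinarith
  exact ⟨(Subgroup.eq_of_le_of_card_ge hle (by rw [Main.card_big, hk.2])).symm,
    (Subgroup.eq_of_le_of_card_ge hz (by rw [hk.1, Nat.card_zpowers, Lifts.iAut_order])).symm⟩

/-- The projection to the central quotient. -/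
def sigma : Cover →* Ru := (QuotientGroup.mk' (Subgroup.center fourRu)).comp Cover.subtype

theorem sigma_surjective : Function.Surjective sigma := by
  intro y
  obtain ⟨g, rfl⟩ := QuotientGroup.mk'_surjective (Subgroup.center fourRu) y
  obtain ⟨x, hx, hxg⟩ : Lifts.phi g ∈ Cover.map Lifts.phi :=
    big_le_cover (phi_facts.1 ▸ ⟨g, rfl⟩)
  refine ⟨⟨x, hx⟩, (QuotientGroup.eq).2 ?_⟩
  show x⁻¹ * g ∈ Subgroup.center fourRu
  rw [center_eq, ← phi_facts.2, MonoidHom.mem_ker, map_mul, map_inv, hxg, inv_mul_cancel]

theorem mem_ker_sigma {x : Cover} : x ∈ sigma.ker ↔ (x : fourRu) ∈ Subgroup.zpowers Lifts.iAut := by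
  rw [← center_eq]
  exact QuotientGroup.eq_one_iff _

theorem sigma_ker_le : sigma.ker ≤ Subgroup.center Cover := by
  intro x hx
  rw [mem_ker_sigma, ← center_eq] at hx
  exact Subgroup.mem_center_iff.2 fun y => Subtype.ext (Subgroup.mem_center_iff.1 hx y)

theorem pow_four_mem (x : Cover) : x ^ 4 ∈ commutator Cover := by
  have h : sigma x ∈ (commutator Cover).map sigma := by
    rw [commutator_def, Subgroup.map_commutator, Subgroup.map_top_of_surjective _ sigma_surjective,
      ← commutator_def, commutator_ru]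
    trivial
  obtain ⟨d, hd, hdx⟩ := h
  have hz : d⁻¹ * x ∈ sigma.ker := by rw [MonoidHom.mem_ker, map_mul, map_inv, hdx, inv_mul_cancel]
  have hz4 : (d⁻¹ * x) ^ 4 = 1 := by
    obtain ⟨n, hn⟩ := Subgroup.mem_zpowers_iff.1 (mem_ker_sigma.1 hz)
    refine Subtype.ext ?_
    rw [SubmonoidClass.coe_pow, ← hn, ← zpow_natCast, ← zpow_mul, mul_comm, zpow_mul, zpow_natCast,
      ← Lifts.iAut_order, pow_orderOf_eq_one, one_zpow]
    rfl
  have hc : Commute d (d⁻¹ * x) := Subgroup.mem_center_iff.1 (sigma_ker_le hz) d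
  rw [show x = d * (d⁻¹ * x) from (mul_inv_cancel_left d x).symm, hc.mul_pow, hz4, mul_one]
  exact pow_mem hd 4

theorem commutator_cover : commutator Cover = ⊤ := by
  rw [eq_top_iff]
  rintro ⟨g, hg⟩ -
  induction hg using Subgroup.closure_induction with
  | mem g hg =>
    rcases hg with rfl | rfl
    · have := pow_four_mem ⟨genB, genB_mem⟩
      rwa [show (⟨genB, genB_mem⟩ : Cover) ^ 4 = ⟨genB, genB_mem⟩ from Subtype.ext (by
        rw [SubmonoidClass.coe_pow]; show genB ^ 4 = genB
        rw [show 4 = 3 + 1 from rfl, pow_succ, genB_cube, one_mul])] at this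
    · have := pow_four_mem (⟨genC, genC_mem⟩ ^ 22)
      rwa [show ((⟨genC, genC_mem⟩ : Cover) ^ 22) ^ 4 = ⟨genC, genC_mem⟩ from Subtype.ext (by
        rw [SubmonoidClass.coe_pow, SubmonoidClass.coe_pow]; show (genC ^ 22) ^ 4 = genC
        rw [← pow_mul, show 22 * 4 = 29 * 3 + 1 from rfl, pow_succ, pow_mul, genC_pow, one_pow, one_mul])] at this
  | one => exact one_mem _
  | mul a b ha hb iha ihb => exact mul_mem iha ihb
  | inv a ha iha => exact inv_mem iha

end Cfsg.Agent.Lib.SporRu.Gamma
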