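import Cfsg.Agent.Lib.SporRu.Reduce

/-!
Two lattice automorphisms given by integral matrices, with their matrices modulo two.
-/

set_option autoImplicit false
set_option maxRecDepth 100000
set_option maxHeartbeats 1000000

namespace Cfsg.Agent.Lib.SporRu.Gens

open Cfsg.Spor Cfsg.Agent.Lib.RuLattice Vec GensData Auto Reduce
open Cfsg.Agent.Lib.SporRu.Bound (certB inM_of_cert)

/-- Four times the map: the products with the rows. -/
def G (U : List ℕ) : V56 →+ V56 :=
  AddMonoidHom.mk' (fun x i => dot x (rowV U i.1)) fun x y => funext fun i => dot_add_left x y _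

theorem G_apply (U : List ℕ) (x : V56) (i : Fin 56) : G U x i = dot x (rowV U i.1) := rfl

/-- The other coordinate of the same Gaussian coordinate. -/
def swapI (i : Fin 56) : Fin 56 := Fin.ofNat 56 (Data.srcI.getD i.1 0)

theorem swapI_spec : ∀ i : Fin 56, swapI (swapI i) = i ∧
    Data.negI.testBit (swapI i).1 = !Data.negI.testBit i.1 := by decide +kernel

theorem dot_rot_left (x u : V56) : dot (rot x) u = -dot x (rot u) := by
  let e : Fin 56 ≃ Fin 56 := Function.Involutive.toPerm swapI fun i => (swapI_spec i).1
  rw [dot, dot, ← Finset.sum_neg_distrib, ← e.sum_comp]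
  refine Finset.sum_congr rfl fun i _ => ?_
  show rot x (swapI i) * u (swapI i) = -(x i * rot u i)
  simp only [rot, Basic.sperm]
  rw [show Fin.ofNat 56 (Data.srcI.getD (swapI i).1 0) = i from (swapI_spec i).1, (swapI_spec i).2]
  show _ = -(x i * (if Data.negI.testBit i.1 then -u (swapI i) else u (swapI i)))
  cases Data.negI.testBit i.1 <;> simp

/-- The rows commute with multiplication by i. -/
def rotB (U : List ℕ) : Bool :=
  (List.range 56).all fun i => (List.range 56).all fun j =>
    -(if Data.negI.testBit j then -(rowL U i).getD (Data.srcI.getD j 0 % 56) 0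
        else (rowL U i).getD (Data.srcI.getD j 0 % 56) 0) ==
      (if Data.negI.testBit i then -(rowL U (Data.srcI.getD i 0 % 56)).getD j 0
        else (rowL U (Data.srcI.getD i 0 % 56)).getD j 0)

theorem G_rot {U : List ℕ} (h : rotB U = true) (x : V56) : G U (rot x) = rot (G U x) := by
  funext i
  simp only [rotB, List.all_eq_true, List.mem_range, beq_iff_eq] at h
  rw [G_apply, dot_rot_left]
  simp only [rot, Basic.sperm, G_apply, dot, ← Finset.sum_neg_distrib]
  split_ifs with hb
  · refine Finset.sum_congr rfl fun j _ => ?_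
    have := h i.1 i.2 j.1 j.2
    rw [if_pos hb] at this
    rw [← mul_neg, ← mul_neg]
    congr 1
  · refine Finset.sum_congr rfl fun j _ => ?_
    have := h i.1 i.2 j.1 j.2
    rw [if_neg hb] at this
    rw [← mul_neg]
    congr 1

/-- The images of the basis. -/
def imgB (U Im : List ℕ) (cert : List (List ℕ)) : Bool :=
  (List.range 56).all fun m => certB (rowL Im m) (cert.getD m []) &&
    (List.range 56).all fun i => dotL (rowL basisL m) (rowL U i) == 4 * (rowL Im m).getD i 0

/-- A certified integral matrix. -/
structure Mat56 where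
  U : List ℕ
  V : List ℕ
  Im : List ℕ
  cert : List (List ℕ)
  trans : transB U V = true
  orth : orthB 16 U U = true
  rot_ok : rotB U = true
  img : imgB U Im cert = true

namespace Mat56

variable (A : Mat56)

theorem im_spec (m : Fin 56) : Basic.InM (rowV A.Im m.1) ∧
    G A.U (rowV basisL m.1) = (4 : ℤ) • rowV A.Im m.1 := by
  have h := A.img
  simp only [imgB, List.all_eq_true, List.mem_range, Bool.and_eq_true, beq_iff_eq] at h
  obtain ⟨h1, h2⟩ := h m.1 m.2
  refine ⟨inM_of_cert h1, funext fun i => ?_⟩
  rw [G_apply, dot_rows, h2 i.1 i.2]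
  rfl

/-- The image of a point in coordinates. -/
def image (v : ruLattice) : V56 := ∑ m : Fin 56, coef m (fl v) • rowV A.Im m.1

theorem image_inM (v : ruLattice) : Basic.InM (A.image v) :=
  Member.inM_of_inL (Member.inL_sum _ fun m _ => Member.inL_zsmul (Member.inL_of_inM (A.im_spec m).1) _)

theorem four_image (v : ruLattice) : (4 : ℤ) • A.image v = G A.U (fl v) := by
  conv_rhs => rw [← decompose (fl_inM v)]
  rw [map_sum, image, Finset.smul_sum]
  refine Finset.sum_congr rfl fun m _ => ?_
  rw [map_zsmul, (A.im_spec m).2, smul_comm]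

/-- The map. -/
def map (v : ruLattice) : ruLattice := mkL (A.image v) (A.image_inM v)

theorem four_map (v : ruLattice) : (4 : ℤ) • fl (A.map v) = G A.U (fl v) := by
  rw [map, fl_mkL, four_image]

theorem four_inj {x y : V56} (h : (4 : ℤ) • x = (4 : ℤ) • y) : x = y :=
  smul_right_injective V56 (show (4 : ℤ) ≠ 0 by norm_num) h

theorem map_add (v w : ruLattice) : A.map (v + w) = A.map v + A.map w := by
  apply fl_injective
  apply four_inj
  rw [four_map, fl_add, fl_add, _root_.map_add, smul_add, four_map, four_map]

theorem map_ruI (v : ruLattice) : A.map (ruI v) = ruI (A.map v) := by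
  apply fl_injective
  apply four_inj
  rw [four_map, fl_ruI, fl_ruI, G_rot A.rot_ok, ← four_map]
  funext i
  simp only [rot, Basic.sperm, Pi.smul_apply, smul_eq_mul]
  split_ifs <;> ring

theorem G_G (y : V56) : G A.U (G A.V y) = (16 : ℤ) • y := by
  funext i
  have h := sum_dot_mul (X := A.V) (Xt := A.U) ?_ y (rowV A.U i.1)
  · rw [G_apply, dot]
    simp only [G_apply]
    rw [h, Finset.sum_eq_single i]
    · rw [orth_eq A.orth, if_pos rfl, Pi.smul_apply, smul_eq_mul, mul_comm]
    · intro j _ hj; rw [orth_eq A.orth, if_neg hj, mul_zero]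
    · intro hh; exact absurd (Finset.mem_univ i) hh
  · have := A.trans
    simp only [transB, List.all_eq_true, List.mem_range, beq_iff_eq] at this ⊢
    exact fun i hi j hj => (this j hj i hi).symm

theorem adjoint (x y : V56) : dot (G A.U x) y = dot x (G A.V y) := by
  have h := sum_dot_mul A.trans x y
  rw [dot]
  simp only [G_apply]
  rw [h, dot]
  refine Finset.sum_congr rfl fun j _ => ?_
  rw [G_apply, dot_comm]

end Mat56

/-- A matrix together with its inverse. -/
structure Pair where
  A : Mat56
  B : Mat56
  link : B.U = A.V ∧ B.V = A.U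

namespace Pair

variable (P : Pair)

theorem map_map (v : ruLattice) : P.A.map (P.B.map v) = v := by
  apply fl_injective
  apply Mat56.four_inj
  apply Mat56.four_inj
  rw [Mat56.four_map, ← map_zsmul, Mat56.four_map, P.link.1, Mat56.G_G, smul_smul]
  rfl

/-- The inverse pair. -/
def symm : Pair := ⟨P.B, P.A, P.link.2.symm, P.link.1.symm⟩

theorem norm_map (v : ruLattice) : ruNorm (P.A.map v : RuVec) = ruNorm (v : RuVec) := by
  rw [norm_fl, norm_fl]
  have h : dot (G P.A.U (fl v)) (G P.A.U (fl v)) = 16 * dot (fl v) (fl v) := by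
    have e := P.symm.A.G_G (fl v)
    simp only [symm, P.link.1, P.link.2] at e
    rw [P.A.adjoint, e, dot_comm, dot_smul_left]
  rw [← P.A.four_map, dot_smul_left, dot_comm, dot_smul_left] at h
  omega

/-- The automorphism. -/
def auto : fourRu :=
  ⟨⟨P.A.map, P.B.map, P.symm.map_map, P.map_map⟩, P.A.map_add, P.A.map_ruI, P.norm_map⟩

theorem hom_auto (v : ruLattice) : hom P.auto v = P.A.map v := rfl

end Pair

theorem checks : (transB matA matAInv = true ∧ transB matAInv matA = true) ∧
    (transB matB matBInv = true ∧ transB matBInv matB = true) := by decide +kernel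

theorem orths : (orthB 16 matA matA = true ∧ orthB 16 matAInv matAInv = true) ∧
    (orthB 16 matB matB = true ∧ orthB 16 matBInv matBInv = true) := by decide +kernel

theorem rots : (rotB matA = true ∧ rotB matAInv = true) ∧ (rotB matB = true ∧ rotB matBInv = true) := by
  decide +kernel

theorem imgA_ok : imgB matA GensData.imgA certA = true ∧ imgB matAInv imgAInv certAInv = true := by decide +kernel

theorem imgB' : imgB matB GensData.imgB GensData.certB = true ∧ imgB matBInv imgBInv certBInv = true := by
  decide +kernel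

/-- The first automorphism. -/
def pairA : Pair :=
  ⟨⟨matA, matAInv, GensData.imgA, certA, checks.1.1, orths.1.1, rots.1.1, imgA_ok.1⟩,
    ⟨matAInv, matA, imgAInv, certAInv, checks.1.2, orths.1.2, rots.1.2, imgA_ok.2⟩, rfl, rfl⟩

/-- The second automorphism. -/
def pairB : Pair :=
  ⟨⟨matB, matBInv, GensData.imgB, GensData.certB, checks.2.1, orths.2.1, rots.2.1, imgB'.1⟩,
    ⟨matBInv, matB, imgBInv, certBInv, checks.2.2, orths.2.2, rots.2.2, imgB'.2⟩, rfl, rfl⟩

/-- The reduced matrix of a certified map, entrywise. -/
def matBit (U : List ℕ) (w k : ℕ) : Bool :=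
  dotL ((List.range 56).map fun i => dotL (rowL repL k) (rowL U i)) (rowL redL w) / 16 % 2 == 1

theorem mat_auto (P : Pair) (w k : Fin 28) :
    mat P.auto w k = if matBit P.A.U w.1 k.1 then 1 else 0 := by
  have h1 : 16 * qdot w (hom P.auto (rep k)) =
      dotL ((List.range 56).map fun i => dotL (rowL repL k.1) (rowL P.A.U i)) (rowL redL w.1) := by
    rw [show (16 : ℤ) = 4 * 4 from rfl, mul_assoc, four_qdot, ← dot_smul_left, Pair.hom_auto,
      Mat56.four_map, dotL_sum _ _ (by rw [List.length_map, List.length_range, rowL, length_unpack]),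
      List.length_map, List.length_range, dot, ← Fin.sum_univ_eq_sum_range]
    refine Finset.sum_congr rfl fun i _ => ?_
    rw [Member.getD_map_range _ i.2, ← dot_rows, rep, fl_mkL, G_apply]
    rfl
  show ((qdot w (hom P.auto (rep k)) : ℤ) : ZMod 2) = _
  rw [← ZMod.intCast_mod _ 2]
  simp only [matBit, ← h1, beq_iff_eq]
  rw [show (16 * qdot w (hom P.auto (rep k))) / 16 = qdot w (hom P.auto (rep k)) by omega]
  push_cast
  rcases Int.emod_two_eq_zero_or_one (qdot w (hom P.auto (rep k))) with h | h <;> rw [h] <;> simp

end Cfsg.Agent.Lib.SporRu.Gens
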