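import Cfsg.Agent.Lib.SporRu.Stats
import Cfsg.Agent.Lib.SporRu.Auto

/-!
The key of a vector collects its twelve dot products with the base vectors and their multiples by i.
-/

set_option autoImplicit false
set_option maxRecDepth 100000

namespace Cfsg.Agent.Lib.SporRu.Key

open Cfsg.Agent.Lib.RuLattice Vec EnumDefs EnumArith BoundData Stats

/-- The twelve functionals, as lists. -/
def funcL (j : ℕ) : List ℤ :=
  if j % 2 = 0 then baseL.getD (j / 2) [] else Member.spermL Data.srcI Data.negI (baseL.getD (j / 2) [])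

/-- The combined functional. -/
def key (y : V56) : ℤ := ∑ j ∈ Finset.range 12, dot y (toV (funcL j)) * 256 ^ j

theorem keyL_check : ∀ r : Fin 56, (keyL.getD r.1 0 : ℤ) =
    ∑ j ∈ Finset.range 12, (funcL j).getD r.1 0 * 256 ^ j + (keyOff : ℤ) := by decide +kernel

theorem lane_check : ∀ (j : Fin 7) (b : Fin 256),
    Nat.shiftRight ([keyTab0, keyTab1, keyTab2, keyTab3, keyTab4, keyTab5, keyTab6].getD j.1 0) (112 * b.1)
      % 2 ^ 112 = ∑ i ∈ Finset.range 8, (b.1.testBit i).toNat * keyL.getD (8 * j.1 + i) 0 := by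
  decide +kernel

theorem lane_eq (t j n : ℕ) (hj : j < 7)
    (ht : [keyTab0, keyTab1, keyTab2, keyTab3, keyTab4, keyTab5, keyTab6].getD j 0 = t) :
    lane t (Nat.shiftRight n (8 * j)) =
      ∑ i ∈ Finset.range 8, (n.testBit (8 * j + i)).toNat * keyL.getD (8 * j + i) 0 := by
  have h := lane_check ⟨j, hj⟩ ⟨Nat.shiftRight n (8 * j) % 256, Nat.mod_lt _ (by norm_num)⟩
  simp only [ht] at h
  rw [lane, h]
  refine Finset.sum_congr rfl fun i hi => ?_
  have hi' := Finset.mem_range.1 hi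
  congr 2
  show ((n >>> (8 * j)) % 2 ^ 8).testBit i = _
  rw [Nat.testBit_mod_two_pow, Nat.testBit_shiftRight]
  simp [hi']

theorem lnat_eq (p : ℕ) : (lnat p : ℤ) = ∑ i : Fin 56, (keyL.getD i.1 0 : ℤ) * bitz p i := by
  rw [Fin.sum_univ_eq_sum_range (fun i => (keyL.getD i 0 : ℤ) * bitz p i)]
  have h : lnat p = ∑ i ∈ Finset.range 56, (p.testBit i).toNat * keyL.getD i 0 := by
    rw [show 56 = 8 + 8 + 8 + 8 + 8 + 8 + 8 from rfl]
    simp only [Finset.sum_range_add]
    have e0 := lane_eq keyTab0 0 p (by norm_num) rfl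
    simp only [Nat.mul_zero, Nat.zero_add] at e0
    rw [lnat, show lane keyTab0 p = lane keyTab0 (Nat.shiftRight p 0) from rfl, e0,
      lane_eq keyTab1 1 p (by norm_num) rfl, lane_eq keyTab2 2 p (by norm_num) rfl,
      lane_eq keyTab3 3 p (by norm_num) rfl, lane_eq keyTab4 4 p (by norm_num) rfl,
      lane_eq keyTab5 5 p (by norm_num) rfl, lane_eq keyTab6 6 p (by norm_num) rfl]
  rw [h, Nat.cast_sum]
  refine Finset.sum_congr rfl fun i _ => ?_
  unfold bitz
  cases p.testBit i <;> simp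

theorem pc56_bitz (p : ℕ) : (pc56 p : ℤ) = ∑ i : Fin 56, bitz p i := by
  rw [pc56_eq, Nat.cast_sum]
  refine Finset.sum_congr rfl fun i _ => ?_
  unfold bitz
  cases p.testBit i <;> simp

theorem key_mvec (z : ℕ) (pn : ℕ × ℕ) :
    key (mvec z pn.1 pn.2) = (z * (lnat pn.1 + keyOff * pc56 pn.2) : ℕ) -
      ((z * (lnat pn.2 + keyOff * pc56 pn.1) : ℕ) : ℤ) := by
  push_cast
  simp only [key, dot, mvec, lnat_eq, pc56_bitz, Finset.sum_mul, Finset.mul_sum,
    ← Finset.sum_add_distrib]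
  rw [Finset.sum_comm, ← Finset.sum_sub_distrib]
  refine Finset.sum_congr rfl fun i _ => ?_
  rw [keyL_check i]
  simp only [toV, Finset.sum_add_distrib, Finset.sum_mul, add_mul, mul_add, Finset.mul_sum]
  rw [eq_comm]
  have : ∀ j : ℕ, (z : ℤ) * (bitz pn.1 i - bitz pn.2 i) * (funcL j).getD i.1 0 * 256 ^ j =
      z * ((funcL j).getD i.1 0 * 256 ^ j * bitz pn.1 i) - z * ((funcL j).getD i.1 0 * 256 ^ j * bitz pn.2 i) :=
    fun j => by ring
  simp only [this, Finset.sum_sub_distrib]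
  ring

theorem nkey_eq (z : ℕ) (pn : ℕ × ℕ) : (nkey z pn : ℤ) = key (mvec z pn.1 pn.2) % (keyMod : ℤ) := by
  have hpos : 0 < keyMod := by decide +kernel
  rw [key_mvec, nkey]
  generalize z * (lnat pn.1 + keyOff * pc56 pn.2) = a
  generalize z * (lnat pn.2 + keyOff * pc56 pn.1) = b
  have hb : b % keyMod ≤ a + keyMod := le_trans (Nat.mod_lt b hpos).le (Nat.le_add_left _ _)
  rw [Int.natCast_mod, Nat.cast_sub hb, Int.natCast_mod, Nat.cast_add]
  rw [Int.sub_emod, Int.add_emod_right, Int.emod_emod, ← Int.sub_emod]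

theorem base_keys : ∀ k : Fin 6, (baseKeys.getD k.1 0 : ℤ) = key (toV (baseL.getD k.1 [])) % (keyMod : ℤ) := by
  decide +kernel

theorem sel_keys : ∀ j : Fin 28, (selKeys.getD j.1 0 : ℤ) = key (toV (selL.getD j.1 [])) % (keyMod : ℤ) := by
  decide +kernel

theorem sel_tree : (∀ j : Fin 28, selTree.get (selKeys.getD j.1 0) = j.1 + 1) := by decide +kernel

/-- Equal products with the first `2k` functionals give membership in the class. -/
theorem inClass_of {k z : ℕ} {pn : ℕ × ℕ} (hk : k < 6)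
    (h : ∀ j < 2 * k, dot (mvec z pn.1 pn.2) (toV (funcL j)) =
      dot (toV (baseL.getD k [])) (toV (funcL j))) :
    inClass k (nkey z pn) = true := by
  have hd : ((256 : ℤ) ^ (2 * k)) ∣ key (mvec z pn.1 pn.2) - key (toV (baseL.getD k [])) := by
    simp only [key, ← Finset.sum_sub_distrib]
    refine Finset.dvd_sum fun j _ => ?_
    by_cases hj : j < 2 * k
    · rw [h j hj, sub_self]; exact dvd_zero _
    · rw [← sub_mul]
      exact dvd_mul_of_dvd_right (pow_dvd_pow _ (not_lt.1 hj)) _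
  have hK : ((256 : ℕ) ^ (2 * k)) ∣ keyMod := by
    have : ∀ k : Fin 6, (256 : ℕ) ^ (2 * k.1) ∣ keyMod := by decide +kernel
    exact this ⟨k, hk⟩
  have e : (nkey z pn : ℤ) % (256 : ℤ) ^ (2 * k) = (baseKeys.getD k 0 : ℤ) % (256 : ℤ) ^ (2 * k) := by
    have hK' : ((256 : ℤ) ^ (2 * k)) ∣ (keyMod : ℤ) := by exact_mod_cast hK
    rw [nkey_eq, base_keys ⟨k, hk⟩, Int.emod_emod_of_dvd _ hK', Int.emod_emod_of_dvd _ hK']
    exact (Int.emod_eq_emod_iff_emod_sub_eq_zero).2 (Int.emod_eq_zero_of_dvd hd)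
  simp only [inClass]
  have e' : nkey z pn % 256 ^ (2 * k) = baseKeys.getD k 0 % 256 ^ (2 * k) := by exact_mod_cast e
  rw [e']
  exact Nat.beq_refl _

end Cfsg.Agent.Lib.SporRu.Key
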