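import Cfsg.Agent.Lib.SporRu.Gens
import Cfsg.Agent.Lib.RuPerm.Main

/-!
The scalar i and the lifts of the two generators of the certified matrix group.
-/

set_option autoImplicit false
set_option maxRecDepth 100000

namespace Cfsg.Agent.Lib.SporRu.Lifts

open Cfsg.Spor Cfsg.Agent.Lib.RuLattice Vec GensData Auto Reduce Gens
open Cfsg.Agent.Lib.RuPerm Code28
open scoped MatrixGroups

local notation "big" => Cfsg.Agent.Lib.RuPerm.Main.big

/-- The scalar i. -/
def iAut : fourRu := by
  refine ⟨⟨ruI, fun v => ruI (ruI (ruI v)), fun v => ?_, fun v => ?_⟩, fun v w => ?_, fun v => rfl, fun v => ?_⟩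
  · apply Subtype.ext
    show gI • gI • gI • gI • (v : RuVec) = v
    rw [smul_smul, smul_smul, smul_smul, show gI * gI * gI * gI = 1 by decide, one_smul]
  · apply Subtype.ext
    show gI • gI • gI • gI • (v : RuVec) = v
    rw [smul_smul, smul_smul, smul_smul, show gI * gI * gI * gI = 1 by decide, one_smul]
  · apply Subtype.ext
    show gI • ((v : RuVec) + w) = gI • (v : RuVec) + gI • (w : RuVec)
    exact smul_add _ _ _
  · show ruNorm (gI • (v : RuVec)) = ruNorm (v : RuVec)
    simp only [ruNorm, Pi.smul_apply, smul_eq_mul, Zsqrtd.norm_mul]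
    simp [gI, Zsqrtd.norm]

theorem hom_iAut (v : ruLattice) : hom iAut v = ruI v := rfl

theorem iAut_central (g : fourRu) : g * iAut = iAut * g := by
  refine Subtype.ext (Equiv.ext fun v => ?_)
  show (g : Equiv.Perm ruLattice) (ruI v) = ruI ((g : Equiv.Perm ruLattice) v)
  exact g.2.2.1 v

theorem rho_iAut : rho iAut = 1 := by
  refine Units.ext ?_
  rw [rho_val, Units.val_one]
  funext w k
  show red (hom iAut (rep k)) w = _
  have e : red (hom iAut (rep k)) = red (rep k) := by
    rw [← sub_eq_zero, ← map_sub, red_eq_zero_iff]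
    intro d
    have h4 := Member.four_dvd_dot (fl_inM (rep k)) (Member.inM_of_inL (x := rot (fl d)) (by
      rw [← fl_ruI]; exact Member.inL_of_inM (fl_inM _)))
    have hs : fl (hom iAut (rep k) - rep k) = rot (fl (rep k)) + -fl (rep k) := by
      rw [← flHom_apply, map_sub, flHom_apply, flHom_apply, hom_iAut, fl_ruI, sub_eq_add_neg]
    rw [hs, dot_add_left, dot_neg_left, dot_add_right, dot_add_right, dot_rot_left, dot_rot_left]
    have hr : rot (rot (fl d)) = -fl d := by
      rw [← fl_ruI, ← fl_ruI, ← flHom_apply, ← flHom_apply, ← map_neg]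
      congr 1
      apply Subtype.ext
      show gI • gI • (d : RuVec) = -(d : RuVec)
      rw [smul_smul, show gI * gI = -1 by decide, neg_one_smul]
    rw [hr, dot_comm (fl (rep k)) (-fl d), dot_neg_left, dot_comm (fl d)]
    omega
  rw [e, red_rep, Pi.single_apply, Matrix.one_apply]

/-- A nonzero lattice point. -/
def unit0 : ruLattice := mkL (Member.four 0) (Member.inM_of_inL (Member.inL_four 0))

theorem iAut_order : orderOf iAut = 4 := by
  have h4 : iAut ^ 4 = 1 := by
    refine Subtype.ext (Equiv.ext fun v => Subtype.ext ?_)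
    show gI • gI • gI • gI • (v : RuVec) = v
    rw [smul_smul, smul_smul, smul_smul, show gI * gI * gI * gI = 1 by decide, one_smul]
  refine orderOf_eq_prime_pow (p := 2) (n := 1) ?_ h4
  intro h2
  have := congrArg fl (show hom (iAut ^ (2 ^ 1)) (unit0) = unit0 by rw [h2]; rfl)
  have e : fl (hom (iAut ^ (2 ^ 1)) unit0) = rot (rot (fl unit0)) := by
    show fl (ruI (ruI unit0)) = _
    rw [fl_ruI, fl_ruI]
  rw [e] at this
  have := congrFun this 0
  revert this
  rw [show fl unit0 = Member.four 0 from fl_mkL _ _]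
  decide +kernel

/-- The basis change as a unit. -/
def P : GL (Fin 28) (ZMod 2) where
  val := dec conj
  inv := dec conjInv
  val_inv := by
    rw [← dec_mul, show Code28.mul conj conjInv = Code28.one by decide +kernel, dec_one]
  inv_val := by
    rw [← dec_mul, show Code28.mul conjInv conj = Code28.one by decide +kernel, dec_one]

/-- The representation in the standard basis. -/
def phi : fourRu →* GL (Fin 28) (ZMod 2) := (MulAut.conj P).toMonoidHom.comp rho

theorem phi_iAut : phi iAut = 1 := by
  show P * rho iAut * P⁻¹ = 1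
  rw [rho_iAut, mul_one, mul_inv_cancel]

theorem codes_ok : ∀ w k : Fin 28,
    Gens.matBit matA w.1 k.1 = (lane (Code28.mul (Code28.mul conjInv BigChain.bigLevel0.gens[0]!) conj) k.1).testBit w.1 ∧
    Gens.matBit matB w.1 k.1 = (lane (Code28.mul (Code28.mul conjInv BigChain.bigLevel0.gens[1]!) conj) k.1).testBit w.1 := by
  decide +kernel

theorem gens_bang : (big).tC = BigChain.bigLevel0.gens[0]! ∧ (big).sC = BigChain.bigLevel0.gens[1]! :=
  ⟨rfl, rfl⟩

theorem code_conj (R g u : GL (Fin 28) (ZMod 2)) (a b c : ℕ) (hR : (R : Mat) = dec a)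
    (hRi : ((R⁻¹ : GL (Fin 28) (ZMod 2)) : Mat) = dec b) (hg : (g : Mat) = dec c)
    (hu : (u : Mat) = dec (Code28.mul (Code28.mul b c) a)) : R * u * R⁻¹ = g := by
  have e : u = R⁻¹ * g * R := by
    refine Units.ext ?_
    rw [hu, dec_mul, dec_mul, Units.val_mul, Units.val_mul, hRi, hg, hR]
  rw [e]
  group

theorem dec_of_bits (M : Mat) (N : ℕ)
    (h : ∀ w k : Fin 28, M w k = if (lane N k.1).testBit w.1 then 1 else 0) : M = dec N := by
  funext w k
  rw [h]
  simp only [dec, decV, bit, Matrix.of_apply]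

theorem P_val : (P : Mat) = dec conj := rfl

theorem P_inv_val : ((P⁻¹ : GL (Fin 28) (ZMod 2)) : Mat) = dec conjInv := rfl

theorem phi_of (Q : Pair) (c : ℕ) (g : GL (Fin 28) (ZMod 2)) (hg : (g : Mat) = dec c)
    (h : ∀ w k : Fin 28, Gens.matBit Q.A.U w.1 k.1 =
      (lane (Code28.mul (Code28.mul conjInv c) conj) k.1).testBit w.1) :
    phi Q.auto = g :=
  code_conj P g (rho Q.auto) conj conjInv c P_val P_inv_val hg
    ((rho_val _).trans (dec_of_bits _ _ fun w k => by rw [mat_auto, h]))

theorem phi_A : phi pairA.auto = (big).t :=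
  phi_of pairA (big).tC _ rfl fun w k => by rw [gens_bang.1]; exact (codes_ok w k).1

theorem phi_B : phi pairB.auto = (big).s :=
  phi_of pairB (big).sC _ rfl fun w k => by rw [gens_bang.2]; exact (codes_ok w k).2

theorem big_le : (big).grp ≤ phi.range := by
  rw [Action.Cert.grp, Subgroup.closure_le]
  rintro g (rfl | rfl)
  exacts [⟨_, phi_A⟩, ⟨_, phi_B⟩]

end Cfsg.Agent.Lib.SporRu.Lifts
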