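import Cfsg.Agent.Lib.Schur.PcCollect

/-! Data: a presentation of a Sylow subgroup with the equations on tails. -/

set_option autoImplicit false
set_option maxRecDepth 100000

namespace Cfsg.Agent.Lib.SporRu.PcFiveData

open Cfsg.Agent.Lib.Schur.PcCollect (Equat Data)

def data : Data where
  p := 5
  n := 3
  fuel := 391
  W := [[], [1], [], [1, 1, 2], [2], []]
  phi := [[], [3, 3, 3], []]
  conjs := [([[0], [1], [2]], [[0, 0, 1, 1, 1, 1], [1], [0, 0, 0, 0, 1, 1, 1, 2, 2, 2]])]

def eqs : List (Equat × List ℕ) := [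
  (.overlap [] 2 2 [0], [0, 0, 2, 0, 0, 0]),
  (.conj 0 [([0, 0, 0, 0, 0], [])], [1, 0, 4]),
  (.conj 0 [([1, 0], [0, 1])], [0, 1, 0]),
  (.conj 0 [([2, 1], [1, 2])], [0, 1, 0, 0, 2]),
  (.conj 0 [([2, 2, 2, 2, 2], [])], [4, 0, 0, 0, 0, 2])]

def combos : List (List ℕ) := [
  [0, 0, 1, 1, 1, 1],
  [2, 2, 2, 2],
  [0, 0],
  [],
  [2, 2, 2, 3, 3],
  [0, 1, 1, 4, 4]]

def genIdx : List ℕ := [678, 694, 712]

def conjIdx : List ℕ := [725]

def sep : List (ℕ × List ℕ) := [
  (3799840440951039730838894356570979053718583932287422515586505234355281758779346948, [3799840440951039730838894356570979053718583932287422515586505234355281758779346948]),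
  (7588550362030506367690275551972105821436973608012085654819768348663683474570350596, [7588550362030506367690275551972105821436973608012085654819768348663683474570350596]),
  (1, [1])]

end Cfsg.Agent.Lib.SporRu.PcFiveData
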