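import Cfsg.Agent.Lib.SporRu.PcThreeData
import Cfsg.Agent.Lib.SporRu.PcFiveData
import Cfsg.Agent.Lib.SporRu.Engine

/-!
Kernel checks of the presentations at the primes three and five.
-/

set_option autoImplicit false
set_option maxRecDepth 100000

namespace Cfsg.Agent.Lib.SporRu.PcSmallCheck

open Engine Cfsg.Agent.Lib.Schur.PcCollect

theorem three_cert :
    PcThreeData.data.certOk (listVec 3) PcThreeData.eqs PcThreeData.combos = true := by decide +kernel

theorem five_cert :
    PcFiveData.data.certOk (listVec 5) PcFiveData.eqs PcFiveData.combos = true := by decide +kernel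

theorem three_ok : idxOk PcThreeData.genIdx = true ∧ idxOk PcThreeData.conjIdx = true ∧
    relOk PcThreeData.data PcThreeData.genIdx = true ∧
    sepOk PcThreeData.data PcThreeData.genIdx PcThreeData.sep = true ∧
    conjOk PcThreeData.data PcThreeData.genIdx PcThreeData.conjIdx = true := by decide +kernel

theorem five_ok : idxOk PcFiveData.genIdx = true ∧ idxOk PcFiveData.conjIdx = true ∧
    relOk PcFiveData.data PcFiveData.genIdx = true ∧
    sepOk PcFiveData.data PcFiveData.genIdx PcFiveData.sep = true ∧
    conjOk PcFiveData.data PcFiveData.genIdx PcFiveData.conjIdx = true := by decide +kernel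

end Cfsg.Agent.Lib.SporRu.PcSmallCheck
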