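import Cfsg.Agent.Lib.SporRu.Double
import Cfsg.Agent.Lib.SporRu.PcSmallCheck
import Cfsg.Agent.Lib.Schur.PermMult

/-!
The double cover has trivial multiplier, so the multiplier of the Rudvalis group has order two.
-/

set_option autoImplicit false
set_option maxRecDepth 100000

namespace Cfsg.Agent.Lib.SporRu.Mult

open Cfsg Cfsg.Spor F5Code CodeData CodeCheck Gamma Engine Double
open Cfsg.Agent.Lib.Schur
open Cfsg.Agent.Lib.Schur.PcCollect (Data)

theorem exists_part {D : Data} {I J : List ℕ} {sep : List (ℕ × List ℕ)} {α : Type} [BEq α] [LawfulBEq α]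
    {V : PcCollect.Vec D.p α} {eqs : List (PcCollect.Equat × α)} {combos : List (List ℕ)}
    (hp : D.p.Prime) (hcert : D.certOk V eqs combos = true)
    (hI : idxOk I = true) (hJ : idxOk J = true) (hrel : relOk D I = true)
    (hsep : sepOk D I sep = true) (hconj : conjOk D I J = true)
    (hidx : ¬ D.p ^ (D.n + 1) ∣ 291852288000) :
    ∃ P : Subgroup Cover, ¬ D.p ∣ P.index ∧ Fusion.KillsPart D.p P :=
  ⟨⊤, by rw [Subgroup.index_top]; exact fun h => hp.one_lt.ne' (Nat.dvd_one.1 h),
    PcCollect.killsPart_of_cert ⊤ D hp V (gen I) hcert (rel_of_ok hI hrel) (strict_of_ok hI hsep)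
      (conj_of_ok hI hJ hconj) (by rw [card_cover]; exact hidx)⟩

theorem exists_cyclic {p k : ℕ} (hp : p.Prime) (hk : k < count) (h1 : powC (code k) p = one)
    (hne : code k ≠ one) (hidx : ¬ p ^ 2 ∣ 291852288000) :
    ∃ P : Subgroup Cover, ¬ p ∣ P.index ∧ Fusion.KillsPart p P := by
  haveI := Fact.mk hp
  have hpow : el k ^ p = 1 := by
    refine cover_ext (N := one) ?_ (by rw [OneMemClass.coe_one]; exact has_one)
    rw [SubmonoidClass.coe_pow, ← h1]
    exact (has_el hk).pow p
  have hne1 : el k ≠ 1 := fun e => (has_el hk).ne has_one hne (by rw [e, OneMemClass.coe_one])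
  refine ⟨Subgroup.zpowers (el k), fun hd => hidx ?_, Fusion.killsPart_zpowers p _⟩
  rw [← card_cover, ← (Subgroup.zpowers (el k)).card_mul_index, Nat.card_zpowers,
    orderOf_eq_prime hpow hne1, pow_two]
  exact Nat.mul_dvd_mul_left p hd

theorem trivial_cover : HasCyclicSchurMultiplier Cover 1 := by
  refine Fusion.hasTrivialMultiplier fun p hp hd => ?_
  rw [card_cover] at hd
  have hd' : p ∣ 2 ^ 15 * 3 ^ 3 * 5 ^ 3 * 7 * 13 * 29 := hd.trans (by norm_num)
  simp only [hp.dvd_mul] at hd'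
  rcases hd' with ((((h | h) | h) | h) | h) | h
  · obtain rfl := (Nat.prime_dvd_prime_iff_eq hp Nat.prime_two).1 (hp.dvd_of_dvd_pow h)
    exact exists_part (D := PcTwoData.data) (V := PcCollect.maskVec) Nat.prime_two PcTwoCert.ok
      PcTwoCheck.idx_ok.1 PcTwoCheck.idx_ok.2 PcTwoCheck.rel_ok PcTwoCheck.sep_ok PcTwoCheck.conj_ok
      (by decide +kernel)
  · obtain rfl := (Nat.prime_dvd_prime_iff_eq hp Nat.prime_three).1 (hp.dvd_of_dvd_pow h)
    obtain ⟨a, b, c, d, e⟩ := PcSmallCheck.three_ok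
    exact exists_part (D := PcThreeData.data) (V := PcCollect.listVec 3) Nat.prime_three
      PcSmallCheck.three_cert a b c d e (by decide +kernel)
  · obtain rfl := (Nat.prime_dvd_prime_iff_eq hp Nat.prime_five).1 (hp.dvd_of_dvd_pow h)
    obtain ⟨a, b, c, d, e⟩ := PcSmallCheck.five_ok
    exact exists_part (D := PcFiveData.data) (V := PcCollect.listVec 5) Nat.prime_five
      PcSmallCheck.five_cert a b c d e (by decide +kernel)
  · obtain rfl := (Nat.prime_dvd_prime_iff_eq hp (by norm_num)).1 h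
    exact exists_cyclic hp idx_lt.1 orders_ok.2.2.2.1 apart_ok.2.1 (by norm_num)
  · obtain rfl := (Nat.prime_dvd_prime_iff_eq hp (by norm_num)).1 h
    exact exists_cyclic hp idx_lt.2.1 orders_ok.2.2.2.2 apart_ok.2.2.1 (by norm_num)
  · obtain rfl := (Nat.prime_dvd_prime_iff_eq hp (by norm_num)).1 h
    exact exists_cyclic hp idx_lt.2.2.2 orders_ok.2.1 apart_ok.1 (by norm_num)

theorem multiplier_ru : HasCyclicSchurMultiplier Ru 2 := by
  have : Fact (Nat.Prime 2) := ⟨Nat.prime_two⟩
  have := isCyclic_of_prime_card card_ker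
  exact PermMult.hasSchurMultiplier_of_cover sigma isStem trivial_cover
    (mulEquivOfCyclicCardEq (by rw [card_ker, Nat.card_congr Multiplicative.toAdd, Nat.card_zmod]))

end Cfsg.Agent.Lib.SporRu.Mult
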