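import Cfsg.Agent.Lib.SporRu.OutDefs

/-!
Kernel checks of the rigid triple.
-/

set_option autoImplicit false
set_option maxRecDepth 100000

namespace Cfsg.Agent.Lib.SporRu.OutCheck

open Cfsg.Agent.Lib.RuPerm Code28 BigChain OutData OutDefs

theorem mem_ok : (Nat.beq sC (prodB bigChain sDig) && Nat.beq tC (prodB bigChain tDig) &&
    Nat.beq uCodes.length uDigs.length &&
    (List.range uCodes.length).all fun j => Nat.beq (uCodes.getD j 0) (prodB bigChain (uDigs.getD j []))) = true := by
  decide +kernel

theorem x_ok : xC = Code28.mul (bigLevel0.gens.getD 0 one) (bigLevel0.gens.getD 1 one) := by decide +kernel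

theorem pows_ok : xPows = (List.range 29).map (powB xC) ∧ sPows = (List.range 14).map (powB sC) ∧
    polyCodes = polys.map polyC ∧ (polys.all fun l => l.all fun i => Nat.blt i 29) = true := by decide +kernel

theorem rel_ok : powB xC 29 = one ∧ apply xC bigLevel0.base ≠ apply one bigLevel0.base ∧
    Code28.mul sC xC = Code28.mul (powB xC 4) sC ∧ Code28.mul tC sC = Code28.mul (powB sC 13) tC ∧
    (rels.all fun w => Nat.beq (valC xC sC tC w) one) = true := by decide +kernel

theorem shift_ok : ((List.range 29).all fun i => Nat.beq
    (Code28.mul (powB xC (shifts.getD i 0)) sC)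
    (Code28.mul (Code28.mul sC (xPows.getD i 0)) (powB xC (shifts.getD i 0)))) = true := by decide +kernel

theorem gen_ok : valC xC sC tC genWord = bigLevel0.gens.getD 1 one ∧
    Code28.mul xC (Code28.mul (bigLevel0.gens.getD 1 one) (bigLevel0.gens.getD 1 one)) =
      bigLevel0.gens.getD 0 one := by decide +kernel

theorem form_ok : Code28.mul (Code28.mul transT formC) (bigLevel0.gens.getD 0 one) = formC ∧
    Code28.mul (Code28.mul transS formC) (bigLevel0.gens.getD 1 one) = formC := by decide +kernel

theorem transT_ok : ∀ i j : Fin 28,
    (lane transT j.1).testBit i.1 = (lane (bigLevel0.gens.getD 0 one) i.1).testBit j.1 := by decide +kernel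

theorem transS_ok : ∀ i j : Fin 28,
    (lane transS j.1).testBit i.1 = (lane (bigLevel0.gens.getD 1 one) i.1).testBit j.1 := by decide +kernel

theorem orbit_ok : bigLevel0.tree.all (fun en => memS orbit (entryPt en)) = true := by decide +kernel

theorem bases_ok : bigChain.map (fun L => L.base) = polyCodes.map (fun P => apply P bigLevel0.base) := by
  decide +kernel

theorem seeds_ok : memS orbit seedA = true ∧ memS orbit seedB = true ∧
    Code28.mul seedCode seedInv = one := by decide +kernel

theorem seedA_orb : (bigLevel0.sorted.any fun i => Nat.beq seedA (entryPt (bigLevel0.tree.get i))) = true ∧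
    (bigLevel0.sorted.any fun i => Nat.beq seedB (entryPt (bigLevel0.tree.get i))) = true := by decide +kernel

theorem u_ok : (uCodes.all fun u => Nat.beq (Code28.mul u sC) (Code28.mul sC u)) = true := by decide +kernel

theorem cols_ok : ((List.range 28).all fun k => Nat.beq (lane seedCode k)
    (apply (sPows.getD (k % 14) 0) (bif Nat.blt k 14 then seedA else seedB))) = true := by decide +kernel

end Cfsg.Agent.Lib.SporRu.OutCheck
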