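import Cfsg.Agent.Lib.SporRu.OutDefs

/-!
Kernel checks of the two centralisers.
-/

set_option autoImplicit false
set_option maxRecDepth 100000

namespace Cfsg.Agent.Lib.SporRu.OutCheckCent

open Cfsg.Agent.Lib.RuPerm Code28 BigChain OutData OutDefs

theorem centX_ok : bigLevel0.tree.all centXOk = true := by decide +kernel

theorem candA_ok : bigLevel0.tree.all (candOk seedA candA) = true := by decide +kernel

theorem candB_ok : bigLevel0.tree.all (candOk seedB candB) = true := by decide +kernel

theorem pairs_ok : (candA.all fun a => candB.all fun b => pairOk a b) = true := by decide +kernel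

end Cfsg.Agent.Lib.SporRu.OutCheckCent
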