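import Cfsg.Agent.Lib.SporRu.OutDefs

/-!
Kernel check of the table of images.
-/

set_option autoImplicit false
set_option maxRecDepth 100000

namespace Cfsg.Agent.Lib.SporRu.OutCheckTable

open OutData OutDefs

theorem ok : ((List.range 28).all fun k => (List.range uCodes.length).all fun j => caseOk (k + 1) j) = true := by
  decide +kernel

end Cfsg.Agent.Lib.SporRu.OutCheckTable
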