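import Cfsg.Agent.Lib.SporRu.OutVec
import Cfsg.Agent.Lib.SporRu.Main
import Cfsg.Agent.Lib.SporRu.OutCheck
import Cfsg.Agent.Lib.SporRu.OutCheckCent
import Cfsg.Agent.Lib.SporRu.OutCheckTable
import Cfsg.Agent.Lib.ConwayOut.Criterion

/-!
Every automorphism of the Rudvalis group is inner: a rigid triple in the matrix group over two elements.
-/

set_option autoImplicit false
set_option maxRecDepth 100000

namespace Cfsg.Agent.Lib.SporRu.Out

open Cfsg.Agent.Lib.SporMatrix
open Cfsg.Agent.Lib.RuPerm Code28 Action BigChain OutData OutDefs OutVec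
open Cfsg.Agent.Lib.OutTrivial (val3)
open scoped MatrixGroups Matrix

theorem smul_mem_orbit {Γ Ω : Type*} [Group Γ] [MulAction Γ Ω] (H : Subgroup Γ) (g : H) {x y : Ω}
    (hy : y ∈ MulAction.orbit H x) : (g : Γ) • y ∈ MulAction.orbit H x := by
  obtain ⟨h, rfl⟩ := hy
  exact ⟨g * h, mul_smul g h x⟩

theorem vec_of_pt {g : GL (Fin 28) (ZMod 2)} {x y : ℕ} (h : g • pt x = pt y) :
    (g : Mat) *ᵥ decV x = decV y := h

theorem pt_of_vec {g : GL (Fin 28) (ZMod 2)} {x y : ℕ} (h : (g : Mat) *ᵥ decV x = decV y) :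
    g • pt x = pt y := h

theorem powM {M N : Mat} (h : M * N = N * M) (i : ℕ) : M * N ^ i = N ^ i * M := by
  induction i with
  | zero => rw [pow_zero, mul_one, one_mul]
  | succ n ih => rw [pow_succ, ← mul_assoc, ih, mul_assoc, h, ← mul_assoc]

theorem big_L : Cfsg.Agent.Lib.RuPerm.Main.big.L = bigLevel0 := rfl

theorem big_chain : Cfsg.Agent.Lib.RuPerm.Main.big.L :: Cfsg.Agent.Lib.RuPerm.Main.big.M ::
    Cfsg.Agent.Lib.RuPerm.Main.big.rest = bigChain := rfl

theorem big_t_val : ((Cfsg.Agent.Lib.RuPerm.Main.big.t : GL (Fin 28) (ZMod 2)) : Mat) =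
    Code28.dec (bigLevel0.gens.getD 0 one) := rfl

theorem big_s_val : ((Cfsg.Agent.Lib.RuPerm.Main.big.s : GL (Fin 28) (ZMod 2)) : Mat) =
    Code28.dec (bigLevel0.gens.getD 1 one) := rfl

attribute [local irreducible] Cfsg.Agent.Lib.RuPerm.Main.big Action.Cert.grp Code28.mul Code28.apply
  Code28.dec Code28.one Code28.vecKey BigChain.bigLevel0 BigChain.bigChain OutData.xC OutData.sC OutData.tC
  OutData.xPows OutData.sPows OutData.polyCodes OutData.polys OutData.uCodes OutData.uDigs OutData.candA OutData.candB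
  OutData.formC OutData.transT OutData.transS OutData.orbit OutData.table OutData.rels OutData.shifts OutData.genWord
  OutData.seedA OutData.seedB OutData.seedInv OutData.sDig OutData.tDig OutDefs.seedCode OutDefs.entryPt

local notation "big" => Cfsg.Agent.Lib.RuPerm.Main.big

/-- The group. -/
abbrev G : Type := ↥(big).grp

theorem powG {g a : G} (h : g * a = a * g) (i : ℕ) : g * a ^ i = a ^ i * g := by
  induction i with
  | zero => rw [pow_zero, mul_one, one_mul]
  | succ n ih => rw [pow_succ, ← mul_assoc, ih, mul_assoc, h, ← mul_assoc]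

/-- An element with its code. -/
def Has (g : G) (c : ℕ) : Prop := ((g : GL (Fin 28) (ZMod 2)) : Mat) = Code28.dec c

theorem has_one : Has 1 one := by
  show ((1 : GL (Fin 28) (ZMod 2)) : Mat) = _
  rw [Units.val_one, Code28.dec_one]

theorem Has.mul {g h : G} {a b : ℕ} (hg : Has g a) (hh : Has h b) : Has (g * h) (Code28.mul a b) := by
  show (((g : GL (Fin 28) (ZMod 2)) * h : GL (Fin 28) (ZMod 2)) : Mat) = _
  rw [Units.val_mul, hg, hh, Code28.dec_mul]

theorem Has.pow {g : G} {a : ℕ} (hg : Has g a) : ∀ n, Has (g ^ n) (powB a n)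
  | 0 => by rw [pow_zero]; exact has_one
  | n + 1 => by rw [pow_succ']; exact hg.mul (Has.pow hg n)

theorem Has.val {g : G} {a : ℕ} (hg : Has g a) : ((g : GL (Fin 28) (ZMod 2)) : Mat) = Code28.dec a := hg

theorem Has.eq {g h : G} {a : ℕ} (hg : Has g a) (hh : Has h a) : g = h :=
  Subtype.ext (Units.ext (hg.trans hh.symm))

theorem Has.vec {g : G} {a : ℕ} (hg : Has g a) (b : ℕ) :
    ((g : GL (Fin 28) (ZMod 2)) : Mat) *ᵥ decV b = decV (apply a b) := by
  rw [hg, decV_apply]

theorem exists_has {c : ℕ} {d : List ℕ} (h : Nat.beq c (prodB bigChain d) = true) : ∃ g : G, Has g c := by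
  rw [Nat.eq_of_beq_eq_true h, prodB_eq]
  have h1 := (Chain.prodOf_spec coding (big).chk d).2
  rw [big_chain] at h1
  have h2 := (big).mem_gen (m := coding.val (Chain.prodOf coding bigChain d))
  rw [big_chain] at h2
  obtain ⟨g, hg, he⟩ := h2.1 h1
  exact ⟨⟨g, hg⟩, he⟩

theorem mem_beq : Nat.beq sC (prodB bigChain sDig) = true ∧ Nat.beq tC (prodB bigChain tDig) = true ∧
    uCodes.length = uDigs.length ∧
    ∀ j < uCodes.length, Nat.beq (uCodes.getD j 0) (prodB bigChain (uDigs.getD j [])) = true := by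
  have h := OutCheck.mem_ok
  simp only [Bool.and_eq_true, List.all_eq_true, List.mem_range] at h
  exact ⟨h.1.1.1, h.1.1.2, Nat.eq_of_beq_eq_true h.1.2, h.2⟩

/-- The first generator. -/
def tB : G := ⟨(big).t, by unfold Action.Cert.grp; exact Subgroup.subset_closure (Set.mem_insert _ _)⟩

/-- The second generator. -/
def sB : G := ⟨(big).s, by unfold Action.Cert.grp; exact Subgroup.subset_closure (Set.mem_insert_of_mem _ rfl)⟩

theorem has_tB : Has tB (bigLevel0.gens.getD 0 one) := big_t_val

theorem has_sB : Has sB (bigLevel0.gens.getD 1 one) := big_s_val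

/-- The element of order twenty-nine. -/
def X : G := tB * sB

theorem has_X : Has X xC := by
  rw [OutCheck.x_ok]
  exact has_tB.mul has_sB

/-- The element of order fourteen. -/
noncomputable def S : G := (exists_has mem_beq.1).choose

theorem has_S : Has S sC := (exists_has mem_beq.1).choose_spec

/-- The involution inverting it. -/
noncomputable def T : G := (exists_has mem_beq.2.1).choose

theorem has_T : Has T tC := (exists_has mem_beq.2.1).choose_spec

theorem has_val {x s t : G} {a b c : ℕ} (hx : Has x a) (hs : Has s b) (ht : Has t c) :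
    ∀ l, Has (val3 x s t l) (valC a b c l)
  | [] => has_one
  | i :: l => by
    have h : Has (![x, s, t] i) (sel a b c i) := by fin_cases i <;> assumption
    exact h.mul (has_val hx hs ht l)

theorem X_order : orderOf X = 29 := by
  haveI : Fact (Nat.Prime 29) := ⟨by norm_num⟩
  obtain ⟨h1, h2, -⟩ := OutCheck.rel_ok
  refine orderOf_eq_prime ((h1 ▸ has_X.pow 29).eq has_one) fun e => h2 ?_
  have h := has_X.vec bigLevel0.base
  rw [e, has_one.vec] at h
  exact (decV_injective (apply_lt _ _) (apply_lt _ _) h).symm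

theorem xPow {i : ℕ} (hi : i < 29) : Has (X ^ i) (xPows.getD i 0) := by
  rw [OutCheck.pows_ok.1, List.getD_eq_getElem _ _ (by simpa using hi), List.getElem_map, List.getElem_range]
  exact has_X.pow i

theorem sPow {i : ℕ} (hi : i < 14) : Has (S ^ i) (sPows.getD i 0) := by
  rw [OutCheck.pows_ok.2.1, List.getD_eq_getElem _ _ (by simpa using hi), List.getElem_map, List.getElem_range]
  exact has_S.pow i

theorem gens_top : Subgroup.closure ({tB, sB} : Set G) = ⊤ := by
  refine Subgroup.map_injective (big).grp.subtype_injective ?_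
  rw [MonoidHom.map_closure, ← MonoidHom.range_eq_map, Subgroup.range_subtype, Set.image_insert_eq,
    Set.image_singleton]
  unfold Action.Cert.grp
  rfl

theorem gen_top : Subgroup.closure ({X, S, T} : Set G) = ⊤ := by
  obtain ⟨h1, h2⟩ := OutCheck.gen_ok
  have hs : sB = val3 X S T genWord := has_sB.eq (h1 ▸ has_val has_X has_S has_T genWord)
  have hmem : ∀ l, val3 X S T l ∈ Subgroup.closure ({X, S, T} : Set G) := by
    intro l
    induction l with
    | nil => exact one_mem _
    | cons i l ih =>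
      refine mul_mem (Subgroup.subset_closure ?_) ih
      fin_cases i <;> simp
  have ht : tB = X * (sB * sB) := has_tB.eq (h2 ▸ has_X.mul (has_sB.mul has_sB))
  rw [eq_top_iff, ← gens_top, Subgroup.closure_le]
  rintro g (rfl | rfl)
  · rw [ht]
    exact mul_mem (Subgroup.subset_closure (Set.mem_insert _ _)) (mul_mem (hs ▸ hmem _) (hs ▸ hmem _))
  · rw [hs]; exact hmem _

/-- The action on coded points. -/
theorem exists_entry (g : G) {b : ℕ} (hb : ∃ en ∈ bigLevel0.tree.toList, b = entryPt en) :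
    ∃ en ∈ bigLevel0.tree.toList, ((g : GL (Fin 28) (ZMod 2)) : Mat) *ᵥ decV b = decV (entryPt en) := by
  obtain ⟨en, hen, rfl⟩ := hb
  have key : ∀ en ∈ bigLevel0.tree.toList, decV (entryPt en) ∈ MulAction.orbit (big).grp (pt (big).L.base) := by
    intro en hen
    refine (big).mem_orbit_iff.2 ?_
    rw [big_L]
    exact ⟨en, hen, by unfold entryPt; rfl⟩
  have h : (g : GL (Fin 28) (ZMod 2)) • pt (entryPt en) ∈ MulAction.orbit (big).grp (pt (big).L.base) :=
    smul_mem_orbit _ g (key en hen)
  have h' := (big).mem_orbit_iff.1 h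
  rw [big_L] at h'
  obtain ⟨e', he', hh⟩ := h'
  have hv : ((g : GL (Fin 28) (ZMod 2)) : Mat) *ᵥ decV (entryPt en) = decV (apply e'.elem bigLevel0.base) :=
    vec_of_pt hh
  have he : entryPt e' = apply e'.elem bigLevel0.base := by unfold entryPt; rfl
  exact ⟨e', he', hv.trans (congrArg decV he.symm)⟩

theorem base_entry : ∃ en ∈ bigLevel0.tree.toList, bigLevel0.base = entryPt en := by
  have h := (big).mem_orbit_iff.1 (MulAction.mem_orbit_self (pt (big).L.base))
  rw [big_L] at h
  obtain ⟨en, hen, he⟩ := h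
  refine ⟨en, hen, ?_⟩
  unfold entryPt
  exact decV_injective OrbitCheck.bases_lt.1 (apply_lt _ _) he

theorem mem_orbit_tree {en : Chain.Entry ℕ} (hen : en ∈ bigLevel0.tree.toList) :
    memS orbit (entryPt en) = true := (Chain.Tree.all_iff _).1 OutCheck.orbit_ok en hen

theorem commute_poly {M : Mat} (h : M * Code28.dec xC = Code28.dec xC * M) :
    ∀ l : List ℕ, (∀ i ∈ l, i < 29) → M * Code28.dec (polyC l) = Code28.dec (polyC l) * M
  | [], _ => by rw [polyC, dec_zero, mul_zero, zero_mul]
  | i :: l, hl => by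
    have hi := hl i List.mem_cons_self
    have hp : M * Code28.dec (xPows.getD i 0) = Code28.dec (xPows.getD i 0) * M := by
      rw [← (xPow hi).val, Subgroup.coe_pow, Units.val_pow_eq_pow_val, has_X.val]
      exact powM h i
    rw [polyC, dec_xor, mul_add, add_mul, hp, commute_poly h l fun j hj => hl j (List.mem_cons_of_mem _ hj)]

theorem eq_of_bases {g h : G} (hb : ∀ K ∈ bigChain, ((g : GL (Fin 28) (ZMod 2)) : Mat) *ᵥ decV K.base =
    ((h : GL (Fin 28) (ZMod 2)) : Mat) *ᵥ decV K.base) : g = h := by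
  refine eq_of_inv_mul_eq_one ?_ |>.symm
  refine Subtype.ext (Units.ext ?_)
  show (((h⁻¹ * g : G) : GL (Fin 28) (ZMod 2)) : Mat) = 1
  refine eq_one_of_fix (big).chk ((big).mem_gen.2 ⟨_, (h⁻¹ * g).2, rfl⟩) fun K hK => ?_
  rw [big_chain] at hK
  rw [← Units.val_one, vecKey_eq_iff, one_smul]
  have e : (g : GL (Fin 28) (ZMod 2)) • pt K.base = (h : GL (Fin 28) (ZMod 2)) • pt K.base := hb K hK
  show ((h : GL (Fin 28) (ZMod 2))⁻¹ * g) • pt K.base = _
  rw [mul_smul, e, inv_smul_smul]

theorem poly_bases : ∀ K ∈ bigChain, ∃ l ∈ polys, polyC l ∈ polyCodes ∧ (∀ i ∈ l, i < 29) ∧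
    K.base = apply (polyC l) bigLevel0.base := by
  intro K hK
  have h : K.base ∈ bigChain.map (fun L => L.base) := List.mem_map_of_mem hK
  rw [OutCheck.bases_ok, OutCheck.pows_ok.2.2.1, List.map_map] at h
  obtain ⟨l, hl, he⟩ := List.mem_map.1 h
  have hlt := OutCheck.pows_ok.2.2.2
  simp only [List.all_eq_true, Nat.blt_eq] at hlt
  exact ⟨l, hl, by rw [OutCheck.pows_ok.2.2.1]; exact List.mem_map_of_mem hl, hlt l hl, he.symm⟩

theorem cent_X (g : G) (hg : g * X = X * g) : ∃ i < 29, g = X ^ i := by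
  have hM : ((g : GL (Fin 28) (ZMod 2)) : Mat) * Code28.dec xC = Code28.dec xC * (g : GL (Fin 28) (ZMod 2)) := by
    rw [← has_X.val, ← Units.val_mul, ← Units.val_mul, ← Subgroup.coe_mul, hg, Subgroup.coe_mul]
  obtain ⟨en, hen, hv⟩ := exists_entry g base_entry
  have himg : ∀ K ∈ bigChain, ∃ P ∈ polyCodes,
      ((g : GL (Fin 28) (ZMod 2)) : Mat) *ᵥ decV K.base = decV (apply P (entryPt en)) ∧
        K.base = apply P bigLevel0.base ∧
        ∀ i < 29, ((X ^ i : G) : GL (Fin 28) (ZMod 2)) • pt K.base =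
          pt (apply P (apply (xPows.getD i 0) bigLevel0.base)) := by
    intro K hK
    obtain ⟨l, -, hmem, hlt, he⟩ := poly_bases K hK
    refine ⟨_, hmem, ?_, he, fun i hi => ?_⟩
    · rw [he, decV_apply, Matrix.mulVec_mulVec, commute_poly hM l hlt, ← Matrix.mulVec_mulVec, hv, decV_apply]
    · show ((X ^ i : G) : GL (Fin 28) (ZMod 2)).val *ᵥ decV K.base = decV _
      have hc : ((X ^ i : G) : GL (Fin 28) (ZMod 2)).val * Code28.dec xC =
          Code28.dec xC * ((X ^ i : G) : GL (Fin 28) (ZMod 2)).val := by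
        rw [← has_X.val, ← Units.val_mul, ← Units.val_mul, ← Subgroup.coe_mul, ← Subgroup.coe_mul,
          ← pow_succ, ← pow_succ']
      rw [he, decV_apply, Matrix.mulVec_mulVec, commute_poly hc l hlt, ← Matrix.mulVec_mulVec,
        (xPow hi).vec, ← decV_apply]
  have hall : (polyCodes.all fun P => memS orbit (apply P (entryPt en))) = true := by
    rw [List.all_eq_true]
    intro P hP
    obtain ⟨K, hK, hKP⟩ : ∃ K ∈ bigChain, K.base = apply P bigLevel0.base := by
      have : apply P bigLevel0.base ∈ polyCodes.map (fun P => apply P bigLevel0.base) := List.mem_map_of_mem hP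
      rw [← OutCheck.bases_ok] at this
      obtain ⟨K, hK, e⟩ := List.mem_map.1 this
      exact ⟨K, hK, e⟩
    obtain ⟨l, hlP, rfl⟩ : ∃ l ∈ polys, polyC l = P := by
      rw [OutCheck.pows_ok.2.2.1] at hP
      simpa using hP
    have hlt := OutCheck.pows_ok.2.2.2
    simp only [List.all_eq_true, Nat.blt_eq] at hlt
    have hb := List.all_eq_true.1 (big).bases K (by rw [big_chain]; exact hK)
    simp only [List.any_eq_true] at hb
    obtain ⟨i, -, hi⟩ := hb
    rw [big_L] at hi
    obtain ⟨en', hen', he'⟩ := exists_entry g (b := K.base) ⟨_, Chain.Tree.get_mem _ _,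
        (Nat.eq_of_beq_eq_true hi).trans (by unfold entryPt; rfl)⟩
    rw [hKP, decV_apply, Matrix.mulVec_mulVec, commute_poly hM l (hlt l hlP), ← Matrix.mulVec_mulVec, hv,
      ← decV_apply] at he'
    rw [decV_injective (apply_lt _ _) (by unfold entryPt; exact apply_lt _ _) he']
    exact mem_orbit_tree hen'
  have h := (Chain.Tree.all_iff _).1 OutCheckCent.centX_ok en hen
  rw [centXOk, hall, cond_true, List.any_eq_true] at h
  obtain ⟨C, hC, he⟩ := h
  obtain ⟨i, hi, rfl⟩ := List.getElem_of_mem hC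
  have hi' : i < 29 := by
    have := hi
    rw [OutCheck.pows_ok.1] at this
    simpa using this
  refine ⟨i, hi', eq_of_bases fun K hK => ?_⟩
  obtain ⟨P, -, h1, -, h3⟩ := himg K hK
  have h4 := h3 i hi'
  rw [List.getD_eq_getElem _ _ hi, ← Nat.eq_of_beq_eq_true he] at h4
  exact h1.trans h4.symm

theorem formInv (g : G) : ((g : GL (Fin 28) (ZMod 2)) : Mat)ᵀ * Code28.dec formC * (g : GL (Fin 28) (ZMod 2)) =
    Code28.dec formC := by
  have hT : (Code28.dec (bigLevel0.gens.getD 0 one))ᵀ = Code28.dec transT := by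
    ext i j
    unfold Code28.dec
    exact congrArg Code28.bit (OutCheck.transT_ok i j).symm
  have hS : (Code28.dec (bigLevel0.gens.getD 1 one))ᵀ = Code28.dec transS := by
    ext i j
    unfold Code28.dec
    exact congrArg Code28.bit (OutCheck.transS_ok i j).symm
  have hmem : g ∈ Submonoid.closure ({tB, sB} : Set G) := by
    rw [← Subgroup.closure_toSubmonoid_of_finite, gens_top]
    trivial
  induction hmem using Submonoid.closure_induction with
  | mem x hx =>
    rcases hx with rfl | rfl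
    · rw [has_tB.val, hT, ← Code28.dec_mul, ← Code28.dec_mul, OutCheck.form_ok.1]
    · rw [has_sB.val, hS, ← Code28.dec_mul, ← Code28.dec_mul, OutCheck.form_ok.2]
  | one => rw [OneMemClass.coe_one, Units.val_one, Matrix.transpose_one, one_mul, mul_one]
  | mul a b _ _ ha hb =>
    rw [Subgroup.coe_mul, Units.val_mul, Matrix.transpose_mul]
    calc _ = ((b : GL (Fin 28) (ZMod 2)) : Mat)ᵀ * (((a : GL (Fin 28) (ZMod 2)) : Mat)ᵀ * Code28.dec formC *
          (a : GL (Fin 28) (ZMod 2))) * (b : GL (Fin 28) (ZMod 2)) := by simp only [mul_assoc]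
      _ = _ := by rw [ha, hb]

/-- The form is carried over by an element commuting with `S`. -/
theorem formB_carry {g : G} (hg : g * S = S * g) {a b a' b' : ℕ}
    (ha : ((g : GL (Fin 28) (ZMod 2)) : Mat) *ᵥ decV a = decV a')
    (hb : ((g : GL (Fin 28) (ZMod 2)) : Mat) *ᵥ decV b = decV b') {i : ℕ} (hi : i < 14) :
    formB a' (apply (sPows.getD i 0) b') = formB a (apply (sPows.getD i 0) b) := by
  apply Code28.bit_injective
  have hp : g * S ^ i = S ^ i * g := powG hg i
  have e : ((g : GL (Fin 28) (ZMod 2)) : Mat) *ᵥ decV (apply (sPows.getD i 0) b) =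
      decV (apply (sPows.getD i 0) b') := by
    rw [decV_apply, decV_apply, ← hb, Matrix.mulVec_mulVec, Matrix.mulVec_mulVec, ← (sPow hi).val, ← Units.val_mul,
      ← Units.val_mul, ← Subgroup.coe_mul, ← Subgroup.coe_mul, hp]
  rw [formB_eq, formB_eq, ← e, ← ha, form_smul (formInv g)]

theorem seed_cand {g : G} (hg : g * S = S * g) {c : ℕ} {L : List ℕ}
    (hc : (bigLevel0.sorted.any fun i => Nat.beq c (entryPt (bigLevel0.tree.get i))) = true)
    (hok : bigLevel0.tree.all (candOk c L) = true) :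
    ∃ a ∈ L, ((g : GL (Fin 28) (ZMod 2)) : Mat) *ᵥ decV c = decV a := by
  rw [List.any_eq_true] at hc
  obtain ⟨i, -, hi⟩ := hc
  obtain ⟨en, hen, he⟩ := exists_entry g (b := c) ⟨_, Chain.Tree.get_mem _ _, Nat.eq_of_beq_eq_true hi⟩
  have h := (Chain.Tree.all_iff _).1 hok en hen
  have hs : selfOk c (entryPt en) = true := by
    simp only [selfOk, List.all_eq_true, List.mem_range, beq_iff_eq]
    exact fun i hi => formB_carry hg he he (by omega)
  rw [candOk, hs, cond_true, List.any_eq_true] at h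
  obtain ⟨a, ha, hea⟩ := h
  exact ⟨a, ha, by rw [he, Nat.eq_of_beq_eq_true hea]⟩

/-- The centraliser of `S`. -/
def U : Set G := {g | ∃ j < uCodes.length, Has g (uCodes.getD j 0)}

theorem cent_S (g : G) (hg : g * S = S * g) : g ∈ U := by
  obtain ⟨a, ha, ea⟩ := seed_cand hg OutCheck.seedA_orb.1 OutCheckCent.candA_ok
  obtain ⟨b, hb, eb⟩ := seed_cand hg OutCheck.seedA_orb.2 OutCheckCent.candB_ok
  have hp := OutCheckCent.pairs_ok
  simp only [List.all_eq_true] at hp
  have h := hp a ha b hb
  have hall : ((List.range 14).all fun i =>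
      formB a (apply (sPows.getD i 0) b) == formB seedA (apply (sPows.getD i 0) seedB)) = true := by
    simp only [List.all_eq_true, List.mem_range, beq_iff_eq]
    exact fun i hi => formB_carry hg ea eb hi
  rw [pairOk, hall, cond_true, List.any_eq_true] at h
  obtain ⟨u, hu, hue⟩ := h
  simp only [Bool.and_eq_true] at hue
  obtain ⟨j, hj, rfl⟩ := List.getElem_of_mem hu
  obtain ⟨v, hv⟩ := exists_has (mem_beq.2.2.2 j hj)
  rw [List.getD_eq_getElem _ _ hj] at hv
  refine ⟨j, hj, ?_⟩
  rw [List.getD_eq_getElem _ _ hj]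
  suffices g = v by rw [this]; exact hv
  have hvS : v * S = S * v := by
    have := OutCheck.u_ok
    simp only [List.all_eq_true] at this
    have e := this _ (List.getElem_mem hj)
    exact (hv.mul has_S).eq (by rw [Nat.eq_of_beq_eq_true e]; exact has_S.mul hv)
  refine Subtype.ext (Units.ext ?_)
  have hinv : Code28.dec seedCode * Code28.dec seedInv = 1 := by
    rw [← Code28.dec_mul, OutCheck.seeds_ok.2.2, Code28.dec_one]
  have key : ((g : GL (Fin 28) (ZMod 2)) : Mat) * Code28.dec seedCode =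
      ((v : GL (Fin 28) (ZMod 2)) : Mat) * Code28.dec seedCode := by
    refine eq_of_cols fun z => ?_
    have hz := OutCheck.cols_ok
    simp only [List.all_eq_true, List.mem_range] at hz
    rw [Nat.eq_of_beq_eq_true (hz z.1 z.2)]
    have hm : z.1 % 14 < 14 := Nat.mod_lt _ (by norm_num)
    have hgp : g * S ^ (z.1 % 14) = S ^ (z.1 % 14) * g := powG hg _
    have hvp : v * S ^ (z.1 % 14) = S ^ (z.1 % 14) * v := powG hvS _
    rw [decV_apply, Matrix.mulVec_mulVec, Matrix.mulVec_mulVec, ← (sPow hm).val, ← Units.val_mul, ← Units.val_mul,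
      ← Subgroup.coe_mul, ← Subgroup.coe_mul, hgp, hvp, Subgroup.coe_mul, Subgroup.coe_mul, Units.val_mul,
      Units.val_mul, ← Matrix.mulVec_mulVec, ← Matrix.mulVec_mulVec]
    refine congrArg (fun w => ((S ^ (z.1 % 14) : G) : GL (Fin 28) (ZMod 2)).val *ᵥ w) ?_
    cases Nat.blt z.1 14
    · rw [cond_false, eb, hv.vec, Nat.eq_of_beq_eq_true hue.2]
    · rw [cond_true, ea, hv.vec, Nat.eq_of_beq_eq_true hue.1]
  calc ((g : GL (Fin 28) (ZMod 2)) : Mat) = (g : GL (Fin 28) (ZMod 2)) * (Code28.dec seedCode * Code28.dec seedInv) := by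
        rw [hinv, mul_one]
    _ = _ := by rw [← mul_assoc, key, mul_assoc, hinv, mul_one]

theorem finite_G : Finite G := inferInstance

theorem card_out : Nat.card (Cfsg.Out G) = 1 := by
  haveI := finite_G
  obtain ⟨h1, -, h3, h4, h5⟩ := OutCheck.rel_ok
  let D : ConwayOut.Tri G :=
    { x := X, s := S, t := T, p := 29, r := 4, e := 13, U := U
      prime := by norm_num
      gen := gen_top
      order_x := X_order
      sq := by rw [Main.card_big]; norm_num
      conj_x := mul_inv_eq_iff_eq_mul.2 ((has_S.mul has_X).eq (h3 ▸ (has_X.pow 4).mul has_S))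
      conj_s := mul_inv_eq_iff_eq_mul.2 ((has_T.mul has_S).eq (h4 ▸ (has_S.pow 13).mul has_T))
      cent_x := cent_X
      shift := fun i hi => ⟨shifts.getD i 0, by
        have h := OutCheck.shift_ok
        simp only [List.all_eq_true, List.mem_range] at h
        refine (mul_inv_eq_iff_eq_mul.2 ?_).symm
        refine ((has_X.pow _).mul has_S).eq ?_
        rw [Nat.eq_of_beq_eq_true (h i hi)]
        exact (has_S.mul (xPow hi)).mul (has_X.pow _)⟩
      cent_s := cent_S }
  refine D.card_out_one rels (fun w hw => ?_) fun k hk hk0 u hu => ?_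
  · simp only [List.all_eq_true] at h5
    refine (has_val has_X has_S has_T w).eq ?_
    rw [Nat.eq_of_beq_eq_true (h5 w hw)]
    exact has_one
  · obtain ⟨j, hj, hu⟩ := hu
    have hk29 : k < 29 := hk
    have h := OutCheckTable.ok
    simp only [List.all_eq_true, List.mem_range] at h
    have hc := h (k - 1) (by omega) j hj
    rw [show k - 1 + 1 = k by omega, caseOk] at hc
    simp only at hc
    rcases hz : Nat.beq ((table.getD (k - 1) []).getD j (0, 0)).1 0 with _ | _
    · rw [hz, cond_false, Bool.and_eq_true, Bool.not_eq_true', apW_eq] at hc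
      left
      obtain ⟨hle, hne⟩ := hc
      have hle' := Nat.le_of_ble_eq_true hle
      have h0 : ((table.getD (k - 1) []).getD j (0, 0)).1 ≠ 0 := fun e => by rw [e] at hz; exact Bool.noConfusion hz
      refine ⟨rels.getD (((table.getD (k - 1) []).getD j (0, 0)).1 - 1) [], ?_, fun hv => ?_⟩
      · rw [List.getD_eq_getElem _ _ (by omega : ((table.getD (k - 1) []).getD j (0, 0)).1 - 1 < rels.length)]
        exact List.getElem_mem _
      · have hh := has_val (xPow hk29) has_S (has_T.mul hu)
          (rels.getD (((table.getD (k - 1) []).getD j (0, 0)).1 - 1) [])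
        rw [show val3 (X ^ k) S (T * u) (rels.getD (((table.getD (k - 1) []).getD j (0, 0)).1 - 1) []) = 1 from hv] at hh
        have e := hh.vec (Nat.shiftLeft 1 ((table.getD (k - 1) []).getD j (0, 0)).2)
        rw [has_one.vec] at e
        rw [decV_injective (apply_lt _ _) (apply_lt _ _) e, Nat.beq_refl] at hne
        exact Bool.noConfusion hne
    · rw [hz, cond_true] at hc
      simp only [Bool.and_eq_true, Nat.blt_eq] at hc
      obtain ⟨⟨⟨hlt, e1⟩, e2⟩, e3⟩ := hc
      right
      obtain ⟨c, hcc⟩ := exists_has (mem_beq.2.2.2 _ hlt)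
      refine ⟨c, ?_, ?_, ?_⟩
      · exact (hcc.mul has_S).eq (by rw [Nat.eq_of_beq_eq_true e1]; exact has_S.mul hcc)
      · exact (hcc.mul has_X).eq (by rw [Nat.eq_of_beq_eq_true e2]; exact (xPow hk29).mul hcc)
      · exact (hcc.mul has_T).eq (by rw [Nat.eq_of_beq_eq_true e3]; exact (has_T.mul hu).mul hcc)

theorem card_out_ru : Nat.card (Cfsg.Out Cfsg.Spor.Ru) = 1 := by
  obtain ⟨e⟩ := Main.equiv_big
  refine (Nat.card_congr (QuotientGroup.congr (Cfsg.Inn Cfsg.Spor.Ru) (Cfsg.Inn G) (MulAut.congr e) ?_).toEquiv).trans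
    card_out
  ext φ
  simp only [Subgroup.mem_map, Cfsg.Inn, MonoidHom.mem_range]
  constructor
  · rintro ⟨_, ⟨a, rfl⟩, rfl⟩
    refine ⟨e a, MulEquiv.ext fun y => ?_⟩
    simp [MulAut.congr]
  · rintro ⟨b, rfl⟩
    refine ⟨MulAut.conj (e.symm b), ⟨_, rfl⟩, MulEquiv.ext fun y => ?_⟩
    simp [MulAut.congr]

end Cfsg.Agent.Lib.SporRu.Out
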