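import Cfsg.Agent.Lib.SporRu.OutData
import Cfsg.Agent.Lib.RuPerm.Main

/-!
The computations on coded matrices that decide the automorphisms of the rigid triple.
-/

set_option autoImplicit false
set_option maxRecDepth 100000

namespace Cfsg.Agent.Lib.SporRu.OutDefs

open Cfsg.Agent.Lib.RuPerm Code28 BigChain OutData

/-- Membership in a search tree. -/
def memS : S → ℕ → Bool
  | .leaf, _ => false
  | .node l k r, v => bif Nat.beq v k then true else bif Nat.blt v k then memS l v else memS r v

/-- A power. -/
def powB (c : ℕ) : ℕ → ℕ
  | 0 => one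
  | n + 1 => Code28.mul c (powB c n)

/-- One of three codes. -/
def sel (a b c : ℕ) : Fin 3 → ℕ
  | ⟨0, _⟩ => a
  | ⟨1, _⟩ => b
  | _ => c

/-- The code of a word in three elements. -/
def valC (a b c : ℕ) : List (Fin 3) → ℕ
  | [] => one
  | i :: l => Code28.mul (sel a b c i) (valC a b c l)

/-- A word applied to a vector. -/
def apW (a b c : ℕ) : List (Fin 3) → ℕ → ℕ
  | [], v => apply one v
  | i :: l, v => apply (sel a b c i) (apW a b c l v)

/-- A sum of powers of `x`. -/
def polyC : List ℕ → ℕ
  | [] => 0
  | i :: l => Nat.xor (xPows.getD i 0) (polyC l)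

/-- The parity of the first `n` bits. -/
def parity (m : ℕ) : ℕ → Bool
  | 0 => false
  | n + 1 => parity m n ^^ m.testBit n

/-- The invariant form. -/
def formB (u v : ℕ) : Bool := parity (Nat.land u (apply formC v)) 28

/-- The base point of an entry. -/
def entryPt (en : SporMatrix.Chain.Entry ℕ) : ℕ := apply en.elem bigLevel0.base

/-- An image of the base point under an element commuting with `x` is on its orbit. -/
def centXOk (en : SporMatrix.Chain.Entry ℕ) : Bool :=
  let v := entryPt en
  bif polyCodes.all fun P => memS orbit (apply P v) then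
    xPows.any fun X => Nat.beq v (apply X bigLevel0.base)
  else true

/-- The form on a vector and its images under the first powers of `s`. -/
def selfOk (c v : ℕ) : Bool :=
  (List.range 8).all fun i => formB v (apply (sPows.getD i 0) v) == formB c (apply (sPows.getD i 0) c)

/-- The image of a seed is a candidate. -/
def candOk (c : ℕ) (L : List ℕ) (en : SporMatrix.Chain.Entry ℕ) : Bool :=
  let v := entryPt en
  bif selfOk c v then L.any fun a => Nat.beq v a else true

/-- A compatible pair of candidates comes from the list. -/
def pairOk (a b : ℕ) : Bool :=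
  bif (List.range 14).all fun i =>
      formB a (apply (sPows.getD i 0) b) == formB seedA (apply (sPows.getD i 0) seedB) then
    uCodes.any fun u => Nat.beq (apply u seedA) a && Nat.beq (apply u seedB) b
  else true

/-- The seeds with the powers of `s` fill a basis. -/
def seedCode : ℕ :=
  (List.range 28).foldr (fun i r => Nat.xor (Nat.shiftLeft
    (apply (sPows.getD (i % 14) 0) (bif Nat.blt i 14 then seedA else seedB)) (28 * i)) r) 0

/-- One image of the triple is refuted or inner. -/
def caseOk (k j : ℕ) : Bool :=
  let X := xPows.getD k 0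
  let u := uCodes.getD j 0
  let e := (table.getD (k - 1) []).getD j (0, 0)
  bif Nat.beq e.1 0 then
    let c := uCodes.getD e.2 0
    Nat.blt e.2 uCodes.length && Nat.beq (Code28.mul c sC) (Code28.mul sC c) &&
      Nat.beq (Code28.mul c xC) (Code28.mul X c) &&
      Nat.beq (Code28.mul c tC) (Code28.mul (Code28.mul tC u) c)
  else
    Nat.ble e.1 rels.length &&
      !Nat.beq (apW X sC (Code28.mul tC u) (rels.getD (e.1 - 1) []) (Nat.shiftLeft 1 e.2))
        (apply one (Nat.shiftLeft 1 e.2))

end Cfsg.Agent.Lib.SporRu.OutDefs
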