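import Cfsg.Agent.Lib.SporRu.OutDefs

/-!
Meaning of the coded computations: sums of matrices, the form, words.
-/

set_option autoImplicit false
set_option maxRecDepth 100000

namespace Cfsg.Agent.Lib.SporRu.OutVec

open Cfsg.Agent.Lib.RuPerm Code28 OutData OutDefs
open scoped MatrixGroups Matrix

attribute [local irreducible] Code28.mul Code28.apply Code28.one

theorem dec_xor (a b : ℕ) : Code28.dec (Nat.xor a b) = Code28.dec a + Code28.dec b := by
  funext w z
  show decV (lane (Nat.xor a b) z.1) w = decV (lane a z.1) w + decV (lane b z.1) w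
  rw [lane_xor]
  show bit ((lane a z.1 ^^^ lane b z.1).testBit w.1) = _
  rw [Nat.testBit_xor, bit_xor]
  rfl

theorem dec_zero : Code28.dec 0 = 0 := by
  funext w z
  show bit ((lane 0 z.1).testBit w.1) = 0
  rw [lane_eq, Nat.zero_div, Nat.zero_mod, Nat.zero_testBit]
  rfl

theorem apply_mul (N X v : ℕ) : apply (Code28.mul N X) v = apply N (apply X v) := by
  refine decV_injective (apply_lt _ _) (apply_lt _ _) ?_
  rw [decV_apply, decV_apply, decV_apply, dec_mul, Matrix.mulVec_mulVec]

theorem apW_eq (a b c : ℕ) : ∀ (l : List (Fin 3)) (v : ℕ), apW a b c l v = apply (valC a b c l) v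
  | [], v => rfl
  | i :: l, v => by rw [apW, valC, apply_mul, apW_eq a b c l v]

theorem parity_eq (m : ℕ) : ∀ n, bit (parity m n) = ∑ i ∈ Finset.range n, bit (m.testBit i)
  | 0 => rfl
  | n + 1 => by rw [parity, bit_xor, Finset.sum_range_succ, parity_eq m n]

theorem bit_and : ∀ a b : Bool, bit (a && b) = bit a * bit b := by decide

/-- The invariant form on vectors. -/
def form (a b : Fin 28 → ZMod 2) : ZMod 2 := a ⬝ᵥ (Code28.dec formC *ᵥ b)

theorem formB_eq (u v : ℕ) : bit (formB u v) = form (decV u) (decV v) := by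
  rw [formB, parity_eq, form, ← decV_apply, dotProduct, Finset.sum_range]
  refine Finset.sum_congr rfl fun i _ => ?_
  show bit ((u &&& apply formC v).testBit i.1) = _
  rw [Nat.testBit_and, bit_and]
  rfl

/-- An element with invariant form. -/
theorem form_smul {g : Mat} (h : gᵀ * Code28.dec formC * g = Code28.dec formC) (a b : Fin 28 → ZMod 2) :
    form (g *ᵥ a) (g *ᵥ b) = form a b := by
  unfold form
  conv_rhs => rw [← h, ← Matrix.mulVec_mulVec, ← Matrix.mulVec_mulVec, Matrix.dotProduct_mulVec,
    Matrix.vecMul_transpose]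

theorem eq_of_cols {A B : Mat} {N : ℕ}
    (h : ∀ z : Fin 28, A *ᵥ decV (lane N z.1) = B *ᵥ decV (lane N z.1)) :
    A * Code28.dec N = B * Code28.dec N := by
  funext w z
  exact congrFun (h z) w

end Cfsg.Agent.Lib.SporRu.OutVec
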