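import Cfsg.Agent.Lib.Schur.PcCollect

/-! Data: a presentation of a Sylow subgroup with the equations on tails. -/

set_option autoImplicit false
set_option maxRecDepth 100000

namespace Cfsg.Agent.Lib.SporRu.PcThreeData

open Cfsg.Agent.Lib.Schur.PcCollect (Equat Data)

def data : Data where
  p := 3
  n := 3
  fuel := 25
  W := [[], [1], [], [1, 1, 2], [2], []]
  phi := [[], [3, 3], []]
  conjs := [([[0], [1], [2]], [[0, 0], [1], [1, 1, 2, 2]])]

def eqs : List (Equat × List ℕ) := [
  (.overlap [] 2 2 [0], [0, 0, 2, 0, 0, 0]),
  (.conj 0 [([0, 0, 0], [])], [1]),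
  (.conj 0 [([1, 0], [0, 1])], [0, 1]),
  (.conj 0 [([2, 1], [1, 2])], [0, 0, 0, 0, 1]),
  (.conj 0 [([2, 2, 2], [])], [0, 0, 2, 0, 0, 1])]

def combos : List (List ℕ) := [
  [1, 1],
  [2, 2],
  [0],
  [],
  [3, 3],
  [0, 4, 4]]

def genIdx : List ℕ := [613, 629, 645]

def conjIdx : List ℕ := [660]

def sep : List (ℕ × List ℕ) := [
  (3705353928158687128793020018226652895302654291441671285136442764382395487490052, [3705353928158687128793020018226652895302654291441671285136442764382395487490052, 1816320508028767400099984241102879812271975621686998018184663921524776894464, 7590404846474817701432120052283685353017789376028830099762067488894348587167645696]),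
  (3705353928158687128793020018226652895302654291441671285136442764382395487490052, [3705353928158687128793020018226652895302654291441671285136442764382395487490052]),
  (1, [1])]

end Cfsg.Agent.Lib.SporRu.PcThreeData
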