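import Cfsg.Agent.Lib.SporRu.PcTwoData
import Cfsg.Agent.Lib.SporRu.Engine

/-!
Kernel checks of the presentation at the prime two.
-/

set_option autoImplicit false
set_option maxRecDepth 100000

namespace Cfsg.Agent.Lib.SporRu.PcTwoCheck

open Engine PcTwoData

theorem idx_ok : idxOk genIdx = true ∧ idxOk conjIdx = true := by decide +kernel

theorem rel_ok : relOk data genIdx = true := by decide +kernel

theorem sep_ok : sepOk data genIdx sep = true := by decide +kernel

theorem conj_ok : conjOk data genIdx conjIdx = true := by decide +kernel

end Cfsg.Agent.Lib.SporRu.PcTwoCheck
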