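import Cfsg.Agent.Lib.SporRu.Main
import Cfsg.Agent.Lib.SporRu.F5Code

/-!
The reduction of the lattice automorphism group to matrices over the field of five elements (i becomes 2).
-/

set_option autoImplicit false
set_option maxRecDepth 100000

namespace Cfsg.Agent.Lib.SporRu.Psi

open Cfsg.Spor Cfsg.Agent.Lib.RuLattice Vec Auto
open scoped MatrixGroups

/-- Matrices over the field of five elements. -/
abbrev Mat5 : Type := Matrix (Fin 28) (Fin 28) (ZMod 5)

/-- The first real coordinate of a Gaussian coordinate. -/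
def ev (q : Fin 28) : Fin 56 := ⟨2 * q.1, by omega⟩

/-- The second real coordinate of a Gaussian coordinate. -/
def od (q : Fin 28) : Fin 56 := ⟨2 * q.1 + 1, by omega⟩

/-- The residue of a vector. -/
def r5 : V56 →+ (Fin 28 → ZMod 5) :=
  AddMonoidHom.mk' (fun x q => (x (ev q) : ZMod 5) + 2 * (x (od q) : ZMod 5)) fun x y => by
    funext q
    simp only [Pi.add_apply, Int.cast_add]
    ring

theorem r5_apply (x : V56) (q : Fin 28) : r5 x q = (x (ev q) : ZMod 5) + 2 * (x (od q) : ZMod 5) := rfl

theorem rot_pair : ∀ q : Fin 28, Data.negI.testBit (ev q).1 = true ∧ Data.negI.testBit (od q).1 = false ∧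
    Fin.ofNat 56 (Data.srcI.getD (ev q).1 0) = od q ∧ Fin.ofNat 56 (Data.srcI.getD (od q).1 0) = ev q := by
  decide +kernel

theorem r5_rot (x : V56) : r5 (rot x) = (2 : ZMod 5) • r5 x := by
  funext q
  obtain ⟨h1, h2, h3, h4⟩ := rot_pair q
  simp only [r5_apply, rot, Basic.sperm, h1, h2, h3, h4, if_true, Bool.false_eq_true, if_false,
    Pi.smul_apply, smul_eq_mul, Int.cast_neg]
  have h5 : (5 : ZMod 5) = 0 := by decide
  linear_combination -(x (od q) : ZMod 5) * h5

/-- The matrix of an automorphism. -/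
def mat5 (f : fourRu) : Mat5 := Matrix.of fun q h => -r5 (fl (hom f (Bound.unit4 (ev h)))) q

theorem r5_hom (f : fourRu) (v : ruLattice) : r5 (fl (hom f v)) = Matrix.mulVec (mat5 f) (r5 (fl v)) := by
  have h4 : (4 : ℤ) • v = ∑ r : Fin 56, fl v r • Bound.unit4 r := by
    apply fl_injective
    rw [← flHom_apply, ← flHom_apply, map_sum, map_zsmul]
    funext i
    simp only [Finset.sum_apply, Pi.smul_apply, smul_eq_mul, map_zsmul, flHom_apply, Bound.unit4, fl_mkL,
      Member.four]
    rw [Finset.sum_eq_single i]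
    · simp [mul_comm]
    · intro r _ hr; rw [if_neg (fun h => hr (Fin.ext h.symm)), mul_zero]
    · intro h; exact absurd (Finset.mem_univ i) h
  have hodd : ∀ h : Fin 28, ruI (Bound.unit4 (ev h)) = Bound.unit4 (od h) := by
    intro h
    apply fl_injective
    rw [fl_ruI, Bound.unit4, Bound.unit4, fl_mkL, fl_mkL]
    revert h
    decide +kernel
  have e := congrArg (fun w => r5 (flHom (hom f w))) h4
  simp only [map_sum, map_zsmul, flHom_apply] at e
  funext q
  have eq' := congrFun e q
  simp only [Finset.sum_apply, Pi.smul_apply, zsmul_eq_mul, Pi.mul_apply, Pi.intCast_apply] at eq'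
  rw [← Equiv.sum_comp (finProdFinEquiv (m := 28) (n := 2)), Fintype.sum_prod_type] at eq'
  simp only [Fin.sum_univ_two] at eq'
  have hp : ∀ h : Fin 28, (finProdFinEquiv (h, (0 : Fin 2)) : Fin 56) = ev h ∧
      (finProdFinEquiv (h, (1 : Fin 2)) : Fin 56) = od h := fun h =>
    ⟨Fin.ext (by simp [ev, finProdFinEquiv]), Fin.ext (by simp [od, finProdFinEquiv]; omega)⟩
  simp only [hp, ← hodd, hom_ruI, fl_ruI, r5_rot, Pi.smul_apply, smul_eq_mul] at eq'
  simp only [Matrix.mulVec, dotProduct, mat5, Matrix.of_apply, r5_apply (fl v)]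
  have h5 : (4 : ZMod 5) = -1 := by decide
  push_cast at eq'
  rw [h5] at eq'
  calc r5 (fl (hom f v)) q = -(-1 * r5 (fl (hom f v)) q) := by ring
    _ = _ := by
      rw [eq', ← Finset.sum_neg_distrib]
      exact Finset.sum_congr rfl fun h _ => by ring

theorem mat5_one : mat5 1 = 1 := by
  ext q h
  show -r5 (fl (Bound.unit4 (ev h))) q = _
  rw [Bound.unit4, fl_mkL, r5_apply, Matrix.one_apply]
  revert q h
  decide +kernel

theorem mat5_mul (f g : fourRu) : mat5 (f * g) = mat5 f * mat5 g := by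
  ext q h
  show -r5 (fl (hom f (hom g (Bound.unit4 (ev h))))) q = _
  rw [r5_hom]
  simp only [Matrix.mulVec, dotProduct, Matrix.mul_apply, ← Finset.sum_neg_distrib]
  exact Finset.sum_congr rfl fun i _ => by simp only [mat5, Matrix.of_apply]; ring

/-- The homomorphism to invertible matrices. -/
def psi : fourRu →* GL (Fin 28) (ZMod 5) :=
  MonoidHom.toHomUnits { toFun := mat5, map_one' := mat5_one, map_mul' := mat5_mul }

theorem psi_val (f : fourRu) : ((psi f : GL (Fin 28) (ZMod 5)) : Mat5) = mat5 f := rfl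

theorem mat5_iAut : mat5 Lifts.iAut = (2 : ZMod 5) • 1 := by
  ext q h
  show -r5 (fl (ruI (Bound.unit4 (ev h)))) q = _
  rw [fl_ruI, Bound.unit4, fl_mkL, r5_apply, Matrix.smul_apply, Matrix.one_apply, smul_eq_mul]
  revert q h
  decide +kernel

/-- The entry of a lift, from its integral matrix. -/
def entryZ (U : List ℕ) (q h : ℕ) : ℤ :=
  -((Reduce.rowL U (2 * q)).getD (2 * h) 0 + 2 * (Reduce.rowL U (2 * q + 1)).getD (2 * h) 0)

theorem mat5_auto (P : Gens.Pair) (q h : Fin 28) : mat5 P.auto q h = (entryZ P.A.U q.1 h.1 : ZMod 5) := by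
  have e : ∀ i : Fin 56, fl (hom P.auto (Bound.unit4 (ev h))) i = Reduce.rowV P.A.U i.1 (ev h) := by
    intro i
    have := congrFun (P.A.four_map (Bound.unit4 (ev h))) i
    rw [Pi.smul_apply, smul_eq_mul, Gens.G_apply, Bound.unit4, fl_mkL] at this
    rw [Gens.Pair.hom_auto, Bound.unit4]
    have hs : dot (Member.four (ev h).1) (Reduce.rowV P.A.U i.1) = 4 * Reduce.rowV P.A.U i.1 (ev h) := by
      rw [dot, Finset.sum_eq_single (ev h)]
      · simp [Member.four]
      · intro r _ hr; rw [Member.four, if_neg (fun hh => hr (Fin.ext hh)), zero_mul]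
      · intro hh; exact absurd (Finset.mem_univ _) hh
    rw [hs] at this
    omega
  show -r5 _ q = _
  simp only [r5_apply, e, entryZ, Reduce.rowV, toV, Reduce.rowL]
  simp [ev, od]

end Cfsg.Agent.Lib.SporRu.Psi
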