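import Cfsg.Agent.Lib.SporRu.Auto
import Cfsg.Agent.Lib.SporRu.GensData
import Cfsg.Agent.Lib.SporRu.Bound

/-!
A basis of the lattice with its dual, reduction to the 28-dimensional space over the field of two elements,
and the representation of lattice automorphisms there.
-/

set_option autoImplicit false
set_option maxRecDepth 100000
set_option maxHeartbeats 1000000

namespace Cfsg.Agent.Lib.SporRu.Reduce

open Cfsg.Spor Cfsg.Agent.Lib.RuLattice Vec GensData Auto
open Cfsg.Agent.Lib.SporRu.Bound (certB inM_of_cert)

/-- An unpacked row of 56 integers. -/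
def unpack (n : ℕ) : List ℤ :=
  (List.range 56).map fun r => (Nat.shiftRight n (16 * r) % 65536 : ℕ) - (32768 : ℤ)

/-- The product of two lists. -/
def dotL : List ℤ → List ℤ → ℤ
  | a :: l, b :: m => a * b + dotL l m
  | _, _ => 0

theorem dotL_sum : ∀ (l m : List ℤ), l.length = m.length →
    dotL l m = ∑ i ∈ Finset.range l.length, l.getD i 0 * m.getD i 0
  | [], [], _ => by simp [dotL]
  | a :: l, b :: m, h => by
    rw [dotL, List.length_cons, Finset.sum_range_succ', dotL_sum l m (Nat.succ_injective h),
      List.getD_cons_zero, List.getD_cons_zero]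
    simp only [List.getD_cons_succ]
    ring

/-- A row as a vector. -/
def rowV (X : List ℕ) (i : ℕ) : V56 := toV (unpack (X.getD i 0))

/-- A row as a list. -/
def rowL (X : List ℕ) (i : ℕ) : List ℤ := unpack (X.getD i 0)

theorem length_unpack (n : ℕ) : (unpack n).length = 56 := by simp [unpack]

theorem dot_rows (X Y : List ℕ) (i j : ℕ) : dot (rowV X i) (rowV Y j) = dotL (rowL X i) (rowL Y j) := by
  rw [dotL_sum _ _ (by rw [rowL, rowL, length_unpack, length_unpack]), rowL, rowL, length_unpack,
    dot, ← Fin.sum_univ_eq_sum_range]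
  rfl

/-- Transposed tables. -/
def transB (X Y : List ℕ) : Bool :=
  (List.range 56).all fun i => (List.range 56).all fun j =>
    (rowL X i).getD j 0 == (rowL Y j).getD i 0

theorem trans_eq {X Y : List ℕ} (h : transB X Y = true) (i j : Fin 56) : rowV X i.1 j = rowV Y j.1 i := by
  simp only [transB, List.all_eq_true, List.mem_range, beq_iff_eq] at h
  exact h i i.2 j j.2

/-- Pairwise products equal to `k` times the identity. -/
def orthB (k : ℤ) (X Y : List ℕ) : Bool :=
  (List.range 56).all fun i => (List.range 56).all fun j =>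
    dotL (rowL X i) (rowL Y j) == if i = j then k else 0

theorem orth_eq {k : ℤ} {X Y : List ℕ} (h : orthB k X Y = true) (i j : Fin 56) :
    dot (rowV X i.1) (rowV Y j.1) = if i = j then k else 0 := by
  simp only [orthB, List.all_eq_true, List.mem_range, beq_iff_eq] at h
  rw [dot_rows, h i i.2 j j.2]
  simp only [Fin.ext_iff]

theorem sum_dot_mul {X Xt : List ℕ} (hX : transB X Xt = true) (x : V56) (Y : Fin 56 → ℤ) :
    ∑ i : Fin 56, dot x (rowV X i.1) * Y i = ∑ j : Fin 56, x j * dot (rowV Xt j.1) Y := by
  simp only [dot, Finset.mul_sum, Finset.sum_mul]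
  rw [Finset.sum_comm]
  exact Finset.sum_congr rfl fun j _ => Finset.sum_congr rfl fun i _ => by rw [trans_eq hX i j]; ring

theorem basis_cert : ∀ m : Fin 56, certB (rowL basisL m.1) (basisCert.getD m.1 []) = true ∧
    certB (rowL dualL m.1) (dualCert.getD m.1 []) = true := by decide +kernel

theorem basis_trans : transB dualL dualT = true ∧ transB basisL basisT = true := by decide +kernel

theorem basis_orth : orthB 4 dualT basisT = true := by decide +kernel

theorem basis_inM (m : Fin 56) : Basic.InM (rowV basisL m.1) := inM_of_cert (basis_cert m).1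

/-- The coefficient with respect to the basis. -/
def coef (m : Fin 56) (x : V56) : ℤ := dot x (rowV dualL m.1) / 4

theorem four_coef {x : V56} (hx : Basic.InM x) (m : Fin 56) : 4 * coef m x = dot x (rowV dualL m.1) :=
  Int.mul_ediv_cancel' (Member.four_dvd_dot hx (inM_of_cert (basis_cert m).2))

theorem decompose {x : V56} (hx : Basic.InM x) : ∑ m : Fin 56, coef m x • rowV basisL m.1 = x := by
  funext j
  have h : (4 : ℤ) * (∑ m : Fin 56, coef m x • rowV basisL m.1) j = 4 * x j := by
    simp only [Finset.sum_apply, Pi.smul_apply, smul_eq_mul, Finset.mul_sum, ← mul_assoc, four_coef hx]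
    rw [sum_dot_mul basis_trans.1 x (fun m => rowV basisL m.1 j)]
    rw [Finset.sum_eq_single j]
    · rw [show (fun m : Fin 56 => rowV basisL m.1 j) = rowV basisT j.1 from
        funext fun m => trans_eq basis_trans.2 m j, orth_eq basis_orth, if_pos rfl, mul_comm]
    · intro i _ hi
      rw [show (fun m : Fin 56 => rowV basisL m.1 j) = rowV basisT j.1 from
        funext fun m => trans_eq basis_trans.2 m j, orth_eq basis_orth, if_neg hi, mul_zero]
    · intro h; exact absurd (Finset.mem_univ j) h
  omega

theorem eight_dvd_rot {x : V56} (hx : Basic.InM x) (Z : V56)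
    (h : ∀ m : Fin 56, (8 : ℤ) ∣ dot Z (rowV basisL m.1 + rot (rowV basisL m.1))) :
    (8 : ℤ) ∣ dot Z (x + rot x) := by
  let g : V56 →+ ℤ := AddMonoidHom.mk' (fun y => dot Z (y + rot y)) fun y y' => by
    rw [show rot (y + y') = rot y + rot y' from funext fun i => by
      simp only [rot, Basic.sperm, Pi.add_apply]; split_ifs <;> ring, ← dot_add_right]
    congr 1; abel
  show (8 : ℤ) ∣ g x
  rw [← decompose hx, map_sum]
  refine Finset.dvd_sum fun m _ => ?_
  rw [map_zsmul, smul_eq_mul]
  exact dvd_mul_of_dvd_right (h m) _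

/-- The functional giving the bit `k` of the reduction, times four. -/
def redQ (k : Fin 28) : V56 := rowV redL k.1

theorem red_cert : ∀ k : Fin 28, certB (rowL redL k.1) (redCert.getD k.1 []) = true ∧
    certB (rowL repL k.1) (repCert.getD k.1 []) = true := by decide +kernel

theorem red_basis : ∀ k : Fin 28, redQ k = rowV basisL (2 * k.1) + rot (rowV basisL (2 * k.1)) := by
  decide +kernel

theorem basis_odd : ∀ k : Fin 28, rot (rowV basisL (2 * k.1)) = rowV basisL (2 * k.1 + 1) ∧
    rot (rowV basisL (2 * k.1 + 1)) = -rowV basisL (2 * k.1) := by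
  decide +kernel

/-- A quarter of the product with a reduction functional. -/
def qdot (k : Fin 28) (v : ruLattice) : ℤ := dot (fl v) (redQ k) / 4

theorem four_qdot (k : Fin 28) (v : ruLattice) : 4 * qdot k v = dot (fl v) (redQ k) :=
  Int.mul_ediv_cancel' (Member.four_dvd_dot (fl_inM v) (inM_of_cert (red_cert k).1))

/-- The reduction of a lattice point. -/
def red : ruLattice →+ (Fin 28 → ZMod 2) :=
  AddMonoidHom.mk' (fun v k => ((qdot k v : ℤ) : ZMod 2)) fun v w => by
    funext k
    have h : qdot k (v + w) = qdot k v + qdot k w := by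
      have a := four_qdot k (v + w)
      have b := four_qdot k v
      have c := four_qdot k w
      rw [fl_add, dot_add_left] at a
      omega
    simp only [h, Int.cast_add, Pi.add_apply]

theorem red_apply (v : ruLattice) (k : Fin 28) : red v k = (qdot k v : ZMod 2) := rfl

theorem red_eq_zero_iff (v : ruLattice) : red v = 0 ↔ ∀ d : ruLattice, (8 : ℤ) ∣ dot (fl v) (fl d + rot (fl d)) := by
  constructor
  · intro h d
    have hq : ∀ k : Fin 28, (8 : ℤ) ∣ dot (fl v) (redQ k) := by
      intro k
      have h1 : ((qdot k v : ℤ) : ZMod 2) = 0 := congrFun h k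
      rw [ZMod.intCast_zmod_eq_zero_iff_dvd] at h1
      rw [← four_qdot]
      obtain ⟨t, ht⟩ := h1
      exact ⟨t, by rw [ht]; push_cast; ring⟩
    refine eight_dvd_rot (fl_inM d) _ fun m => ?_
    obtain ⟨h1, h2⟩ := basis_odd ⟨m.1 / 2, by omega⟩
    have hk := hq ⟨m.1 / 2, by omega⟩
    rw [red_basis] at hk
    rcases Nat.mod_two_eq_zero_or_one m.1 with hm | hm
    · rwa [show m.1 = 2 * (m.1 / 2) by omega]
    · rw [show m.1 = 2 * (m.1 / 2) + 1 by omega]
      simp only at h1 h2
      rw [h2, ← h1, dot_add_right]
      rw [dot_add_right] at hk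
      have h4 : (4 : ℤ) ∣ dot (fl v) (rowV basisL (2 * (m.1 / 2))) :=
        Member.four_dvd_dot (fl_inM v) (basis_inM ⟨2 * (m.1 / 2), by omega⟩)
      rw [dot_comm (fl v) (-_), dot_neg_left, dot_comm _ (fl v)]
      simp only at hk
      omega
  · intro h
    funext k
    show ((qdot k v : ℤ) : ZMod 2) = 0
    rw [ZMod.intCast_zmod_eq_zero_iff_dvd]
    have := h (mkL _ (basis_inM ⟨2 * k.1, by omega⟩))
    rw [fl_mkL, ← red_basis, ← four_qdot] at this
    push_cast
    omega

theorem red_hom_zero (f : fourRu) {v : ruLattice} (h : red v = 0) : red (hom f v) = 0 := by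
  rw [red_eq_zero_iff] at h ⊢
  intro d
  have e : hom f (hom f⁻¹ d) = d := by
    simp only [hom_apply, Subgroup.coe_inv, Equiv.Perm.coe_inv, Equiv.apply_symm_apply]
  have := h (hom f⁻¹ d)
  rw [dot_add_right, ← dot_hom f v (hom f⁻¹ d), ← dot_hom_rot f v (hom f⁻¹ d), e, ← dot_add_right] at this
  exact this

/-- A lift of a unit vector. -/
def rep (k : Fin 28) : ruLattice := mkL _ (inM_of_cert (red_cert k).2)

theorem red_rep_check : ∀ k l : Fin 28,
    dotL (rowL repL k.1) (rowL redL l.1) / 4 % 2 = if k = l then 1 else 0 := by decide +kernel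

theorem red_rep (k : Fin 28) : red (rep k) = Pi.single k 1 := by
  funext l
  have e : qdot l (rep k) % 2 = if k = l then 1 else 0 := by
    rw [qdot, rep, fl_mkL, ← red_rep_check k l, ← dot_rows]
    rfl
  rw [red_apply, ← ZMod.intCast_mod _ 2]
  push_cast
  rw [e, Pi.single_apply]
  simp only [eq_comm]
  split_ifs <;> simp

/-- The matrix of a lattice automorphism modulo two. -/
def mat (f : fourRu) : Matrix (Fin 28) (Fin 28) (ZMod 2) := Matrix.of fun w k => red (hom f (rep k)) w

theorem red_hom (f : fourRu) (v : ruLattice) : red (hom f v) = Matrix.mulVec (mat f) (red v) := by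
  set y := v - ∑ k : Fin 28, qdot k v • rep k
  have hy : red y = 0 := by
    funext w
    simp only [y, map_sub, map_sum, map_zsmul, red_rep, Pi.sub_apply, Finset.sum_apply, Pi.smul_apply,
      Pi.single_apply, smul_ite, zsmul_one, smul_zero, Finset.sum_ite_eq, Finset.mem_univ, if_true]
    exact sub_self _
  have h := red_hom_zero f hy
  simp only [y, map_sub, map_sum, map_zsmul, sub_eq_zero] at h
  rw [h]
  funext w
  simp only [Finset.sum_apply, Pi.smul_apply, Matrix.mulVec, dotProduct, mat, Matrix.of_apply, red_apply,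
    zsmul_eq_mul]
  exact Finset.sum_congr rfl fun k _ => mul_comm _ _

theorem mat_one : mat 1 = 1 := by
  funext w k
  show red (hom 1 (rep k)) w = _
  rw [show hom 1 (rep k) = rep k from rfl, red_rep, Pi.single_apply, Matrix.one_apply]

theorem mat_mul (f g : fourRu) : mat (f * g) = mat f * mat g := by
  funext w k
  show red (hom (f * g) (rep k)) w = _
  rw [show hom (f * g) (rep k) = hom f (hom g (rep k)) from rfl, red_hom]
  rfl

/-- The representation. -/
def rho : fourRu →* Matrix.GeneralLinearGroup (Fin 28) (ZMod 2) :=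
  MonoidHom.toHomUnits { toFun := mat, map_one' := mat_one, map_mul' := mat_mul }

theorem rho_val (f : fourRu) : (rho f : Matrix (Fin 28) (Fin 28) (ZMod 2)) = mat f := rfl

end Cfsg.Agent.Lib.SporRu.Reduce
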