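import Cfsg.Agent.Lib.SporRu.Enum
import Cfsg.Agent.Lib.SporRu.BoundData

/-!
One kernel pass over the norm-16 vectors: class sizes for the base and uniqueness of the separating vectors.
-/

set_option autoImplicit false
set_option maxRecDepth 100000
set_option maxHeartbeats 0

namespace Cfsg.Agent.Lib.SporRu.Stats

open EnumDefs EnumArith Vec BoundData

/-- One byte of the linear functional. -/
def lane (t n : ℕ) : ℕ := Nat.shiftRight t (112 * (n % 256)) % 2 ^ 112

/-- The linear functional on one bit mask. -/
def lnat (p : ℕ) : ℕ :=
  lane keyTab0 p + lane keyTab1 (Nat.shiftRight p 8) + lane keyTab2 (Nat.shiftRight p 16) +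
    lane keyTab3 (Nat.shiftRight p 24) + lane keyTab4 (Nat.shiftRight p 32) +
    lane keyTab5 (Nat.shiftRight p 40) + lane keyTab6 (Nat.shiftRight p 48)

/-- The key of a signed vector. -/
def nkey (z : ℕ) (pn : ℕ × ℕ) : ℕ :=
  (z * (lnat pn.1 + keyOff * pc56 pn.2) + keyMod -
    z * (lnat pn.2 + keyOff * pc56 pn.1) % keyMod) % keyMod

/-- Membership in the class `k`. -/
def inClass (k key : ℕ) : Bool :=
  Nat.beq (key % 256 ^ (2 * k)) (baseKeys.getD k 0 % 256 ^ (2 * k))

/-- The packed indicators of the six classes and of the separating keys. -/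
def pack (key : ℕ) : ℕ :=
  cond (inClass 0 key) 1 0 + cond (inClass 1 key) (2 ^ 20) 0 + cond (inClass 2 key) (2 ^ 40) 0 +
    cond (inClass 3 key) (2 ^ 60) 0 + cond (inClass 4 key) (2 ^ 80) 0 + cond (inClass 5 key) (2 ^ 100) 0 +
    cond (Nat.beq (selTree.get key) 0) 0 (2 ^ 120)

/-- Totals over a list. -/
def statL (z : ℕ) : List (ℕ × ℕ) → ℕ
  | [] => 0
  | pn :: l => pack (nkey z pn) + statL z l

/-- Totals over a tree. -/
def statT : T → ℕ
  | .leaf => 0
  | .node l e r => statT l + statL 1 e.cands + statT r

theorem statL_append (z : ℕ) : ∀ a b : List (ℕ × ℕ), statL z (a ++ b) = statL z a + statL z b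
  | [], b => by simp [statL]
  | p :: a, b => by simp [statL, statL_append z a b, Nat.add_assoc]

theorem statT_eq : ∀ t : T, statT t = statL 1 (t.list.flatMap Entry.cands)
  | .leaf => rfl
  | .node l e r => by
    simp only [statT, T.list, List.flatMap_append, List.flatMap_cons, statL_append, statT_eq l,
      statT_eq r, Nat.add_assoc]

/-- The number of vectors in class `k`. -/
def count (z : ℕ) (l : List (ℕ × ℕ)) (k : ℕ) : ℕ := l.countP fun pn => inClass k (nkey z pn)

/-- The number of vectors with a separating key. -/
def countSel (z : ℕ) (l : List (ℕ × ℕ)) : ℕ :=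
  l.countP fun pn => !Nat.beq (selTree.get (nkey z pn)) 0

theorem statL_eq (z : ℕ) : ∀ l : List (ℕ × ℕ), statL z l = count z l 0 + count z l 1 * 2 ^ 20 +
    count z l 2 * 2 ^ 40 + count z l 3 * 2 ^ 60 + count z l 4 * 2 ^ 80 + count z l 5 * 2 ^ 100 +
    countSel z l * 2 ^ 120
  | [] => by simp [statL, count, countSel]
  | p :: l => by
    simp only [statL, statL_eq z l, count, countSel, List.countP_cons, pack, Nat.add_mul]
    cases inClass 0 (nkey z p) <;> cases inClass 1 (nkey z p) <;> cases inClass 2 (nkey z p) <;>
      cases inClass 3 (nkey z p) <;> cases inClass 4 (nkey z p) <;> cases inClass 5 (nkey z p) <;>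
      cases Nat.beq (selTree.get (nkey z p)) 0 <;> simp <;> omega

theorem count_le (z : ℕ) (l : List (ℕ × ℕ)) (k : ℕ) : count z l k ≤ l.length := List.countP_le_length

theorem countSel_le (z : ℕ) (l : List (ℕ × ℕ)) : countSel z l ≤ l.length := List.countP_le_length

theorem stat000 : statT EnumData000.part = 100663776 := by decide +kernel

theorem stat001 : statT EnumData001.part = 1329227995786124798723423888662857088 := by decide +kernel

theorem stat010 : statT EnumData010.part = 5316914518450535354630972457625848656 := by decide +kernel

theorem stat011 : statT EnumData011.part = 7975370510015531397160117066304325952 := by decide +kernel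

theorem stat100 : statT EnumData100.part = 5316911983143290271379937128527956704 := by decide +kernel

theorem stat101 : statT EnumData101.part = 6646139978925788290338658726996609472 := by decide +kernel

theorem stat110 : statT EnumData110.part = 7975367974716748792340541132257626704 := by decide +kernel

theorem stat111 : statT EnumData111.part = 2417851639233656530142160 := by decide +kernel

theorem stat_signs : statL 1 Enum.signVecs = 34559932961040436756212884057006030592 := by
  rw [Enum.signVecs, ← statT_eq]
  simp only [EnumData.tree, statT, stat000, stat001, stat010, stat011, stat100, stat101, stat110, stat111]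
  decide +kernel

theorem stat_four : statL 4 Enum.fourVecs = 2658455991569831745807614120560689264 := by decide +kernel

theorem length_four : Enum.fourVecs.length = 112 := by decide +kernel

/-- The number of candidates of a tree. -/
def lenT : T → ℕ
  | .leaf => 0
  | .node l e r => lenT l + (match e with | .good _ _ fl _ => 2 ^ fl.length | _ => 0) + lenT r

theorem length_spanX (a : ℕ) : ∀ gs : List ℕ, (spanX a gs).length = 2 ^ gs.length
  | [] => rfl
  | g :: l => by
    rw [spanX, List.length_append, length_spanX a l, length_spanX (Nat.xor a g) l, List.length_cons,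
      pow_succ]
    omega

theorem lenT_eq : ∀ t : T, (t.list.flatMap Entry.cands).length = lenT t
  | .leaf => rfl
  | .node l e r => by
    simp only [T.list, List.flatMap_append, List.flatMap_cons, List.length_append, lenT, lenT_eq l,
      lenT_eq r, Nat.add_assoc]
    cases e <;> simp [Entry.cands, length_spanX]

theorem length_signs : Enum.signVecs.length = 16128 := by
  rw [Enum.signVecs, lenT_eq]
  decide +kernel

/-- The class sizes and the number of separating vectors. -/
theorem counts :
    count 4 Enum.fourVecs 0 = 112 ∧ count 1 Enum.signVecs 0 = 16128 ∧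
    count 4 Enum.fourVecs 1 = 0 ∧ count 1 Enum.signVecs 1 = 2304 ∧
    count 4 Enum.fourVecs 2 = 0 ∧ count 1 Enum.signVecs 2 = 78 ∧
    count 4 Enum.fourVecs 3 = 0 ∧ count 1 Enum.signVecs 3 = 2 ∧
    count 4 Enum.fourVecs 4 = 0 ∧ count 1 Enum.signVecs 4 = 25 ∧
    count 4 Enum.fourVecs 5 = 0 ∧ count 1 Enum.signVecs 5 = 4 ∧
    countSel 4 Enum.fourVecs = 2 ∧ countSel 1 Enum.signVecs = 26 := by
  have h4 := stat_four
  have hs := stat_signs
  rw [statL_eq] at h4 hs
  have := (count_le 4 Enum.fourVecs 0).trans_eq length_four
  have := (count_le 4 Enum.fourVecs 1).trans_eq length_four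
  have := (count_le 4 Enum.fourVecs 2).trans_eq length_four
  have := (count_le 4 Enum.fourVecs 3).trans_eq length_four
  have := (count_le 4 Enum.fourVecs 4).trans_eq length_four
  have := (count_le 4 Enum.fourVecs 5).trans_eq length_four
  have := (countSel_le 4 Enum.fourVecs).trans_eq length_four
  have := (count_le 1 Enum.signVecs 0).trans_eq length_signs
  have := (count_le 1 Enum.signVecs 1).trans_eq length_signs
  have := (count_le 1 Enum.signVecs 2).trans_eq length_signs
  have := (count_le 1 Enum.signVecs 3).trans_eq length_signs
  have := (count_le 1 Enum.signVecs 4).trans_eq length_signs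
  have := (count_le 1 Enum.signVecs 5).trans_eq length_signs
  have := (countSel_le 1 Enum.signVecs).trans_eq length_signs
  omega

end Cfsg.Agent.Lib.SporRu.Stats
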