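import Mathlib
import Cfsg.Agent.Lib.RuLattice.Basic

/-!
The rank-28 Gaussian lattice in real coordinates: dot products, multiplication by i, and sparse evaluation
of a linear functional on vectors given by two bit masks.
-/

set_option autoImplicit false

namespace Cfsg.Agent.Lib.SporRu.Vec

open Cfsg.Spor Cfsg.Agent.Lib.RuLattice

/-- Real coordinate vectors. -/
abbrev V56 : Type := Fin 56 → ℤ

/-- The dot product. -/
def dot (x y : V56) : ℤ := ∑ i, x i * y i

theorem dot_add_left (x x' y : V56) : dot (x + x') y = dot x y + dot x' y := by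
  simp only [dot, Pi.add_apply, add_mul, Finset.sum_add_distrib]

theorem dot_comm (x y : V56) : dot x y = dot y x := by
  simp only [dot, mul_comm]

theorem dot_add_right (x y y' : V56) : dot x (y + y') = dot x y + dot x y' := by
  rw [dot_comm, dot_add_left, dot_comm y, dot_comm y']

theorem dot_zero_left (y : V56) : dot 0 y = 0 := by simp [dot]

theorem dot_smul_left (k : ℤ) (x y : V56) : dot (k • x) y = k * dot x y := by
  simp only [dot, Pi.smul_apply, smul_eq_mul, Finset.mul_sum, mul_assoc]

theorem dot_neg_left (x y : V56) : dot (-x) y = -dot x y := by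
  simp only [dot, Pi.neg_apply, neg_mul, Finset.sum_neg_distrib]

/-- Multiplication by i in real coordinates. -/
def rot (x : V56) : V56 := Basic.sperm Data.srcI Data.negI x

theorem flat_gI (v : RuVec) : Basic.flat (gI • v) = rot (Basic.flat v) := Basic.flat_I v

theorem flat_injective : Function.Injective Basic.flat := by
  intro v w h
  funext p
  obtain ⟨n, t⟩ := p
  have hn := n.2
  have ht := t.2
  have h0 := congrFun h ⟨8 * n.1 + 2 * t.1, by omega⟩
  have h1 := congrFun h ⟨8 * n.1 + 2 * t.1 + 1, by omega⟩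
  have e1 : Fin.ofNat 7 ((8 * n.1 + 2 * t.1) / 8) = n :=
    Fin.ext (by simp only [Fin.val_ofNat]; omega)
  have e2 : Fin.ofNat 4 ((8 * n.1 + 2 * t.1) / 2) = t :=
    Fin.ext (by simp only [Fin.val_ofNat]; omega)
  have e3 : Fin.ofNat 7 ((8 * n.1 + 2 * t.1 + 1) / 8) = n :=
    Fin.ext (by simp only [Fin.val_ofNat]; omega)
  have e4 : Fin.ofNat 4 ((8 * n.1 + 2 * t.1 + 1) / 2) = t :=
    Fin.ext (by simp only [Fin.val_ofNat]; omega)
  simp only [Basic.flat, e1, e2, e3, e4] at h0 h1
  rw [if_pos (by omega), if_pos (by omega)] at h0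
  rw [if_neg (by omega), if_neg (by omega)] at h1
  exact Zsqrtd.ext h0 h1

/-- The bit `i` as an integer. -/
def bitz (m i : ℕ) : ℤ := if m.testBit i then 1 else 0

/-- The sparse evaluation: the sum of the entries at the bits of `p` minus those at the bits of `n`. -/
def lin : List ℤ → ℕ → ℕ → ℤ
  | [], _, _ => 0
  | q :: l, p, n =>
    (cond (Nat.beq (p % 2) 1) q 0 - cond (Nat.beq (n % 2) 1) q 0) + lin l (p / 2) (n / 2)

theorem lin_eq : ∀ (l : List ℤ) (p n : ℕ),
    lin l p n = ∑ i ∈ Finset.range l.length, l.getD i 0 * (bitz p i - bitz n i)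
  | [], p, n => by simp [lin]
  | q :: l, p, n => by
    have hb : ∀ m : ℕ, cond (Nat.beq (m % 2) 1) q 0 = q * bitz m 0 := by
      intro m
      rcases Nat.mod_two_eq_zero_or_one m with h | h <;>
        simp only [bitz, Nat.testBit_zero, h] <;> simp [Nat.beq]
    have hs : ∀ m i : ℕ, bitz m (i + 1) = bitz (m / 2) i := by
      intro m i
      simp [bitz, Nat.testBit_add_one]
    rw [lin, lin_eq l, List.length_cons, Finset.sum_range_succ', hb, hb]
    simp only [List.getD_cons_succ, List.getD_cons_zero, hs]
    ring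

/-- A vector as a list. -/
def toV (l : List ℤ) : V56 := fun i => l.getD i 0

/-- The vector with entries `s` at the bits of `p` and `-s` at the bits of `n`. -/
def mvec (s : ℤ) (p n : ℕ) : V56 := fun i => s * (bitz p i - bitz n i)

theorem dot_mvec (s : ℤ) (p n : ℕ) (l : List ℤ) (hl : l.length = 56) :
    dot (mvec s p n) (toV l) = s * lin l p n := by
  rw [lin_eq, hl, dot, Finset.mul_sum, ← Fin.sum_univ_eq_sum_range]
  refine Finset.sum_congr rfl fun i _ => ?_
  simp only [mvec, toV]
  ring

end Cfsg.Agent.Lib.SporRu.Vec
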